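import Cfsg.Agent.FischerThm.Tools
import Cfsg.Agent.FischerTransitivity.Connected
import Cfsg.Agent.FischerRankThree.Main

/-!
# First consequences of the generic hypotheses
-/

set_option autoImplicit false

universe u

namespace CfsgLib.FischerThm

open Cfsg CfsgLib.FischerTypes
open scoped commutatorElement

variable {G : Type u} [Group G] [Finite G] {D : Set G}

/-- The standing facts used by Fischer's transitivity theorems. -/
theorem facts_of_simple (hD : IsThreeTranspositionClass D) (hZ : Subgroup.center G = ⊥)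
    (hs : IsSimpleGroup (commutator G)) (hw : ∃ a ∈ D, (perp D a).Nonempty) :
    IsPrimitiveUnderConj D ∧ pCore 2 G = ⊥ ∧ pCore 3 G = ⊥ ∧ (commutingGraph D).Connected ∧
      (∃ x y : commutator G, x * y ≠ y * x) ∧
      (∀ N : Subgroup G, N.Normal → Group.IsSolvable ↥N → N = ⊥) ∧
      ⁅commutator G, commutator G⁆ = commutator G := by
  obtain ⟨a, ha, b, hb⟩ := hw
  have hw' : ∃ a ∈ D, ∃ b ∈ D, a ≠ b ∧ Commute a b := ⟨a, ha, b, hb.1, hb.2.1.symm, hb.2.2⟩
  have hG := Transpositions.isThreeTranspositionGroup_of_class hD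
  have hp := Transpositions.primitive_of_isSimpleGroup_commutator hD hw' hZ hs
  obtain ⟨h2, h3, hc⟩ := Transpositions.cores_of_primitive hG hp hw' hZ
  have hna : ∃ x y : commutator G, x * y ≠ y * x := by
    by_contra hab
    push Not at hab
    haveI := hs
    letI : CommGroup (commutator G) := CommGroup.mk hab
    have hpr : (Nat.card (commutator G)).Prime := IsSimpleGroup.prime_card
    haveI : Fact (Nat.card (commutator G)).Prime := ⟨hpr⟩
    have hP : IsPGroup (Nat.card (commutator G)) (commutator G) := IsPGroup.of_card (n := 1) (by simp)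
    have hle := PLocal.le_pCore (N := commutator G) hP
    have hbot : commutator G = ⊥ := by
      rw [eq_bot_iff]
      refine hle.trans ?_
      rcases Nat.lt_or_ge 3 (Nat.card (commutator G)) with h | h
      · exact hZ ▸ Transpositions.pCore_le_center_of_three_lt hG hpr h
      · have := hpr.two_le
        rcases (by omega : Nat.card (commutator G) = 2 ∨ Nat.card (commutator G) = 3) with h' | h' <;>
          rw [h']
        exacts [h2.le, h3.le]
    exact hpr.one_lt.ne' (by rw [hbot]; exact Subgroup.card_bot)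
  refine ⟨hp, h2, h3, hc, hna, FischerRankThree.solvable_normal_eq_bot hs hna hZ, ?_⟩
  haveI := hs
  have hle : ⁅commutator G, commutator G⁆ ≤ commutator G := Subgroup.commutator_le_left _ _
  rcases (inferInstance : (⁅commutator G, commutator G⁆.subgroupOf (commutator G)).Normal).eq_bot_or_eq_top
    with h | h
  · exfalso
    obtain ⟨x, y, hxy⟩ := hna
    apply hxy
    have hmem : (⁅x, y⁆ : commutator G) ∈ ⁅commutator G, commutator G⁆.subgroupOf (commutator G) :=
      Subgroup.mem_subgroupOf.2 (Subgroup.commutator_mem_commutator x.2 y.2)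
    rw [h, Subgroup.mem_bot] at hmem
    exact commutatorElement_eq_one_iff_mul_comm.1 hmem
  · exact le_antisymm hle (Subgroup.subgroupOf_eq_top.1 h)

namespace Generic

variable (h : Generic D)
include h

theorem group : IsThreeTranspositionGroup D := Transpositions.isThreeTranspositionGroup_of_class h.cls

theorem prim : IsPrimitiveUnderConj D := (facts_of_simple h.cls h.center h.simple h.pair).1

theorem connected : (commutingGraph D).Connected :=
  (facts_of_simple h.cls h.center h.simple h.pair).2.2.2.1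

theorem hsol : ∀ N : Subgroup G, N.Normal → Group.IsSolvable ↥N → N = ⊥ :=
  (facts_of_simple h.cls h.center h.simple h.pair).2.2.2.2.2.1

theorem hperf : ⁅commutator G, commutator G⁆ = commutator G :=
  (facts_of_simple h.cls h.center h.simple h.pair).2.2.2.2.2.2

theorem perp_nonempty {d : G} (hd : d ∈ D) : (perp D d).Nonempty := by
  obtain ⟨a, ha, b, hb⟩ := h.pair
  obtain ⟨g, rfl⟩ := Transpositions.exists_conj_of_class h.cls ha hd
  exact ⟨g * b * g⁻¹, h.group.2.1 g b hb.1, fun he => hb.2.1 (mul_left_cancel (mul_right_cancel he)),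
    (commute_conj_iff' g a b).2 hb.2.2⟩

/-- Conjugates of non-commuting pairs. -/
theorem exists_conj_pair {x y x' y' : G} (hx : x ∈ D) (hy : y ∈ D) (hxy : ¬ Commute x y) (hx' : x' ∈ D)
    (hy' : y' ∈ D) (hxy' : ¬ Commute x' y') : ∃ g : G, g * x * g⁻¹ = x' ∧ g * y * g⁻¹ = y' := by
  obtain ⟨g, rfl⟩ := Transpositions.exists_conj_of_class h.cls hx hx'
  have hc : ¬ Commute (g * x * g⁻¹) (g * y * g⁻¹) := fun hc => hxy ((commute_conj_iff' g x y).1 hc)
  obtain ⟨k, hk1, hk2⟩ := FischerTransitivity.transitive_on_noncommuting h.cls h.hsol h.hperf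
    (h.perp_nonempty hx') hx' (h.group.2.1 g y hy) hy' hc hxy'
  exact ⟨k * g, by rw [← hk1]; group; , by rw [← hk2]; group⟩

theorem transitive_perp {d a b : G} (hd : d ∈ D) (ha : a ∈ perp D d) (hb : b ∈ perp D d) :
    ∃ g ∈ Subgroup.closure (perp D d), g * a * g⁻¹ = b :=
  FischerTransitivity.transitive_on_commSet h.hsol h.cls hd ha hb

theorem noCentral {d : G} (hd : d ∈ D) : NoCentralPerp D d := by
  intro x hx
  by_contra hcon
  push Not at hcon
  -- then every member has a single partner
  have hsing : perp D d = {x} := by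
    ext y
    refine ⟨fun hy => ?_, fun hy => hy ▸ hx⟩
    obtain ⟨g, hg, rfl⟩ := h.transitive_perp hd hx hy
    have hgx : Commute g x := by
      have hle : Subgroup.closure (perp D d) ≤ Subgroup.centralizer ({x} : Set G) :=
        (Subgroup.closure_le _).2 fun z hz => Subgroup.mem_centralizer_singleton_iff.2 (hcon z hz).eq.symm
      exact Subgroup.mem_centralizer_singleton_iff.1 (hle hg)
    rw [Set.mem_singleton_iff, hgx.eq, mul_inv_cancel_right]
  have hxd : perp D x = {d} := by
    obtain ⟨g, hg⟩ := Transpositions.exists_conj_of_class h.cls hd hx.1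
    have := FischerTransitivity.commSet_ncard_eq h.cls hd hx.1
    change (perp D d).ncard = (perp D x).ncard at this
    rw [hsing, Set.ncard_singleton] at this
    obtain ⟨e, he⟩ := Set.ncard_eq_one.1 this.symm
    have hdx : d ∈ perp D x := perp_symm' hd hx
    rw [he, Set.mem_singleton_iff] at hdx
    rw [he, hdx]
  have hclosed : ∀ z, z ∈ FischerTransitivity.commClass D d → z = d ∨ z = x := by
    intro z hz
    induction hz with
    | refl => exact Or.inl rfl
    | @tail u v _ huv ih =>
      by_cases hvu : v = u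
      · exact hvu ▸ ih
      have hv : v ∈ perp D u := ⟨huv.2.1, hvu, huv.2.2⟩
      rcases ih with rfl | rfl
      · rw [hsing] at hv; exact Or.inr hv
      · rw [hxd] at hv; exact Or.inl hv
  have hcomm : ∀ y ∈ D, Commute d y := fun y hy => by
    rcases hclosed y (FischerTransitivity.mem_commClass h.cls h.hperf hd hy) with rfl | rfl
    exacts [Commute.refl _, hx.2.2]
  have : d ∈ Subgroup.center G :=
    Transpositions.mem_center_of_commute_generators h.group.2.2 fun y hy => (hcomm y hy).symm
  rw [h.center, Subgroup.mem_bot] at this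
  exact FischerTypes.ne_one h.cls.1 hd this

theorem sNoCentral {d : G} (hd : d ∈ D) : SNoCentral (perp D d) := h.noCentral hd

theorem perp_closed {d : G} : ∀ a ∈ perp D d, ∀ b ∈ perp D d, a * b * a ∈ perp D d := by
  intro a ha b hb
  have := FischerTypes.conj_mem_perp h.group (g := a) ha.2.2.symm hb
  rwa [inv_eq h.cls.1 ha.1] at this

end Generic

theorem perp_subset (D : Set G) (d : G) : perp D d ⊆ D := fun _ hx => hx.1

/-- A central extension has no new `p`-core. -/
theorem pCore_quotient_center_eq_bot {H : Type*} [Group H] [Finite H] {p : ℕ} [Fact p.Prime]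
    (hc : pCore p H ≤ Subgroup.center H) : pCore p (H ⧸ Subgroup.center H) = ⊥ := by
  let π := QuotientGroup.mk' (Subgroup.center H)
  have hπ : Function.Surjective π := QuotientGroup.mk'_surjective _
  set P := (pCore p (H ⧸ Subgroup.center H)).comap π with hP
  let f : ↥P →* ↥(pCore p (H ⧸ Subgroup.center H)) := π.subgroupComap _
  have hf : Function.Surjective f := MonoidHom.subgroupComap_surjective_of_surjective π _ hπ
  have hker : f.ker ≤ Subgroup.center ↥P := by
    intro x hx
    rw [Subgroup.mem_center_iff]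
    intro g
    have hxc : (x : H) ∈ Subgroup.center H :=
      (QuotientGroup.eq_one_iff _).1 (congrArg Subtype.val (MonoidHom.mem_ker.1 hx))
    exact Subtype.ext (Subgroup.mem_center_iff.1 hxc g)
  haveI : Group.IsNilpotent ↥(pCore p (H ⧸ Subgroup.center H)) := (PLocal.isPGroup_pCore p _).isNilpotent
  haveI : Group.IsNilpotent ↥P := Subgroup.isNilpotent_of_ker_le_center f hker
  obtain ⟨S⟩ : Nonempty (Sylow p ↥P) := inferInstance
  haveI hSn : (S : Subgroup ↥P).Normal :=
    Sylow.normal_of_normalizerCondition Group.normalizerCondition_of_isNilpotent S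
  haveI := Sylow.characteristic_of_normal S hSn
  haveI := PLocal.normal_map_subtype P (S : Subgroup ↥P)
  have hSle : (S : Subgroup ↥P).map P.subtype ≤ Subgroup.center H :=
    (PLocal.le_pCore (S.2.map _)).trans hc
  have hle : (S : Subgroup ↥P) ≤ f.ker := fun x hx => MonoidHom.mem_ker.2 (Subtype.ext
    ((QuotientGroup.eq_one_iff _).2 (hSle ⟨x, hx, rfl⟩)))
  have hidx : f.ker.index = Nat.card ↥(pCore p (H ⧸ Subgroup.center H)) := by
    rw [Subgroup.index_ker, MonoidHom.range_eq_top.2 hf, Subgroup.card_top]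
  obtain ⟨n, hn⟩ := IsPGroup.iff_card.1 (PLocal.isPGroup_pCore p (H ⧸ Subgroup.center H))
  rcases Nat.eq_zero_or_pos n with rfl | hn0
  · rw [pow_zero] at hn
    exact Subgroup.card_eq_one.1 hn
  · exfalso
    refine S.not_dvd_index (dvd_trans ?_ (Subgroup.index_dvd_of_le hle))
    rw [hidx, hn]
    exact dvd_pow_self p hn0.ne'

/-- The neighbourhood of a member in the generic case. -/
theorem hBasic_aux (h : Generic D) {d : G} (hd : d ∈ D) :
    NoCentralPerp D d ∧ LocalGood (sImg (perp D d)) ∧
      (commutingGraph (sImg (perp D d))).Connected ∧ IsSimpleGroup (commutator (SQuot (perp D d))) := by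
  have hS := h.sNoCentral hd
  have hcl := h.perp_closed (d := d)
  have hsub := perp_subset D d
  have hG' := isThreeTranspositionGroup_sImg h.cls.1 hsub hS hcl
  have hZ' : Subgroup.center (SQuot (perp D d)) = ⊥ := by
    rw [eq_bot_iff]
    intro q hq
    obtain ⟨g, rfl⟩ := QuotientGroup.mk_surjective q
    rw [Subgroup.mem_bot, QuotientGroup.eq_one_iff]
    rw [FischerTypes.mem_center_closure_iff]
    intro x hx
    have hgx : (g : G) * x * (g : G)⁻¹ ∈ perp D d := FischerTypes.conj_mem_perp' h.group g.2 hx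
    have he : sMk (perp D d) hgx = sMk (perp D d) hx := by
      have hc := Subgroup.mem_center_iff.1 hq (sMk _ hx)
      show (QuotientGroup.mk (g * ⟨x, mem_perp_closure hx⟩ * g⁻¹) : SQuot (perp D d)) = _
      rw [QuotientGroup.mk_mul, QuotientGroup.mk_mul, QuotientGroup.mk_inv, mul_inv_eq_iff_eq_mul]
      exact hc.symm
    exact mul_inv_eq_iff_eq_mul.1 (sMk_inj h.cls.1 hsub hS hgx hx he)
  have hcls : IsThreeTranspositionClass (sImg (perp D d)) := by
    obtain ⟨a, ha⟩ := h.perp_nonempty hd
    refine ⟨hG'.1, ⟨sMk _ ha, sMk_mem_sImg ha, Set.Subset.antisymm (fun q hq => ?_) (fun q hq => ?_)⟩, hG'.2.2⟩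
    · obtain ⟨b, hb, rfl⟩ := exists_sMk hq
      obtain ⟨g, hg, rfl⟩ := h.transitive_perp hd ha hb
      exact isConj_iff.2 ⟨QuotientGroup.mk ⟨g, hg⟩, rfl⟩
    · obtain ⟨c, rfl⟩ := isConj_iff.1 hq
      exact hG'.2.1 c _ (sMk_mem_sImg ha)
  haveI : Fact (Nat.Prime 2) := ⟨Nat.prime_two⟩
  haveI : Fact (Nat.Prime 3) := ⟨Nat.prime_three⟩
  have hc2 := pCore_quotient_center_eq_bot (h.coreTwo d hd)
  have hc3 := pCore_quotient_center_eq_bot (h.coreThree d hd)
  obtain ⟨a₀, ha₀⟩ := h.perp_nonempty hd
  obtain ⟨b₀, hb₀, hab₀⟩ := hS a₀ ha₀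
  have hne2 : ∃ p ∈ sImg (perp D d), ∃ q ∈ sImg (perp D d), p ≠ q :=
    ⟨_, sMk_mem_sImg ha₀, _, sMk_mem_sImg hb₀, fun he => hab₀
      ((commute_sMk_iff h.cls.1 hsub ha₀ hb₀).1 (he ▸ Commute.refl _))⟩
  have hpair : ∃ q ∈ sImg (perp D d), (perp (sImg (perp D d)) q).Nonempty := by
    by_contra hno
    push Not at hno
    haveI := Transpositions.productsSubgroup_normal hG'.2.1
    have hp : IsPGroup 3 (Transpositions.productsSubgroup (sImg (perp D d))) :=
      Transpositions.isPGroup_productsSubgroup_of_braid_aux hG'.2.2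
        (fun x hx y hy => by simpa [inv_eq hG'.1 hx] using hG'.2.1 x y hy)
        (fun x hx y hy => by
          by_cases hxy : x = y
          · rw [hxy]
          · exact FischerTransitivity.braid hcls hx hy fun hc =>
              (hno x hx).subset ⟨hy, Ne.symm hxy, hc⟩)
        (fun x hx => FischerTypes.mul_self hG'.1 hx)
    obtain ⟨p, hp', q, hq', hpq⟩ := hne2
    have hmem := PLocal.le_pCore hp (Transpositions.mul_mem_productsSubgroup hp' hq')
    rw [hc3, Subgroup.mem_bot] at hmem
    exact hpq ((Transpositions.mul_eq_one_iff hG'.1 hq').1 hmem)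
  have hconn : (commutingGraph (sImg (perp D d))).Connected := by
    -- two members at distance two
    obtain ⟨u, hu, v, hv, w, hw, huv, hvw, huw⟩ : ∃ u ∈ perp D d, ∃ v ∈ perp D d, ∃ w ∈ perp D d,
        Commute u v ∧ Commute v w ∧ ¬ Commute u w := by
      by_contra hno
      push Not at hno
      obtain ⟨p, hp, q, hq⟩ := hpair
      obtain ⟨x, hx, rfl⟩ := exists_sMk hp
      obtain ⟨y, hy, rfl⟩ := exists_sMk hq.1
      have hxy := (commute_sMk_iff h.cls.1 hsub hx hy).1 hq.2.2
      refine hq.2.1 (Transpositions.eq_of_vRel_of_central hcls hne2 (hc2.le.trans bot_le) hp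
        ⟨sMk_mem_sImg hy, fun r hr => ?_⟩)
      obtain ⟨z, hz, rfl⟩ := exists_sMk hr
      rw [commute_sMk_iff h.cls.1 hsub hy hz, commute_sMk_iff h.cls.1 hsub hx hz]
      exact ⟨fun hc => hno x hx y hy z hz hxy hc, fun hc => hno y hy x hx z hz hxy.symm hc⟩
    have hvu : v ≠ u := fun he => huw (he ▸ hvw)
    have hvw' : v ≠ w := fun he => huw (he ▸ huv)
    have hall : ∀ b ∈ perp D d, Relation.ReflTransGen (MStep (perp D d)) u b := by
      intro b hb
      by_contra hub
      have hub' : ¬ Commute u b := fun hc => hub (Relation.ReflTransGen.single ⟨hu, hb, hc⟩)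
      have hiso : ∀ z ∈ perp D u ∩ perp D b, ¬ z ∈ perp D d := fun z hz hzd =>
        hub ((Relation.ReflTransGen.single ⟨hu, hzd, hz.1.2.2⟩).tail ⟨hzd, hb, hz.2.2.2.symm⟩)
      obtain ⟨g, hg1, hg2⟩ := h.exists_conj_pair hu.1 hw.1 huw hu.1 hb.1 hub'
      have hconj : ∀ {s t : G}, t ∈ perp D s → g * t * g⁻¹ ∈ perp D (g * s * g⁻¹) := fun {s t} ht =>
        ⟨h.group.2.1 g t ht.1, fun he => ht.2.1 (mul_left_cancel (mul_right_cancel he)),
          (commute_conj_iff' g s t).2 ht.2.2⟩
      set d' := g * d * g⁻¹ with hd'def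
      set v' := g * v * g⁻¹ with hv'def
      have hd'u : d' ∈ perp D u := hg1 ▸ hconj (perp_symm' hd hu)
      have hd'b : d' ∈ perp D b := hg2 ▸ hconj (perp_symm' hd hw)
      have hv'u : v' ∈ perp D u := hg1 ▸ hconj (⟨hv.1, hvu, huv⟩ : v ∈ perp D u)
      have hv'b : v' ∈ perp D b := hg2 ▸ hconj (⟨hv.1, hvw', hvw.symm⟩ : v ∈ perp D w)
      have hv'd : v' ∈ perp D d' := hconj hv
      have hdu : d ∈ perp D u := perp_symm' hd hu
      have hdb : d ∈ perp D b := perp_symm' hd hb
      by_cases hdd : d' = d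
      · exact hiso v' ⟨hv'u, hv'b⟩ (hdd ▸ hv'd)
      by_cases hc : Commute d d'
      · exact hiso d' ⟨hd'u, hd'b⟩ ⟨hd'u.1, hdd, hc⟩
      -- the product of the two reflections carries `v'` to a partner of `d`
      have hfix : ∀ {s : G}, d ∈ perp D s → d' ∈ perp D s → ∀ {t : G}, t ∈ perp D s →
          d' * (d * t * d) * d' ∈ perp D s := by
        intro s hs hs' t ht
        have h1 := FischerTypes.conj_mem_perp h.group (g := d) hs.2.2.symm ht
        rw [inv_eq h.cls.1 hd] at h1
        have h2 := FischerTypes.conj_mem_perp h.group (g := d') hs'.2.2.symm h1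
        rwa [inv_eq h.cls.1 hd'u.1] at h2
      refine hiso _ ⟨hfix hdu hd'u hv'u, hfix hdb hd'b hv'b⟩ ?_
      have hb' : d' * (d * d' * d) * d' = d := by
        rw [FischerTransitivity.braid h.cls hd hd'u.1 hc]
        simp [mul_assoc, FischerTypes.mul_self h.cls.1 hd'u.1,
          FischerTypes.mul_self_cancel h.cls.1 hd'u.1]
      refine ⟨(hfix hdu hd'u hv'u).1, fun he => hv'd.2.1 ?_, ?_⟩
      · exact mul_left_cancel (mul_right_cancel (mul_left_cancel (mul_right_cancel (he.trans hb'.symm))))
      · have h1 := (commute_conj_iff' (d' * d) d' v').2 hv'd.2.2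
        rw [mul_inv_rev, inv_eq h.cls.1 hd, inv_eq h.cls.1 hd'u.1] at h1
        have e1 : d' * d * d' * (d * d') = d := by simpa [mul_assoc] using hb'
        have e2 : d' * d * v' * (d * d') = d' * (d * v' * d) * d' := by simp [mul_assoc]
        rwa [e1, e2] at h1
    have hreach : ∀ b, ∀ hb : b ∈ perp D d, (commutingGraph (sImg (perp D d))).Reachable
        ⟨sMk _ hu, sMk_mem_sImg hu⟩ ⟨sMk _ hb, sMk_mem_sImg hb⟩ := by
      intro b hb
      induction hall b hb with
      | refl => exact SimpleGraph.Reachable.refl _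
      | @tail s t _ hst ih =>
        refine (ih hst.1).trans ?_
        by_cases hts : s = t
        · subst hts; exact SimpleGraph.Reachable.refl _
        refine SimpleGraph.Adj.reachable ?_
        refine (SimpleGraph.fromRel_adj _ _ _).2 ⟨fun he => hts ?_, Or.inl ?_⟩
        · exact sMk_inj h.cls.1 hsub hS hst.1 hb (congrArg Subtype.val he)
        · exact (commute_sMk_iff h.cls.1 hsub hst.1 hb).2 hst.2.2
    refine (SimpleGraph.connected_iff _).2 ⟨fun p q => ?_, ⟨⟨_, sMk_mem_sImg hu⟩⟩⟩
    obtain ⟨p, hp⟩ := p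
    obtain ⟨q, hq⟩ := q
    obtain ⟨x, hx, rfl⟩ := exists_sMk hp
    obtain ⟨y, hy, rfl⟩ := exists_sMk hq
    exact (hreach x hx).symm.trans (hreach y hy)
  have hp' := Transpositions.primitive_of_cores hcls hne2 (hc2.le.trans bot_le) (hc3.le.trans bot_le) hconn
  refine ⟨h.noCentral hd, ⟨hcls, hZ', hc2, hc3, hpair⟩, hconn, ?_⟩
  obtain ⟨p, hp, q, hq⟩ := hpair
  exact Transpositions.isSimpleGroup_commutator_of_primitive hG' hp' ⟨p, hp, q, hq.1, hq.2.1.symm, hq.2.2⟩ hZ'

end CfsgLib.FischerThm
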