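import Cfsg.Agent.FischerThm.Targets
import Cfsg.Agent.FischerThm.Conv.Tables
import Cfsg.Agent.FischerThm.Conv.Sym
import Cfsg.Agent.FischerThm.Conv.Sp

/-!
# `S₆ ≅ Sp₄(2)` with their classes
-/

set_option autoImplicit false

namespace CfsgLib.FischerThm

namespace ConvSymSixAux

open Conv

/-- The conjugation table. -/
def tab : Fin 15 → Fin 15 → Fin 15 := tabGet 15 symSixRows

/-- The smaller point of a transposition. -/
def lo (i : Fin 15) : Fin 6 := Fin.ofNat 6 (digit 8 (symSixA.getD i.val 0) 0)

/-- The larger point of a transposition. -/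
def hi (i : Fin 15) : Fin 6 := Fin.ofNat 6 (digit 8 (symSixA.getD i.val 0) 1)

/-- The vector in place `i`. -/
def vec (i : Fin 15) : Fin 2 ⊕ Fin 2 → ZMod 2 :=
  fun k => (digit 2 (symSixB.getD i.val 0) (Sum.elim (fun j => j.val) (fun j => 2 + j.val) k) : ℕ)

theorem symCert : Model (symD 6) tab (fun i => Equiv.swap (lo i) (hi i)) :=
  symModel lo hi (by decide +kernel) (by decide +kernel) (by decide +kernel) (by decide +kernel)

theorem spCert : Model (spD 2) tab (fun i => CfsgLib.Forms.spTransv (vec i) 1) := by
  refine spModel vec (by decide +kernel) (by decide +kernel) (by decide +kernel) ?_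
  simp only [CfsgLib.Forms.sympForm_eq_sum]
  decide +kernel

end ConvSymSixAux

open ConvSymSixAux in
theorem convSymSix : ConvSymSix :=
  symCert.dIso_of_center (Conv.center_perm (by norm_num)) spCert (Conv.center_sp (by norm_num))

end CfsgLib.FischerThm
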