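import Cfsg.Agent.FischerThm.Chain
import Cfsg.Agent.CoxeterSym.Basic

/-!
# Three components: the triality shape, and the step M(23) → M(24)
-/

set_option autoImplicit false
set_option maxHeartbeats 800000

universe u

namespace CfsgLib.FischerThm

open Cfsg CfsgLib.FischerTypes CfsgLib.Components
open scoped commutatorElement

theorem commutator_mulEquiv {A : Type*} [Group A] {B : Type*} [Group B] (e : A ≃* B) :
    Nonempty (commutator A ≃* commutator B) := by
  have h : (commutator A).map e.toMonoidHom = commutator B := by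
    rw [commutator_def, commutator_def, Subgroup.map_commutator, Subgroup.map_top_of_surjective _ e.surjective]
  exact ⟨(e.subgroupMap _).trans (MulEquiv.subgroupCongr h)⟩

/-- A closed set with three components of reflection type has the triality shape. -/
theorem three_blocks {G : Type u} [Group G] [Finite G] {D M : Set G} (hD : IsThreeTranspositionGroup D)
    (hM : M ⊆ D) (hcl : ∀ a ∈ M, ∀ b ∈ M, a * b * a ∈ M) (hgood : ∀ a ∈ M, LocalGood (sImg (M ∩ perp D a)))
    (h3 : ((fun a => comp M a) '' M).ncard = 3) (hrefl : ∀ a ∈ M, IsReflT (sImg (comp M a)) 8 1) :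
    LocalGood (sImg M) ∧ ¬ (commutingGraph (sImg M)).Connected ∧
      ∃ (N : Subgroup (SQuot M)) (_ : N.Normal), Nonempty (N ≃* commutator (ReflGroup 8 1)) ∧
        Nonempty (SQuot M ⧸ N ≃* Equiv.Perm (Fin 3)) := by
  classical
  obtain ⟨a, ha⟩ : M.Nonempty := by
    by_contra hne
    rw [Set.not_nonempty_iff_eq_empty] at hne
    rw [hne] at h3
    simp at h3
  have haC : a ∈ comp M a := ⟨ha, Relation.ReflTransGen.refl⟩
  have hnc : SNoCentral M := by
    intro x hx
    obtain ⟨q, hq, -⟩ := (hgood x hx).pair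
    obtain ⟨y, hy, rfl⟩ := exists_sMk hq
    obtain ⟨z, hz, hxz⟩ := (hgood y hy.1).sNoCentral x ⟨hx, perp_symm' (hM hx) hy.2⟩
    exact ⟨z, hz.1, hxz⟩
  have hcross : ∀ x ∈ M, ∀ y ∈ M, Commute x y → comp M x = comp M y := fun x hx y hy hc =>
    (comp_eq_of_mem (show y ∈ comp M x from ⟨hy, Relation.ReflTransGen.single ⟨hx, hy, hc⟩⟩)).symm
  obtain ⟨b₀, hb₀, hb₀a⟩ : ∃ b ∈ M, comp M b ≠ comp M a := by
    by_contra hall
    push Not at hall
    have hsub : (fun a => comp M a) '' M ⊆ {comp M a} := by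
      rintro _ ⟨x, hx, rfl⟩
      exact hall x hx
    have := Set.ncard_le_ncard hsub (Set.toFinite _)
    rw [Set.ncard_singleton] at this
    omega
  have hG := isThreeTranspositionGroup_sImg hD.1 hM hnc hcl
  have hstep : ∀ {x z : G} (hx : x ∈ M) (hz : z ∈ M), ¬ Commute x z →
      IsConj (sMk M hx) (sMk M hz) := by
    intro x z hx hz hxz
    refine isConj_iff.2 ⟨sMk M hx * sMk M hz, ?_⟩
    have hb := FischerTypes.braid hG.1 (sMk_mem_sImg hx) (sMk_mem_sImg hz)
      (fun hc => hxz ((commute_sMk_iff hD.1 hM hx hz).1 hc))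
    set p := sMk M hx
    set q := sMk M hz
    have hp := mul_self hG.1 (sMk_mem_sImg hx)
    have hq := mul_self hG.1 (sMk_mem_sImg hz)
    rw [mul_inv_rev, inv_eq hG.1 (sMk_mem_sImg hx), inv_eq hG.1 (sMk_mem_sImg hz)]
    calc p * q * p * (q * p) = (p * q * p) * (q * p) := rfl
      _ = (q * p * q) * (q * p) := by rw [hb]
      _ = q := by
          rw [mul_assoc, mul_assoc, ← mul_assoc q q p, hq, one_mul, hp, mul_one]
  have hcls : IsThreeTranspositionClass (sImg M) := by
    refine ⟨hG.1, ⟨sMk _ ha, sMk_mem_sImg ha, Set.Subset.antisymm (fun q hq => ?_) (fun q hq => ?_)⟩, hG.2.2⟩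
    · obtain ⟨x, hx, rfl⟩ := exists_sMk hq
      by_cases hxa : comp M x = comp M a
      · exact (hstep ha hb₀ fun hc => hb₀a (hcross a ha b₀ hb₀ hc).symm).trans
          (hstep hb₀ hx fun hc => hb₀a ((hcross b₀ hb₀ x hx hc).trans hxa))
      · exact hstep ha hx fun hc => hxa (hcross a ha x hx hc).symm
    · obtain ⟨c, rfl⟩ := isConj_iff.1 hq
      exact hG.2.1 c _ (sMk_mem_sImg ha)
  have hZ := center_sQuot_eq_bot hD.1 hM hnc hcl
  obtain ⟨h2, h3'⟩ := cores_of_locals hD hM hcl hnc hgood ha hcls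
  have hpair : ∃ q ∈ sImg M, (perp (sImg M) q).Nonempty := by
    obtain ⟨q, hq, -⟩ := (hgood a ha).pair
    obtain ⟨y, hy, rfl⟩ := exists_sMk hq
    exact ⟨_, sMk_mem_sImg ha, sMk M hy.1, sMk_mem_sImg hy.1,
      fun he => hy.2.2.1 (sMk_inj hD.1 hM hnc hy.1 ha he), (commute_sMk_iff hD.1 hM ha hy.1).2 hy.2.2.2⟩
  have hne2 : ∃ p ∈ sImg M, ∃ q ∈ sImg M, p ≠ q := by
    obtain ⟨q, hq, r, hr⟩ := hpair
    exact ⟨q, hq, r, hr.1, hr.2.1.symm⟩
  have hLG : LocalGood (sImg M) :=
    ⟨hcls, hZ, le_bot_iff.1 (h2.trans hZ.le), le_bot_iff.1 (h3'.trans hZ.le), hpair⟩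
  have hdis : ¬ (commutingGraph (sImg M)).Connected := by
    intro hconn
    have key : ∀ p q : ↥(sImg M), (commutingGraph (sImg M)).Reachable p q →
        ∀ {x y : G} (hx : x ∈ M) (hy : y ∈ M), (p : SQuot M) = sMk M hx → (q : SQuot M) = sMk M hy →
          comp M x = comp M y := by
      rintro p q ⟨w⟩
      induction w with
      | nil =>
        intro x y hx hy h1 h2
        rw [sMk_inj hD.1 hM hnc hx hy (h1.symm.trans h2)]
      | @cons p r q hadj _ ih =>
        intro x y hx hy h1 h2
        obtain ⟨z, hz, hzr⟩ := exists_sMk r.2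
        refine (hcross x hx z hz ?_).trans (ih hz hy hzr.symm h2)
        have hc : Commute (p : SQuot M) (r : SQuot M) := by
          simp only [commutingGraph, SimpleGraph.fromRel_adj] at hadj
          exact hadj.2.elim id Commute.symm
        rw [h1, ← hzr] at hc
        exact (commute_sMk_iff hD.1 hM hx hz).1 hc
    exact hb₀a (key _ _ (hconn.preconnected ⟨_, sMk_mem_sImg hb₀⟩ ⟨_, sMk_mem_sImg ha⟩) hb₀ ha rfl rfl)
  refine ⟨hLG, hdis, ?_⟩
  obtain ⟨L, hL, hLn, -, hF⟩ := Transpositions.exists_component_of_central hcls hne2 h2 h3'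
  haveI := hLn
  rw [hZ, sup_bot_eq] at hF
  set π := QuotientGroup.mk' L with hπ
  have hπsq : ∀ {x : G} (hx : x ∈ M), π (sMk M hx) * π (sMk M hx) = 1 := fun {x} hx => by
    rw [← map_mul, mul_self hG.1 (sMk_mem_sImg hx), map_one]
  have hsame : ∀ {x y : G} (hx : x ∈ M) (hy : y ∈ M), comp M x = comp M y →
      π (sMk M hx) = π (sMk M hy) := by
    intro x y hx hy hc
    have hy' : y ∈ comp M x := hc ▸ ⟨hy, Relation.ReflTransGen.refl⟩
    have h0 := hy'.2
    clear hy' hc
    induction h0 with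
    | refl => rfl
    | @tail s t hst h1 ih =>
      refine (ih h1.1).trans ?_
      refine QuotientGroup.eq.2 (Transpositions.inv_mul_mem_component hcls hL (sMk_mem_sImg h1.1) (sMk_mem_sImg hy) ?_)
      rw [((commute_sMk_iff hD.1 hM h1.1 hy).2 h1.2.2).eq, mul_inv_cancel_right, mul_inv_cancel]
      exact one_mem L
  -- not every member lies in one coset
  obtain ⟨b, hb, hab⟩ : ∃ b, ∃ hb : b ∈ M, π (sMk M hb) ≠ π (sMk M ha) := by
    by_contra hall
    push Not at hall
    have hidx : L.index ≤ 2 := by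
      have hcases : ∀ g : SQuot M, π g = 1 ∨ π g = π (sMk M ha) := by
        intro g
        induction (hG.2.2 ▸ Subgroup.mem_top g : g ∈ Subgroup.closure (sImg M)) using
          Subgroup.closure_induction with
        | mem q hq =>
          obtain ⟨x, hx, rfl⟩ := exists_sMk hq
          exact Or.inr (hall x hx)
        | one => exact Or.inl (map_one π)
        | mul x y _ _ hx hy =>
          rcases hx with hx | hx <;> rcases hy with hy | hy <;>
            simp only [map_mul, hx, hy, hπsq ha, one_mul, mul_one] <;> simp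
        | inv x _ hx =>
          rcases hx with hx | hx <;> simp only [map_inv, hx]
          · exact Or.inl inv_one
          · exact Or.inr (inv_eq_of_mul_eq_one_right (hπsq ha))
      rw [Subgroup.index_eq_card]
      have hsub : (Set.univ : Set (SQuot M ⧸ L)) ⊆ {1, π (sMk M ha)} := fun q _ => by
        obtain ⟨g, rfl⟩ := QuotientGroup.mk'_surjective L q
        exact (hcases g).imp id id
      rw [← Set.ncard_univ]
      calc (Set.univ : Set (SQuot M ⧸ L)).ncard ≤ ({1, π (sMk M ha)} : Set (SQuot M ⧸ L)).ncard :=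
            Set.ncard_le_ncard hsub (Set.toFinite _)
        _ ≤ ({π (sMk M ha)} : Set (SQuot M ⧸ L)).ncard + 1 := Set.ncard_insert_le _ _
        _ = 2 := by rw [Set.ncard_singleton]
    have hp := Transpositions.isPrimitiveUnderConj_of_index_le_two hcls hne2 h2 h3' hL
      (by rw [hF, hZ, sup_bot_eq]) hidx
    obtain ⟨q, hq, r, hr⟩ := hpair
    exact hdis (Transpositions.connected_of_primitive hG hp ⟨q, hq, r, hr.1, hr.2.1.symm, hr.2.2⟩)
  set A := π (sMk M ha) with hA
  set B := π (sMk M hb) with hB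
  have hnab : ¬ Commute a b := fun hc => hab ((hsame ha hb (hcross a ha b hb hc)).symm)
  have hbraid : A * B * A = B * A * B := by
    have := congrArg π (FischerTypes.braid hG.1 (sMk_mem_sImg ha) (sMk_mem_sImg hb)
      (fun hc => hnab ((commute_sMk_iff hD.1 hM ha hb).1 hc)))
    simpa only [map_mul] using this
  have hA2 : A * A = 1 := hπsq ha
  have hB2 : B * B = 1 := hπsq hb
  have hA1 : A ≠ 1 := by
    intro h1
    apply hab
    obtain ⟨g, hg⟩ := Transpositions.exists_conj_of_class hcls (sMk_mem_sImg ha) (sMk_mem_sImg hb)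
    show B = A
    rw [hB, ← hg, map_mul, map_mul, map_inv, ← hA, h1, mul_one, mul_inv_cancel]
  have hB1 : B ≠ 1 := fun h1 => hA1 (by
    have := hbraid
    rw [h1, mul_one, hA2, one_mul, mul_one] at this
    exact this.symm)
  set e := a * b * a with he
  have heM : e ∈ M := hcl a ha b hb
  have hE : π (sMk M heM) = A * B * A := by
    rw [hA, hB, ← map_mul, ← map_mul]
    rfl
  have hEA : A * B * A ≠ A := by
    intro h1
    apply hab
    show B = A
    calc B = A * (A * B * A) * A := by
          rw [show A * (A * B * A) * A = (A * A) * B * (A * A) by simp [mul_assoc], hA2, one_mul, mul_one]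
      _ = A := by rw [h1, hA2, one_mul]
  have hEB : A * B * A ≠ B := by
    intro h1
    apply hab
    show B = A
    rw [hbraid] at h1
    symm
    calc A = B * (B * A * B) * B := by
          rw [show B * (B * A * B) * B = (B * B) * A * (B * B) by simp [mul_assoc], hB2, one_mul, mul_one]
      _ = B := by rw [h1, hB2, one_mul]
  have hcomps : ∀ x ∈ M, comp M x = comp M a ∨ comp M x = comp M b ∨ comp M x = comp M e := by
    intro x hx
    have d1 : comp M a ≠ comp M b := fun hc => hab (hsame ha hb hc).symm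
    have d2 : comp M a ≠ comp M e := fun hc => hEA (hE ▸ (hsame ha heM hc).symm)
    have d3 : comp M b ≠ comp M e := fun hc => hEB (hE ▸ (hsame hb heM hc).symm)
    have hsub : ({comp M a, comp M b, comp M e} : Set (Set G)) ⊆ (fun a => comp M a) '' M := by
      rintro _ (rfl | rfl | rfl)
      exacts [⟨a, ha, rfl⟩, ⟨b, hb, rfl⟩, ⟨e, heM, rfl⟩]
    have hcard : ({comp M a, comp M b, comp M e} : Set (Set G)).ncard = 3 :=
      Set.ncard_eq_three.2 ⟨_, _, _, d1, d2, d3, rfl⟩
    have := Set.eq_of_subset_of_ncard_le hsub (by rw [h3, hcard]) (Set.toFinite _)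
    have hmem : comp M x ∈ ({comp M a, comp M b, comp M e} : Set (Set G)) := this.symm ▸ ⟨x, hx, rfl⟩
    simpa using hmem
  have himg : ∀ {x : G} (hx : x ∈ M), π (sMk M hx) = A ∧ comp M x = comp M a ∨
      π (sMk M hx) = B ∨ π (sMk M hx) = A * B * A := by
    intro x hx
    rcases hcomps x hx with h | h | h
    · exact Or.inl ⟨hsame hx ha h, h⟩
    · exact Or.inr (Or.inl (hsame hx hb h))
    · exact Or.inr (Or.inr ((hsame hx heM h).trans hE))
  -- the quotient
  have hquot : Nonempty (SQuot M ⧸ L ≃* Equiv.Perm (Fin 3)) := by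
    let t : ℕ → SQuot M ⧸ L := fun i => if i = 0 then A else B
    have ht : CoxeterSym.IsSymGens 2 t := by
      refine ⟨fun i hi => ?_, fun i hi => ?_, fun i j hij hj => ?_⟩
      · interval_cases i <;> simp [t, hA2, hB2]
      · obtain rfl : i = 0 := by omega
        simpa [t] using hbraid
      · omega
    obtain ⟨φ, hφ⟩ := CoxeterSym.exists_hom ht
    have e0 : φ (Equiv.swap 0 1) = A := by simpa [t] using hφ ⟨0, by norm_num⟩
    have e1 : φ (Equiv.swap 1 2) = B := by simpa [t] using hφ ⟨1, by norm_num⟩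
    have hsurj : Function.Surjective φ := by
      rw [← MonoidHom.range_eq_top, eq_top_iff]
      have htop : (Subgroup.closure (sImg M)).map π = ⊤ := by
        rw [hG.2.2, Subgroup.map_top_of_surjective _ (QuotientGroup.mk'_surjective L)]
      rw [← htop, MonoidHom.map_closure, Subgroup.closure_le]
      rintro _ ⟨q, hq, rfl⟩
      obtain ⟨x, hx, rfl⟩ := exists_sMk hq
      rcases himg hx with ⟨h, -⟩ | h | h <;> rw [h]
      · exact ⟨_, e0⟩
      · exact ⟨_, e1⟩
      · exact ⟨Equiv.swap 0 1 * Equiv.swap 1 2 * Equiv.swap 0 1, by rw [map_mul, map_mul, e0, e1]⟩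
    have hinj : Function.Injective φ := by
      rw [injective_iff_map_eq_one]
      have hcases : ∀ σ : Equiv.Perm (Fin 3), σ = 1 ∨ σ = Equiv.swap 0 1 ∨ σ = Equiv.swap 1 2 ∨
          σ = Equiv.swap 0 1 * Equiv.swap 1 2 * Equiv.swap 0 1 ∨ σ = Equiv.swap 0 1 * Equiv.swap 1 2 ∨
          σ = Equiv.swap 1 2 * Equiv.swap 0 1 := by decide
      intro σ hσ
      rcases hcases σ with h | h | h | h | h | h <;> subst h
      · rfl
      · exact absurd (e0.symm.trans hσ) hA1
      · exact absurd (e1.symm.trans hσ) hB1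
      · rw [map_mul, map_mul, e0, e1] at hσ
        exact absurd (by
          calc B = A * (A * B * A) * A := by
                rw [show A * (A * B * A) * A = (A * A) * B * (A * A) by simp [mul_assoc], hA2, one_mul, mul_one]
            _ = 1 := by rw [hσ, mul_one, hA2]) hB1
      · rw [map_mul, e0, e1] at hσ
        exact absurd ((eq_inv_of_mul_eq_one_right hσ).trans (inv_eq_of_mul_eq_one_right hA2)) hab
      · rw [map_mul, e0, e1] at hσ
        exact absurd ((eq_inv_of_mul_eq_one_left hσ).trans (inv_eq_of_mul_eq_one_right hA2)) hab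
    exact ⟨(MulEquiv.ofBijective φ ⟨hinj, hsurj⟩).symm⟩
  refine ⟨L, hLn, ?_, hquot⟩
  -- the block of `a`
  set T : Set (SQuot M) := (QuotientGroup.mk : ↥(Subgroup.closure M) → SQuot M) '' {x | (x : G) ∈ comp M a} with hT
  have hTE : T ⊆ sImg M := by
    rintro _ ⟨⟨x, hxc⟩, hx, rfl⟩
    exact sMk_mem_sImg hx.1
  have hTA : ∀ q ∈ sImg M, (q ∈ T ↔ π q = A) := by
    intro q hq
    obtain ⟨x, hx, rfl⟩ := exists_sMk hq
    constructor
    · rintro ⟨⟨y, hyc⟩, hy, he'⟩
      have hyx : y = x := sMk_inj hD.1 hM hnc hy.1 hx he'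
      subst hyx
      exact hsame hx ha (comp_eq_of_mem hy)
    · intro hxA
      rcases himg hx with ⟨-, h⟩ | h | h
      · exact ⟨⟨x, Subgroup.subset_closure hx⟩, h ▸ ⟨hx, Relation.ReflTransGen.refl⟩, rfl⟩
      · exact absurd (h.symm.trans hxA) hab
      · exact absurd (h.symm.trans hxA) hEA
  set X := Subgroup.closure T with hX
  have hnormX : ∀ l ∈ L, ∀ q ∈ X, l * q * l⁻¹ ∈ X := by
    intro l hl q hq
    have hmap : X.map (MulAut.conj l).toMonoidHom ≤ X := by
      rw [hX, MonoidHom.map_closure, Subgroup.closure_le]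
      rintro _ ⟨r, hr, rfl⟩
      refine Subgroup.subset_closure ((hTA _ (hG.2.1 l r (hTE hr))).2 ?_)
      show π (MulAut.conj l r) = A
      rw [MulAut.conj_apply, map_mul, map_mul, map_inv,
        show π l = 1 from (QuotientGroup.eq_one_iff l).2 hl, (hTA r (hTE hr)).1 hr]
      simp
    exact hmap ⟨q, hq, rfl⟩
  have hLc : Subgroup.center ↥L = ⊥ := by
    have hn : ((Subgroup.center ↥L).map L.subtype).Normal := CfsgLib.PLocal.normal_map_subtype L _
    haveI := hn
    have hle : (Subgroup.center ↥L).map L.subtype ≤ fittingSubgroup (SQuot M) := by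
      refine le_fittingSubgroup (isNilpotent_of_commutator_commutator_eq_bot ?_)
      have h0 : ⁅(Subgroup.center ↥L).map L.subtype, (Subgroup.center ↥L).map L.subtype⁆ = ⊥ := by
        rw [← Subgroup.map_commutator, (Subgroup.commutator_eq_bot_iff_le_centralizer).2, Subgroup.map_bot]
        exact fun z hz => Subgroup.mem_centralizer_iff.2 fun w _ => Subgroup.mem_center_iff.1 hz w
      rw [h0, Subgroup.commutator_bot_left]
    rw [Transpositions.generalizedFitting_eq_center_sup_of_central hcls h2 h3', hZ, le_bot_iff,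
      Subgroup.map_eq_bot_iff_of_injective _ L.subtype_injective] at hle
    exact hle
  have hqs := hL.2
  haveI : IsSimpleGroup ↥L := by
    haveI := hqs.2
    let e' : ↥L ⧸ Subgroup.center ↥L ≃* ↥L :=
      (QuotientGroup.quotientMulEquivOfEq hLc).trans QuotientGroup.quotientBot
    haveI := e'.symm.toEquiv.nontrivial
    exact IsSimpleGroup.isSimpleGroup_of_surjective e'.toMonoidHom e'.surjective
  have hLX : L ≤ X := by
    have hn : (X.subgroupOf L).Normal := ⟨fun q hq l => hnormX l l.2 q hq⟩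
    rcases hn.eq_bot_or_eq_top with hb' | ht'
    · exfalso
      obtain ⟨q, hq, -⟩ := (hgood a ha).pair
      obtain ⟨y, hy, rfl⟩ := exists_sMk hq
      have hyC : y ∈ comp M a := ⟨hy.1, Relation.ReflTransGen.single ⟨ha, hy.1, hy.2.2.2⟩⟩
      have hp1 : sMk M ha ∈ T := ⟨⟨a, Subgroup.subset_closure ha⟩, haC, rfl⟩
      have hp2 : sMk M hy.1 ∈ T := ⟨⟨y, Subgroup.subset_closure hy.1⟩, hyC, rfl⟩
      have hmemL : sMk M ha * sMk M hy.1 ∈ L := by
        rw [← QuotientGroup.eq_one_iff (N := L)]
        show π (sMk M ha * sMk M hy.1) = 1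
        rw [map_mul, (hTA _ (hTE hp2)).1 hp2]
        exact hA2
      have hmem : (⟨_, hmemL⟩ : ↥L) ∈ X.subgroupOf L :=
        Subgroup.mem_subgroupOf.2 (mul_mem (Subgroup.subset_closure hp1) (Subgroup.subset_closure hp2))
      rw [hb', Subgroup.mem_bot] at hmem
      have h1 : sMk M ha * sMk M hy.1 = 1 := congrArg Subtype.val hmem
      rw [mul_eq_one_iff_eq_inv, inv_eq hG.1 (sMk_mem_sImg hy.1)] at h1
      exact hy.2.2.1 (sMk_inj hD.1 hM hnc ha hy.1 h1).symm
    · exact Subgroup.subgroupOf_eq_top.1 ht'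
  have hcX : (commutator ↥X).map X.subtype = L := by
    refine le_antisymm ?_ ?_
    · have hab' : X.map π ≤ Subgroup.zpowers A := by
        rw [hX, MonoidHom.map_closure, Subgroup.closure_le]
        rintro _ ⟨q, hq, rfl⟩
        rw [(hTA q (hTE hq)).1 hq]
        exact Subgroup.mem_zpowers A
      rw [commutator_def, Subgroup.map_commutator, ← MonoidHom.range_eq_map, Subgroup.range_subtype,
        Subgroup.commutator_le]
      intro g hg k hk
      rw [← QuotientGroup.eq_one_iff (N := L)]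
      show π ⁅g, k⁆ = 1
      obtain ⟨i, hi⟩ := Subgroup.mem_zpowers_iff.1 (hab' ⟨g, hg, rfl⟩)
      obtain ⟨j, hj⟩ := Subgroup.mem_zpowers_iff.1 (hab' ⟨k, hk, rfl⟩)
      rw [map_commutatorElement, ← hi, ← hj, commutatorElement_eq_one_iff_commute]
      exact (Commute.refl A).zpow_zpow i j
    · rw [commutator_def, Subgroup.map_commutator, ← MonoidHom.range_eq_map, Subgroup.range_subtype]
      have hperf : (commutator ↥L).map L.subtype = L := by
        rw [hqs.1.commutator_eq_top, ← MonoidHom.range_eq_map, Subgroup.range_subtype]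
      rw [commutator_def, Subgroup.map_commutator, ← MonoidHom.range_eq_map, Subgroup.range_subtype] at hperf
      exact hperf.symm.le.trans (Subgroup.commutator_mono hLX hLX)
  have hXc : Subgroup.center ↥X = ⊥ := by
    rw [eq_bot_iff]
    intro z hz
    rw [Subgroup.mem_bot]
    have hzc : (z : SQuot M) ∈ Subgroup.centralizer (L : Set (SQuot M)) :=
      Subgroup.mem_centralizer_iff.2 fun l hl =>
        congrArg Subtype.val (Subgroup.mem_center_iff.1 hz ⟨l, hLX hl⟩)
    have hbot := centralizer_generalizedFitting_le (G := SQuot M)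
    rw [Transpositions.generalizedFitting_eq_center_sup_of_central hcls h2 h3', hF, hZ] at hbot
    exact Subtype.ext (Subgroup.mem_bot.1 (hbot hzc))
  have h1 : DIso (sImg (comp M a)) (sImg T) := dIso_sImg_image hD.1 hM hnc hcl (fun x hx => hx.1)
  obtain ⟨eT, -⟩ := h1.symm.trans (hrefl a ha)
  let eX : SQuot T ≃* ↥X := (QuotientGroup.quotientMulEquivOfEq hXc).trans QuotientGroup.quotientBot
  obtain ⟨eC⟩ := commutator_mulEquiv (eX.symm.trans eT)
  exact ⟨((Subgroup.equivMapOfInjective _ X.subtype X.subtype_injective).trans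
    (MulEquiv.subgroupCongr hcX)).symm.trans eC⟩

theorem mTwoThreeStep (hRefl : ReflStep.{u}) (hGood : GoodRefl) (hCount : CountRefl) (hComm : CommReflEight) :
    MTwoThreeStep.{u} := by
  intro G _ _ D h d hd hT
  obtain ⟨-, hlg, -, hs⟩ := hBasic G D h d hd
  obtain ⟨a₀, ha₀⟩ := h.perp_nonempty hd
  have hS := h.sNoCentral hd
  have hH := Transpositions.isThreeTranspositionGroup_of_class hlg.cls
  have HH : FischerTypes.M23.Hyp (SQuot (perp D d)) (sImg (perp D d)) :=
    ⟨hH, (facts_of_simple hlg.cls hlg.center hs hlg.pair).1, hT.1⟩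
  have hk : (perp D d).ncard = 31671 := by
    rw [← ncard_sImg h.cls.1 (perp_subset D d) hS]
    exact Transpositions.TypeM23.ncard_D HH
  have hl : (perp D d ∩ perp D a₀).ncard = 3510 := by
    rw [ncard_perp_sImg h hd ha₀]
    exact FischerTypes.M23.ncard_perp HH (sMk_mem_sImg ha₀)
  have hmain : ∀ c ∈ D, ¬ Commute d c →
      LocalGood (sImg (perp D d ∩ perp D c)) ∧ ¬ (commutingGraph (sImg (perp D d ∩ perp D c))).Connected ∧
      ∃ (N : Subgroup (SQuot (perp D d ∩ perp D c))) (_ : N.Normal),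
        Nonempty (N ≃* commutator (ReflGroup 8 1)) ∧
        Nonempty (SQuot (perp D d ∩ perp D c) ⧸ N ≃* Equiv.Perm (Fin 3)) := by
    intro c hc hdc
    set M := perp D d ∩ perp D c with hMdef
    have hMD : M ⊆ D := fun x hx => hx.1.1
    have hcl := inter_closed h.group d c
    have hloc : ∀ a ∈ M, DIso (sImg (M ∩ perp D a)) (reflD 7 1) := by
      intro a ha
      obtain ⟨p, hp, q, hq, hpq, hl'⟩ := local_of_predicate h hd hc hdc ha
      exact hl'.trans (hT.2 p hp q hq hpq)
    have hr := fun a ha => comp_refl hRefl hGood (by norm_num) h.group hMD hcl hloc (a := a) ha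
    obtain ⟨-, hle, hok⟩ := srgOK_of h hd ha₀ hc hdc hk hl
    have hmul := ncard_eq_mul_of_comp M 1080 (fun a ha => (hr a ha).2.trans hCount.2.2.2.2.2)
    have hsol : ∀ t < 30, srgOK 31671 3510 (t * 1080) = true → t = 3 := by decide +kernel
    have h3 := hsol _ (Nat.lt_of_mul_lt_mul_right (a := 1080) (by
      rw [← hmul]; exact lt_of_le_of_lt hle (by norm_num))) (hmul ▸ hok)
    exact three_blocks h.group hMD hcl (fun a ha => (hGood 7 1 (by norm_num) (Or.inl rfl)).of_dIso (hloc a ha).symm)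
      h3 (fun a ha => (hr a ha).1)
  obtain ⟨c₀, hc₀, hdc₀⟩ : ∃ c ∈ D, ¬ Commute d c := Transpositions.exists_not_commute_of_class h.cls
    ⟨d, hd, a₀, ha₀.1, ha₀.2.1.symm⟩ hd
  obtain ⟨N, hN, ⟨eN⟩, hQ⟩ := (hmain c₀ hc₀ hdc₀).2.2
  obtain ⟨eO⟩ := hComm
  refine ⟨⟨h.center, d, hd, c₀, hc₀, hdc₀, hT.1, N, hN, ⟨eN.trans eO⟩, hQ⟩, ?_⟩
  intro a ha b hb hab
  obtain ⟨g, hg1, hg2⟩ := h.exists_conj_pair hd hc₀ hdc₀ ha hb hab
  have h1 := dIso_sImg_conj g (perp D d ∩ perp D c₀)
  rw [Set.image_inter (fun x y hxy => mul_left_cancel (mul_right_cancel hxy)), image_perp_conj h.group,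
    image_perp_conj h.group, hg1, hg2] at h1
  exact ⟨(hmain c₀ hc₀ hdc₀).1.of_dIso h1, fun hcon => (hmain c₀ hc₀ hdc₀).2.1 (h1.symm.connected hcon)⟩

end CfsgLib.FischerThm
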