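import Cfsg.Agent.FischerThm.Chain
import Cfsg.Agent.FischerThm.Triality

/-!
# The induction
-/

set_option autoImplicit false

universe u

namespace CfsgLib.FischerThm

open Cfsg CfsgLib.FischerTypes

/-- The parts used by the induction. -/
structure Parts : Prop where
  two : CoreTwoCase.{u}
  three : CoreThreeCase.{u}
  sym : SymStep.{u}
  sp : SpStep.{u}
  uni : UniStep.{u}
  plus : OPlusStep.{u}
  minus : OMinusStep.{u}
  refl : ReflStep.{u}
  symSix : ConvSymSix
  plusThree : ConvOPlusThree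
  minusTwo : ConvOMinusTwo
  uniFour : ConvUniFour
  goodRefl : GoodRefl
  count : CountRefl
  localUni : LocalUni
  commEight : CommReflEight

/-- The list in the generic case. -/
def GenericKnown {G : Type u} [Group G] (D : Set G) : Prop :=
  (∃ n, 7 ≤ n ∧ IsSymT D n) ∨ (∃ m, 3 ≤ m ∧ IsOPlusT D m) ∨ (∃ m, 2 ≤ m ∧ IsOMinusT D m) ∨
    (∃ n s, 6 ≤ n ∧ (s = 1 ∨ s = -1) ∧ IsReflT D n s) ∨ IsM22T D ∨ IsM23T D ∨ IsM24T D

theorem GenericKnown.known {G : Type u} [Group G] {D : Set G} (h : GenericKnown D) : Known D := by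
  rcases h with ⟨n, hn, h⟩ | ⟨m, hm, h⟩ | ⟨m, hm, h⟩ | ⟨n, s, hn, hs, h⟩ | h | h | h
  · exact Or.inl ⟨n, by omega, h⟩
  · exact Or.inr (Or.inr (Or.inr (Or.inl ⟨m, hm, h⟩)))
  · exact Or.inr (Or.inr (Or.inr (Or.inr (Or.inl ⟨m, hm, h⟩))))
  · exact Or.inr (Or.inr (Or.inr (Or.inr (Or.inr (Or.inl ⟨n, s, by omega, hs, h⟩)))))
  · exact Or.inr (Or.inr (Or.inr (Or.inr (Or.inr (Or.inr (Or.inl h))))))
  · exact Or.inr (Or.inr (Or.inr (Or.inr (Or.inr (Or.inr (Or.inr (Or.inl h)))))))
  · exact Or.inr (Or.inr (Or.inr (Or.inr (Or.inr (Or.inr (Or.inr (Or.inr h)))))))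

theorem genericKnown_of_known (P : Parts.{u}) {G : Type u} [Group G] [Finite G] {D : Set G} (h : Generic D)
    {d : G} (hd : d ∈ D) (hk : Known (sImg (perp D d))) : GenericKnown D := by
  have symSp : ∀ {m}, 2 ≤ m → IsSpT (sImg (perp D d)) m → GenericKnown D := fun {m} hm hT => by
    rcases P.sp G D h d hd m hm hT with h1 | h1
    · exact Or.inr (Or.inl ⟨m + 1, by omega, h1⟩)
    · exact Or.inr (Or.inr (Or.inl ⟨m, hm, h1⟩))
  have refl : ∀ {n s}, 5 ≤ n → (s = 1 ∨ s = -1) → IsReflT (sImg (perp D d)) n s → GenericKnown D :=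
    fun {n s} hn hs hT => Or.inr (Or.inr (Or.inr (Or.inl
      ⟨n + 1, s, by omega, hs, P.refl G D h d hd n s hn hs hT⟩)))
  rcases hk with ⟨n, hn, hT⟩ | ⟨m, hm, hT⟩ | ⟨n, hn, hT⟩ | ⟨m, hm, hT⟩ | ⟨m, hm, hT⟩ |
      ⟨n, s, hn, hs, hT⟩ | hT | hT | hT
  · by_cases h6 : n = 6
    · subst h6
      exact symSp le_rfl (hT.trans P.symSix)
    · exact Or.inl ⟨n + 2, by omega, P.sym G D h d hd n hn h6 hT⟩
  · exact symSp hm hT
  · by_cases h4 : n = 4
    · subst h4
      obtain ⟨F, iF, iT, hF, hiso⟩ := hT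
      exact refl le_rfl (Or.inl rfl) (hiso.trans (P.uniFour F hF))
    by_cases h6 : n = 6
    · subst h6
      exact Or.inr (Or.inr (Or.inr (Or.inr (Or.inl
        (uSixStep P.refl P.goodRefl P.count P.uniFour P.localUni G D h d hd hT)))))
    · exact absurd hT (P.uni G D h d hd n (by omega) h6)
  · by_cases h3 : m = 3
    · subst h3
      exact Or.inl ⟨10, by norm_num, P.sym G D h d hd 8 (by norm_num) (by norm_num) (hT.trans P.plusThree)⟩
    · exact absurd hT (P.plus G D h d hd m (by omega))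
  · by_cases h2 : m = 2
    · subst h2
      exact refl le_rfl (Or.inr rfl) (hT.trans P.minusTwo)
    · exact absurd hT (P.minus G D h d hd m (by omega))
  · exact refl hn hs hT
  · exact Or.inr (Or.inr (Or.inr (Or.inr (Or.inr (Or.inl
      (mTwoTwoStep P.refl P.goodRefl P.count G D h d hd hT))))))
  · exact Or.inr (Or.inr (Or.inr (Or.inr (Or.inr (Or.inr
      (mTwoThreeStep P.refl P.goodRefl P.count P.commEight G D h d hd hT))))))
  · exact absurd hT (mTwoFourStep G D h d hd)

theorem card_sQuot_perp_lt {G : Type u} [Group G] [Finite G] {D : Set G} (h : Generic D) {d : G} (hd : d ∈ D) :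
    Nat.card (SQuot (perp D d)) < Nat.card G := by
  refine lt_of_le_of_lt (Nat.card_le_card_of_surjective _ QuotientGroup.mk_surjective) ?_
  refine lt_of_le_of_ne (Subgroup.card_le_card_group _) fun he => ?_
  have htop := Subgroup.eq_top_of_card_eq _ he
  have hc := (closure_le_centralizer (D := D) d).trans' htop.ge
  have : d ∈ Subgroup.center G := by
    rw [Subgroup.mem_center_iff]
    exact fun g => Subgroup.mem_centralizer_singleton_iff.1 (hc (Subgroup.mem_top g))
  rw [h.center, Subgroup.mem_bot] at this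
  exact FischerTypes.ne_one h.cls.1 hd this

theorem classification (P : Parts.{u}) : Classification.{u} := by
  suffices H : ∀ (N : ℕ) (G : Type u) [Group G] [Finite G] (D : Set G), Nat.card G ≤ N →
      IsThreeTranspositionClass D → Subgroup.center G = ⊥ → IsSimpleGroup (commutator G) →
      (∃ d ∈ D, (perp D d).Nonempty) → Known D from
    fun G _ _ D hD hZ hs hw => H _ G D le_rfl hD hZ hs hw
  intro N
  induction N with
  | zero => intro G _ _ D hle; exact absurd hle (by have := Nat.card_pos (α := G); omega)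
  | succ N ih =>
    intro G _ _ D hle hD hZ hs hw
    obtain ⟨d, hd, hne⟩ := hw
    by_cases h2 : ∀ x ∈ D, pCore 2 ↥(Subgroup.closure (perp D x)) ≤ Subgroup.center _
    · by_cases h3 : ∀ x ∈ D, pCore 3 ↥(Subgroup.closure (perp D x)) ≤ Subgroup.center _
      · have hg : Generic D := ⟨hD, hZ, hs, ⟨d, hd, hne⟩, h2, h3⟩
        obtain ⟨-, hlg, -, hs'⟩ := hBasic G D hg d hd
        refine (genericKnown_of_known P hg hd (ih _ _ ?_ hlg.cls hlg.center hs' hlg.pair)).known
        have := card_sQuot_perp_lt hg hd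
        omega
      · push Not at h3
        obtain ⟨x, hx, hx3⟩ := h3
        exact Or.inl ⟨5, le_rfl, P.three G D hD hZ hs ⟨d, hd, hne⟩ x hx hx3⟩
    · push Not at h2
      obtain ⟨x, hx, hx2⟩ := h2
      rcases P.two G D hD hZ hs ⟨d, hd, hne⟩ x hx hx2 with h' | h'
      · exact Or.inr (Or.inl h')
      · exact Or.inr (Or.inr (Or.inl h'))

/-- The generic case. -/
theorem generic_classification (P : Parts.{u}) {G : Type u} [Group G] [Finite G] {D : Set G} (h : Generic D) :
    GenericKnown D := by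
  obtain ⟨d, hd, -⟩ := h.pair
  obtain ⟨-, hlg, -, hs⟩ := hBasic G D h d hd
  exact genericKnown_of_known P h hd
    (classification P _ _ hlg.cls hlg.center hs hlg.pair)

end CfsgLib.FischerThm
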