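import Cfsg.Agent.FischerThm.Defs

/-!
# The diagonal forms
-/

set_option autoImplicit false

namespace CfsgLib.FischerThm

open Cfsg

/-- The weights. -/
def stdW (n : ℕ) (s : ZMod 3) (i : Fin n) : ZMod 3 := if i.val = 0 then s else 1

theorem stdQ_apply (n : ℕ) (s : ZMod 3) (v : Fin n → ZMod 3) :
    stdQ n s v = ∑ i, stdW n s i * (v i * v i) := by
  simp [stdQ, stdW, QuadraticMap.weightedSumSquares_apply, smul_eq_mul]

theorem polar_stdQ (n : ℕ) (s : ZMod 3) (v w : Fin n → ZMod 3) :
    QuadraticMap.polar (⇑(stdQ n s)) v w = ∑ i, stdW n s i * (2 * (v i * w i)) := by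
  simp only [QuadraticMap.polar, stdQ_apply, Pi.add_apply, ← Finset.sum_sub_distrib]
  exact Finset.sum_congr rfl fun i _ => by ring

theorem polar_stdQ_single (n : ℕ) (s : ZMod 3) (v : Fin n → ZMod 3) (j : Fin n) :
    QuadraticMap.polar (⇑(stdQ n s)) v (Pi.single j 1) = stdW n s j * (2 * v j) := by
  rw [polar_stdQ, Finset.sum_eq_single j] <;> simp +contextual [Pi.single_apply]

theorem stdQ_nondegenerate (n : ℕ) {s : ZMod 3} (hs : s ≠ 0) :
    (QuadraticMap.polarBilin (stdQ n s)).Nondegenerate := by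
  have key : ∀ v : Fin n → ZMod 3, (∀ w, QuadraticMap.polar (⇑(stdQ n s)) v w = 0) → v = 0 := by
    intro v hv
    funext j
    have h := hv (Pi.single j 1)
    rw [polar_stdQ_single] at h
    have hw : stdW n s j ≠ 0 := by
      unfold stdW; split_ifs
      exacts [hs, one_ne_zero]
    rcases mul_eq_zero.1 h with h1 | h1
    · exact absurd h1 hw
    · exact (mul_eq_zero.1 h1).resolve_left (by decide)
  exact ⟨fun v hv => key v fun w => by simpa using hv w,
    fun v hv => key v fun w => by rw [QuadraticMap.polar_comm]; simpa using hv w⟩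

theorem polarGramDet_stdQ (n : ℕ) (s : ZMod 3) :
    polarGramDet (⇑(stdQ n s)) = ∏ i, stdW n s i * 2 := by
  rw [polarGramDet, ← Matrix.det_diagonal]
  congr 1
  ext i j
  rw [Matrix.of_apply, polar_stdQ_single, Matrix.diagonal_apply]
  by_cases h : i = j
  · subst h; simp
  · simp [h]

theorem polarGramDet_stdQ_one (n : ℕ) : polarGramDet (⇑(stdQ n 1)) = 2 ^ n := by
  rw [polarGramDet_stdQ]
  simp [stdW]

end CfsgLib.FischerThm
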