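import Cfsg.Agent.FischerThm.Component
import Cfsg.Agent.FischerThm.StdForm
import Cfsg.Agent.FischerThm.Models.Refl
import Cfsg.Agent.FischerThm.Orth.Transfer

/-!
# Fischer's theorem: the reflection models are good
-/

set_option autoImplicit false

namespace CfsgLib.FischerThm

open Cfsg CfsgLib.Spinor CfsgLib.Transpositions CfsgLib.FischerTypes

namespace GoodRefl

variable {ι : Type} [Fintype ι] [DecidableEq ι] {Q : QuadraticForm (ZMod 3) (ι → ZMod 3)} {c : ZMod 3}

/-- No reflection commutes with all reflections of its norm. -/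
theorem sNoCentral_reflClass (hQ : (QuadraticMap.polarBilin Q).Nondegenerate) (hn : 5 ≤ Fintype.card ι)
    (hc : c ≠ 0) : SNoCentral (reflClass Q c) := by
  intro g hg
  obtain ⟨u, hu, rfl⟩ := exists_eq_classRefl hc hg
  obtain ⟨z, hz, huz⟩ := exists_orth_one hQ hn hc hu
  obtain ⟨s, hs, hs0, hus, -⟩ := exists_orth_norm hQ hn hc 0 hu hz huz
  have hw : Q (u + s) = c := by rw [QuadraticMap.map_add (⇑Q), hu, hs, hus, add_zero, add_zero]
  have h2 : QuadraticMap.polar (⇑Q) u u ≠ 0 := polar_self_ne_zero hc hu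
  refine ⟨classRefl hc (u + s) hw, classRefl_mem hc _ hw, fun h => ?_⟩
  rcases (commute_classRefl_iff hc hu hw).1 h with h | h | h
  · rw [QuadraticMap.polar_add_right, hus, add_zero] at h
    exact h2 h
  · exact hs0 rfl (add_eq_left.1 h)
  · have hs' : s = (-2 : ZMod 3) • u := by linear_combination (norm := module) h
    rw [hs', QuadraticMap.polar_smul_right, smul_eq_mul] at hus
    exact mul_ne_zero (neg_ne_zero.2 two_ne_zero_zmod_three) h2 hus

/-- A central core stays central in a copy. -/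
theorem pCore_le_center_equiv {A B : Type} [Group A] [Group B] (e : A ≃* B) {p : ℕ}
    (h : pCore p B ≤ Subgroup.center B) : pCore p A ≤ Subgroup.center A := by
  intro x hx
  have hn : ((pCore p A).map e.toMonoidHom).Normal := Subgroup.Normal.map inferInstance _ e.surjective
  have h1 := h (PLocal.le_pCore ((PLocal.isPGroup_pCore p A).map e.toMonoidHom) ⟨x, hx, rfl⟩)
  refine Subgroup.mem_center_iff.2 fun g => e.injective ?_
  rw [map_mul, map_mul]
  exact Subgroup.mem_center_iff.1 h1 (e g)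

theorem localGood_reflClass (hQ : (QuadraticMap.polarBilin Q).Nondegenerate) (hn : 5 ≤ Fintype.card ι)
    (hc : c ≠ 0) : LocalGood (sImg (reflClass Q c)) := by
  set S := reflClass Q c
  have hcls := reflClass_isThreeTranspositionClass hQ hn hc
  have hG := Transpositions.isThreeTranspositionGroup_of_class hcls
  have hS := sNoCentral_reflClass hQ hn hc
  have hcl : ∀ a ∈ S, ∀ b ∈ S, a * b * a ∈ S := fun a ha b hb => by
    have := hG.2.1 a b hb
    rwa [FischerTypes.inv_eq hG.1 ha] at this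
  have hG' := isThreeTranspositionGroup_sImg hG.1 subset_rfl hS hcl
  let e : ↥(Subgroup.closure S) ≃* ↥(reflectionSubgroup (⇑Q) c) :=
    (MulEquiv.subgroupCongr hG.2.2).trans Subgroup.topEquiv
  obtain ⟨u, hu⟩ := Forms.exists_value two_ne_zero_zmod_three hQ (by omega) c
  obtain ⟨z, hz, huz⟩ := exists_orth_one hQ hn hc hu
  refine ⟨⟨hG'.1, ⟨sMk S (classRefl_mem hc u hu), sMk_mem_sImg _,
      Set.Subset.antisymm (fun q hq => ?_) (fun q hq => ?_)⟩, hG'.2.2⟩,
    center_sQuot_eq_bot hG.1 subset_rfl hS hcl, ?_, ?_,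
    ⟨sMk S (classRefl_mem hc u hu), sMk_mem_sImg _, sMk S (classRefl_mem hc z hz), sMk_mem_sImg _,
      fun h => classRefl_ne hc hu hz huz (sMk_inj hG.1 subset_rfl hS _ _ h).symm,
      (commute_sMk_iff hG.1 subset_rfl _ _).2 ((commute_classRefl_iff hc hu hz).2 (Or.inl huz))⟩⟩
  · obtain ⟨x, hx, rfl⟩ := exists_sMk hq
    obtain ⟨g, rfl⟩ := Transpositions.exists_conj_of_class hcls (classRefl_mem hc u hu) hx
    exact isConj_iff.2 ⟨QuotientGroup.mk ⟨g, hG.2.2.symm ▸ Subgroup.mem_top g⟩, rfl⟩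
  · obtain ⟨k, rfl⟩ := isConj_iff.1 hq
    exact hG'.2.1 k _ (sMk_mem_sImg _)
  · haveI : Fact (Nat.Prime 2) := ⟨Nat.prime_two⟩
    exact pCore_quotient_center_eq_bot (pCore_le_center_equiv e (pCore_two_le_center hQ hn hc))
  · haveI : Fact (Nat.Prime 3) := ⟨Nat.prime_three⟩
    exact pCore_quotient_center_eq_bot (pCore_le_center_equiv e (pCore_three_le_center hQ hn hc))

/-- The model is the system of its class. -/
theorem dIso_reflD (n : ℕ) {s : ZMod 3} (hn : 5 ≤ n) (hs : s ≠ 0) :
    DIso (reflD n s) (sImg (reflClass (stdQ n s) 1)) := by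
  have hG := Transpositions.isThreeTranspositionGroup_of_class
    (reflClass_isThreeTranspositionClass (c := 1) (stdQ_nondegenerate n hs) (by simpa using hn) one_ne_zero)
  let e : ↥(Subgroup.closure (reflClass (stdQ n s) 1)) ≃* ↥(reflectionSubgroup (⇑(stdQ n s)) 1) :=
    (MulEquiv.subgroupCongr hG.2.2).trans Subgroup.topEquiv
  refine DIso.symm ⟨QuotientGroup.congr _ _ e (Models.map_center_equiv e), Set.Subset.antisymm ?_ ?_⟩
  · rintro _ ⟨_, ⟨x, hx, rfl⟩, rfl⟩
    exact ⟨e x, hx, rfl⟩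
  · rintro _ ⟨y, hy, rfl⟩
    exact ⟨_, ⟨⟨y, Subgroup.subset_closure hy⟩, hy, rfl⟩, rfl⟩

end GoodRefl

theorem goodRefl : GoodRefl := by
  intro n s hn hs
  have hs0 : s ≠ 0 := by rcases hs with rfl | rfl <;> decide
  exact Orth.localGood_of_dIso (GoodRefl.dIso_reflD n hn hs0)
    (GoodRefl.localGood_reflClass (stdQ_nondegenerate n hs0) (by simpa using hn) one_ne_zero)

end CfsgLib.FischerThm
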