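import Cfsg.Agent.FischerThm.Targets
import Cfsg.Agent.FischerThm.Srg.Basic
import Cfsg.Agent.FischerUnitaryExcl.Srg

/-!
# The integrality conditions
-/

set_option autoImplicit false

universe u

namespace CfsgLib.FischerThm

open Cfsg CfsgLib.FischerTypes

theorem srg : Srg.{u} := by
  intro G _ _ D h d hd a ha c hc hdc k l μ hk hl hμ
  classical
  haveI := Fintype.ofFinite ↥D
  haveI : Nonempty ↥D := ⟨⟨d, hd⟩⟩
  have hcount : ∀ (P : G → Prop) (i : DecidablePred fun y : ↥D => P y),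
      (@Finset.filter _ (fun y : ↥D => P y) i Finset.univ).card = {y ∈ D | P y}.ncard := by
    intro P i
    rw [← Set.ncard_coe_finset, ← Set.ncard_image_of_injective _ Subtype.val_injective]
    congr 1
    ext y
    simp [and_comm]
  let adj : ↥D → ↥D → Prop := fun x y => (x : G) ≠ y ∧ Commute (x : G) y
  have hsub : ∀ x : G, {y ∈ D | x ≠ y ∧ Commute x y} = perp D x := fun x => by
    ext y; simp [ne_comm]
  have hcommon : ∀ x z : G, {y ∈ D | (x ≠ y ∧ Commute x y) ∧ y ≠ z ∧ Commute y z} =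
      perp D x ∩ perp D z := fun x z => by
    ext y
    simp [ne_comm, Commute.symm_iff]
    all_goals tauto
  have hk' : ∀ x : ↥D, (Finset.univ.filter fun y => adj x y).card = k := by
    intro x
    simp only [adj]
    refine (hcount (fun y => (x : G) ≠ y ∧ Commute (x : G) y) _).trans ?_
    rw [hsub, hk]
    exact SrgAux.perp_ncard_eq h.cls x.2 hd
  have hl' : ∀ x y : ↥D, adj x y →
      (Finset.univ.filter fun z => adj x z ∧ adj z y).card = l := by
    intro x y hxy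
    simp only [adj]
    refine (hcount (fun z => ((x : G) ≠ z ∧ Commute (x : G) z) ∧ z ≠ y ∧ Commute z y) _).trans ?_
    rw [hcommon, hl]
    exact SrgAux.inter_ncard_eq h x.2 y.2 hd ha.1 hxy.1 (Ne.symm ha.2.1) (iff_of_true hxy.2 ha.2.2)
  have hm' : ∀ x y : ↥D, x ≠ y → ¬ adj x y →
      (Finset.univ.filter fun z => adj x z ∧ adj z y).card = μ := by
    intro x y hne hxy
    simp only [adj]
    refine (hcount (fun z => ((x : G) ≠ z ∧ Commute (x : G) z) ∧ z ≠ y ∧ Commute z y) _).trans ?_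
    rw [hcommon, hμ]
    exact SrgAux.inter_ncard_eq h x.2 y.2 hd hc (fun e => hne (Subtype.ext e))
      (fun e => hdc (e ▸ Commute.refl d)) (iff_of_false (fun e => hxy ⟨fun e' => hne (Subtype.ext e'), e⟩) hdc)
  have hμk : μ < k := by rw [hμ, hk]; exact SrgAux.inter_lt h hd hc hdc
  have hμ0 : 0 < μ := by
    rw [hμ]; exact (Set.ncard_pos (Set.toFinite _)).2 (SrgAux.inter_nonempty h hd hc hdc)
  have hlk : l + 1 ≤ k := by rw [hl, hk]; exact SrgAux.succ_le_ncard ha
  have hkv : k + 1 ≤ D.ncard := by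
    rw [hk, ← Set.ncard_insert_of_notMem (a := d) (fun e => e.2.1 rfl) (Set.toFinite _)]
    exact Set.ncard_le_ncard (Set.insert_subset hd fun y hy => hy.1) (Set.toFinite _)
  obtain ⟨hpar, htr⟩ := FischerUnitaryExcl.srg_trace (V := ↥D) (v := D.ncard)
    (by rw [← Nat.card_eq_fintype_card]; exact Nat.card_coe_set_eq D) adj
    (fun x y e => ⟨e.1.symm, e.2.symm⟩) (fun x e => e.1 rfl) hk' hl' hm'
  have hprod : k * (k - 1 - l) = (D.ncard - 1 - k) * μ := by
    zify [show l ≤ k - 1 by omega, show 1 ≤ k by omega, show k ≤ D.ncard - 1 by omega,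
      show 1 ≤ D.ncard by omega]
    linarith
  refine ⟨hμ0, hμk.le, Dvd.intro_left _ hprod.symm, ?_, ?_⟩
  · rw [hprod, Nat.mul_div_cancel _ hμ0]; omega
  · by_cases hX : 2 * (k : ℤ) + ((D.ncard : ℤ) - 1) * ((l : ℤ) - μ) = 0
    · exact Or.inl hX
    right
    have hpos : 0 < ((l : ℤ) - μ) ^ 2 + 4 * ((k : ℤ) - μ) := by
      have : (μ : ℤ) < k := by exact_mod_cast hμk
      nlinarith
    obtain ⟨t, ht⟩ := htr hpos
    rw [show ((D.ncard : ℤ) - 1) * ((l : ℤ) - μ) + 2 * k =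
      2 * (k : ℤ) + ((D.ncard : ℤ) - 1) * ((l : ℤ) - μ) by ring] at ht
    obtain ⟨q, hq⟩ : t ∣ 2 * (k : ℤ) + ((D.ncard : ℤ) - 1) * ((l : ℤ) - μ) :=
      (Int.pow_dvd_pow_iff two_ne_zero).1 ⟨_, ht.symm⟩
    have ht0 : t ≠ 0 := fun e => hX (by rw [hq, e, zero_mul])
    have hq2 : ((l : ℤ) - μ) ^ 2 + 4 * ((k : ℤ) - μ) = q ^ 2 := by
      rw [hq, mul_pow] at ht
      exact mul_left_cancel₀ (pow_ne_zero 2 ht0) ht
    refine ⟨q.natAbs, Int.natAbs_pos.2 fun e => ?_, by rw [Int.natAbs_sq, hq2], ?_⟩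
    · rw [hq2, e] at hpos; simp at hpos
    · exact Int.natAbs_dvd.2 ⟨t, by rw [hq, mul_comm]⟩

end CfsgLib.FischerThm
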