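import Cfsg.Agent.FischerThm.Targets
import Cfsg.Agent.FischerThm.Conv.Tables
import Cfsg.Agent.FischerThm.Conv.Refl
import Cfsg.Agent.FischerThm.Conv.Orth

/-!
# `O⁻₆(2)` and the smaller reflection group of dimension five over three elements
-/

set_option autoImplicit false

namespace CfsgLib.FischerThm

namespace ConvOMinusTwoAux

open Conv

/-- The conjugation table. -/
def tab : Fin 36 → Fin 36 → Fin 36 := tabGet 36 oMinusRows

/-- The vector over two elements in place `i`. -/
def vec (i : Fin 36) : (Fin 2 ⊕ Fin 2) ⊕ Fin 2 → ZMod 2 :=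
  fun k => (digit 2 (oMinusA.getD i.val 0)
    (Sum.elim (Sum.elim (fun j => j.val) (fun j => 2 + j.val)) (fun j => 4 + j.val) k) : ℕ)

/-- The vector over three elements in place `i`. -/
def vec' (i : Fin 36) : Fin 5 → ZMod 3 := fun k => (digit 3 (oMinusB.getD i.val 0) k.val : ℕ)

theorem orthCert : (∃ a, Model (oMinusD 2) tab a) ∧
    Subgroup.center ↥(Cfsg.isometryGroup (ZMod 2) (Cfsg.quadFormMinus 2 (ZMod 2) 1 1)) = ⊥ :=
  orthModel (CfsgLib.Dickson.minusForm_coe 2 1 1) (CfsgLib.Dickson.minusForm_nondegenerate 2 (by decide))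
    (by decide) vec (by decide +kernel) (by decide +kernel) (by decide +kernel) (by decide +kernel)
    (by decide +kernel)

theorem reflCert : ∃ a, Model (CfsgLib.Transpositions.reflClass (stdQ 5 (-1)) 1) tab a :=
  reflModel vec' (by decide +kernel) (by decide +kernel) (by decide +kernel) (by decide +kernel)

end ConvOMinusTwoAux

open ConvOMinusTwoAux in
theorem convOMinusTwo : ConvOMinusTwo := by
  obtain ⟨⟨a, ha⟩, hc⟩ := orthCert
  obtain ⟨b, hb⟩ := reflCert
  exact (Conv.dIso_cImg hc).trans (ha.dIso hb)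

end CfsgLib.FischerThm
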