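import Cfsg.Agent.FischerThm.Targets
import Cfsg.Agent.FischerThm.Conv.Tables
import Cfsg.Agent.FischerThm.Conv.Sym
import Cfsg.Agent.FischerThm.Conv.Orth

/-!
# `O⁺₆(2) ≅ S₈` with their classes
-/

set_option autoImplicit false

namespace CfsgLib.FischerThm

namespace ConvOPlusThreeAux

open Conv

/-- The conjugation table. -/
def tab : Fin 28 → Fin 28 → Fin 28 := tabGet 28 oPlusRows

/-- The smaller point of a transposition. -/
def lo (i : Fin 28) : Fin 8 := Fin.ofNat 8 (digit 8 (oPlusB.getD i.val 0) 0)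

/-- The larger point of a transposition. -/
def hi (i : Fin 28) : Fin 8 := Fin.ofNat 8 (digit 8 (oPlusB.getD i.val 0) 1)

/-- The vector in place `i`. -/
def vec (i : Fin 28) : Fin 3 ⊕ Fin 3 → ZMod 2 :=
  fun k => (digit 2 (oPlusA.getD i.val 0) (Sum.elim (fun j => j.val) (fun j => 3 + j.val) k) : ℕ)

theorem symCert : Model (symD 8) tab (fun i => Equiv.swap (lo i) (hi i)) :=
  symModel lo hi (by decide +kernel) (by decide +kernel) (by decide +kernel) (by decide +kernel)

theorem orthCert : (∃ a, Model (oPlusD 3) tab a) ∧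
    Subgroup.center ↥(Cfsg.isometryGroup (ZMod 2) (Cfsg.quadFormPlus 3 (ZMod 2))) = ⊥ :=
  orthModel (CfsgLib.Dickson.plusForm_coe 3) (CfsgLib.Dickson.plusForm_nondegenerate 3) (by decide)
    vec (by decide +kernel) (by decide +kernel) (by decide +kernel) (by decide +kernel)
    (by decide +kernel)

end ConvOPlusThreeAux

open ConvOPlusThreeAux in
theorem convOPlusThree : ConvOPlusThree := by
  obtain ⟨⟨a, ha⟩, hc⟩ := orthCert
  exact ha.dIso_of_center hc symCert (Conv.center_perm (by norm_num))

end CfsgLib.FischerThm
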