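import Cfsg.Agent.FischerThm.Targets
import Cfsg.Agent.FischerThm.Conv.Tables
import Cfsg.Agent.FischerThm.Conv.Refl
import Cfsg.Agent.FischerThm.Conv.Uni

/-!
# `U₄(2)` and the larger reflection group of dimension five over three elements
-/

set_option autoImplicit false

namespace CfsgLib.FischerThm

namespace ConvUniFourAux

open Conv CfsgLib.Linear

/-- The conjugation table. -/
def tab : Fin 45 → Fin 45 → Fin 45 := tabGet 45 uniFourRows

/-- The isotropic vector in place `i`. -/
def vec (i : Fin 45) : Fin 4 → GF4 := fun k =>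
  ⟨(digit 4 (uniFourA.getD i.val 0) k.val % 2 : ℕ), (digit 4 (uniFourA.getD i.val 0) k.val / 2 : ℕ)⟩

/-- The vector over three elements in place `i`. -/
def vec' (i : Fin 45) : Fin 5 → ZMod 3 := fun k => (digit 3 (uniFourB.getD i.val 0) k.val : ℕ)

theorem reflCert : ∃ a, Model (CfsgLib.Transpositions.reflClass (stdQ 5 1) 1) tab a :=
  reflModel vec' (by decide +kernel) (by decide +kernel) (by decide +kernel) (by decide +kernel)

theorem uniCert (F : Type) [Field F] [Fintype F] (hF : Fintype.card F = 4) :
    ∃ a, Model {g : ↥(Cfsg.SU 4 F 2) |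
      (((g : Matrix.SpecialLinearGroup (Fin 4) F) : Matrix (Fin 4) (Fin 4) F) - 1).rank = 1} tab a :=
  uniModel hF le_rfl vec (by decide +kernel) (by decide +kernel) (by decide +kernel)
    (by decide +kernel)

end ConvUniFourAux

open ConvUniFourAux in
theorem convUniFour : ConvUniFour := by
  intro F _ _ hF
  obtain ⟨a, ha⟩ := uniCert F hF
  obtain ⟨b, hb⟩ := reflCert
  exact ha.dIso hb

end CfsgLib.FischerThm
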