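import Cfsg.Agent.FischerThm.Defs

/-!
# Fischer's theorem: the statements of the parts

Each part is proved as `theorem <name> : <Name>` in a file of its own; `Main` assembles them.
-/

set_option autoImplicit false
open scoped MatrixGroups

universe u v

namespace CfsgLib.FischerThm

open Cfsg CfsgLib.FischerTypes

/-! ### Core -/

/-- The neighbourhood in the generic case. -/
def HBasic : Prop :=
  ∀ (G : Type u) [Group G] [Finite G] (D : Set G), Generic D → ∀ d ∈ D,
    NoCentralPerp D d ∧ LocalGood (sImg (perp D d)) ∧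
      (Cfsg.commutingGraph (sImg (perp D d))).Connected ∧ IsSimpleGroup (commutator (SQuot (perp D d)))

/-- Passing from `D_a` to its image. -/
def Transfer : Prop :=
  ∀ (G : Type u) [Group G] [Finite G] (D : Set G), IsThreeTranspositionGroup D → ∀ a ∈ D,
    NoCentralPerp D a → ∀ S : Set G, S ⊆ perp D a →
      ∃ T : Set (SQuot (perp D a)),
        T = (QuotientGroup.mk : ↥(Subgroup.closure (perp D a)) → SQuot (perp D a)) '' {x | (x : G) ∈ S} ∧
          DIso (sImg S) (sImg T)

/-- A component of a closed set of members with good neighbourhoods is of generic type. -/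
def Component : Prop :=
  ∀ (G : Type u) [Group G] [Finite G] (D : Set G), IsThreeTranspositionGroup D → ∀ M : Set G, M ⊆ D →
    (∀ a ∈ M, ∀ b ∈ M, a * b * a ∈ M) → (∀ a ∈ M, LocalGood (sImg (M ∩ perp D a))) → ∀ a ∈ M,
      Generic (sImg (comp M a)) ∧ (sImg (comp M a)).ncard = (comp M a).ncard ∧
        ∀ q ∈ sImg (comp M a), ∃ b ∈ comp M a,
          DIso (sImg (perp (sImg (comp M a)) q)) (sImg (M ∩ perp D b))

/-- The parameters of the rank three graph of `D` satisfy the integrality conditions. -/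
def Srg : Prop :=
  ∀ (G : Type u) [Group G] [Finite G] (D : Set G), Generic D →
    ∀ d ∈ D, ∀ a ∈ perp D d, ∀ c ∈ D, ¬ Commute d c →
      ∀ k l μ : ℕ, k = (perp D d).ncard → l = (perp D d ∩ perp D a).ncard → μ = (perp D d ∩ perp D c).ncard →
        0 < μ ∧ μ ≤ k ∧ μ ∣ k * (k - 1 - l) ∧ D.ncard = 1 + k + k * (k - 1 - l) / μ ∧
          (2 * (k : ℤ) + ((D.ncard : ℤ) - 1) * ((l : ℤ) - μ) = 0 ∨
            ∃ s : ℕ, 0 < s ∧ (s : ℤ) ^ 2 = ((l : ℤ) - μ) ^ 2 + 4 * ((k : ℤ) - μ) ∧
              (s : ℤ) ∣ 2 * (k : ℤ) + ((D.ncard : ℤ) - 1) * ((l : ℤ) - μ))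

/-- The neighbourhood of a common partner `a` of `d, c` among the common partners, in the model. -/
def CommonLocal : Prop :=
  ∀ (G : Type u) [Group G] [Finite G] (D : Set G), Generic D → ∀ (K : Type v) [Group K] (E : Set K),
    ∀ d ∈ D, DIso (sImg (perp D d)) E → ∀ c ∈ D, ¬ Commute d c → ∀ a ∈ perp D d ∩ perp D c,
      ∃ p ∈ E, ∃ q ∈ E, ¬ Commute p q ∧
        DIso (sImg ((perp D d ∩ perp D c) ∩ perp D a)) (sImg (perp E p ∩ perp E q))

/-! ### The steps -/

/-- Neighbourhood symmetric. -/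
def SymStep : Prop :=
  ∀ (G : Type u) [Group G] [Finite G] (D : Set G), Generic D → ∀ d ∈ D,
    ∀ m, 5 ≤ m → m ≠ 6 → IsSymT (sImg (perp D d)) m → IsSymT D (m + 2)

/-- Neighbourhood symplectic. -/
def SpStep : Prop :=
  ∀ (G : Type u) [Group G] [Finite G] (D : Set G), Generic D → ∀ d ∈ D,
    ∀ m, 2 ≤ m → IsSpT (sImg (perp D d)) m → IsOPlusT D (m + 1) ∨ IsOMinusT D m

/-- Neighbourhood unitary of dimension five or at least seven: impossible. -/
def UniStep : Prop :=
  ∀ (G : Type u) [Group G] [Finite G] (D : Set G), Generic D → ∀ d ∈ D,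
    ∀ n, 5 ≤ n → n ≠ 6 → ¬ IsUniT (sImg (perp D d)) n

/-- Neighbourhood orthogonal of plus type, dimension at least eight: impossible. -/
def OPlusStep : Prop :=
  ∀ (G : Type u) [Group G] [Finite G] (D : Set G), Generic D → ∀ d ∈ D,
    ∀ m, 4 ≤ m → ¬ IsOPlusT (sImg (perp D d)) m

/-- Neighbourhood orthogonal of minus type, dimension at least eight: impossible. -/
def OMinusStep : Prop :=
  ∀ (G : Type u) [Group G] [Finite G] (D : Set G), Generic D → ∀ d ∈ D,
    ∀ m, 3 ≤ m → ¬ IsOMinusT (sImg (perp D d)) m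

/-- Neighbourhood a reflection group: one dimension more. -/
def ReflStep : Prop :=
  ∀ (G : Type u) [Group G] [Finite G] (D : Set G), Generic D → ∀ d ∈ D,
    ∀ n s, 5 ≤ n → (s = 1 ∨ s = -1) → IsReflT (sImg (perp D d)) n s → IsReflT D (n + 1) s

/-- Neighbourhood `U₆(2)`. -/
def USixStep : Prop :=
  ∀ (G : Type u) [Group G] [Finite G] (D : Set G), Generic D → ∀ d ∈ D,
    IsUniT (sImg (perp D d)) 6 → IsM22T D

/-- Neighbourhood of type M(22). -/
def MTwoTwoStep : Prop :=
  ∀ (G : Type u) [Group G] [Finite G] (D : Set G), Generic D → ∀ d ∈ D,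
    IsM22T (sImg (perp D d)) → IsM23T D

/-- Neighbourhood of type M(23). -/
def MTwoThreeStep : Prop :=
  ∀ (G : Type u) [Group G] [Finite G] (D : Set G), Generic D → ∀ d ∈ D,
    IsM23T (sImg (perp D d)) → IsM24T D

/-- Neighbourhood of type M(24): impossible. -/
def MTwoFourStep : Prop :=
  ∀ (G : Type u) [Group G] [Finite G] (D : Set G), Generic D → ∀ d ∈ D,
    ¬ IsM24T (sImg (perp D d))

/-! ### Small coincidences and facts about the models -/

/-- `S₆ ≅ Sp₄(2)`. -/
def ConvSymSix : Prop := DIso (symD 6) (spD 2)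

/-- `O⁺₆(2) ≅ S₈`. -/
def ConvOPlusThree : Prop := DIso (oPlusD 3) (symD 8)

/-- `O⁻₆(2) ≅` the reflection group of dimension five of the smaller class. -/
def ConvOMinusTwo : Prop := DIso (oMinusD 2) (reflD 5 (-1))

/-- `U₄(2) ≅` the reflection group of dimension five of the larger class, modulo the centre. -/
def ConvUniFour : Prop :=
  ∀ (F : Type) [Field F] [Fintype F], Fintype.card F = 4 → DIso (uniD 4 F) (reflD 5 1)

/-- The unitary models are good. -/
def GoodUni : Prop :=
  ∀ (F : Type) [Field F] [Fintype F], Fintype.card F = 4 → ∀ n, 4 ≤ n → LocalGood (uniD n F)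

/-- The orthogonal models over the field with two elements are good. -/
def GoodOrth : Prop :=
  (∀ m, 3 ≤ m → LocalGood (oPlusD m)) ∧ ∀ m, 2 ≤ m → LocalGood (oMinusD m)

/-- The reflection models are good. -/
def GoodRefl : Prop :=
  ∀ n s, 5 ≤ n → (s = 1 ∨ s = -1) → LocalGood (reflD n s)

/-- Common neighbours in the unitary models. -/
def LocalUni : Prop :=
  ∀ (F : Type) [Field F] [Fintype F], Fintype.card F = 4 → ∀ n, 4 ≤ n →
    ∀ a ∈ uniD (n + 2) F, ∀ b ∈ uniD (n + 2) F, ¬ Commute a b →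
      DIso (sImg (perp (uniD (n + 2) F) a ∩ perp (uniD (n + 2) F) b)) (uniD n F)

/-- Common neighbours in the orthogonal models over the field with two elements. -/
def LocalOrth : Prop :=
  (∀ m, 2 ≤ m → ∀ a ∈ oPlusD (m + 2), ∀ b ∈ oPlusD (m + 2), ¬ Commute a b →
      DIso (sImg (perp (oPlusD (m + 2)) a ∩ perp (oPlusD (m + 2)) b)) (oMinusD m)) ∧
    ∀ m, 3 ≤ m → ∀ a ∈ oMinusD m, ∀ b ∈ oMinusD m, ¬ Commute a b →
      DIso (sImg (perp (oMinusD m) a ∩ perp (oMinusD m) b)) (oPlusD m)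

/-- The numbers of members of the reflection models used in the counts. -/
def CountRefl : Prop :=
  (reflD 5 1).ncard = 45 ∧ (reflD 5 (-1)).ncard = 36 ∧ (reflD 6 1).ncard = 126 ∧
    (reflD 6 (-1)).ncard = 117 ∧ (reflD 7 1).ncard = 351 ∧ (reflD 8 1).ncard = 1080

/-- `(commutator of the eight-dimensional reflection model) ≅ PΩ⁺₈(3)`. -/
def CommReflEight : Prop :=
  Nonempty (commutator (ReflGroup 8 1) ≃* Cfsg.POmega (ZMod 3) (Cfsg.quadFormPlus 4 (ZMod 3)))

/-- A simple reflection model is an odd-dimensional orthogonal commutator group. -/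
def SimpleRefl : Prop :=
  ∀ n s, 5 ≤ n → (s = 1 ∨ s = -1) → IsSimpleGroup (ReflGroup n s) →
    ∃ m : ℕ, Nonempty (ReflGroup n s ≃* Cfsg.POmega (ZMod 3) (Cfsg.quadFormOdd m (ZMod 3)))

/-- The models generated by outer involutions are not simple. -/
def NotSimpleModels : Prop :=
  (∀ n, 5 ≤ n → ¬ IsSimpleGroup (Equiv.Perm (Fin n))) ∧
    (∀ m, 3 ≤ m → ¬ IsSimpleGroup ↥(Cfsg.isometryGroup (ZMod 2) (Cfsg.quadFormPlus m (ZMod 2)))) ∧
    ∀ m, 2 ≤ m → ¬ IsSimpleGroup ↥(Cfsg.isometryGroup (ZMod 2) (Cfsg.quadFormMinus m (ZMod 2) 1 1))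

/-! ### The cases of non-central cores -/

/-- A non-central 2-core gives a symplectic or unitary group with its transvections. -/
def CoreTwoCase : Prop :=
  ∀ (G : Type u) [Group G] [Finite G] (D : Set G), Cfsg.IsThreeTranspositionClass D →
    Subgroup.center G = ⊥ → IsSimpleGroup (commutator G) → (∃ d ∈ D, (perp D d).Nonempty) → ∀ d ∈ D,
      ¬ pCore 2 ↥(Subgroup.closure (perp D d)) ≤ Subgroup.center _ →
        (∃ m, 2 ≤ m ∧ IsSpT D m) ∨ (∃ n, 4 ≤ n ∧ IsUniT D n)

/-- A non-central 3-core gives `S₅` with its transpositions. -/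
def CoreThreeCase : Prop :=
  ∀ (G : Type u) [Group G] [Finite G] (D : Set G), Cfsg.IsThreeTranspositionClass D →
    Subgroup.center G = ⊥ → IsSimpleGroup (commutator G) → (∃ d ∈ D, (perp D d).Nonempty) → ∀ d ∈ D,
      ¬ pCore 3 ↥(Subgroup.closure (perp D d)) ≤ Subgroup.center _ → IsSymT D 5

/-- **Fischer's theorem**, in the form used for the induction. -/
def Classification : Prop :=
  ∀ (G : Type u) [Group G] [Finite G] (D : Set G), Cfsg.IsThreeTranspositionClass D →
    Subgroup.center G = ⊥ → IsSimpleGroup (commutator G) → (∃ d ∈ D, (perp D d).Nonempty) → Known D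

end CfsgLib.FischerThm
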