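import Cfsg.Agent.FischerThm.Defs
import Cfsg.Agent.FischerTypes.U62Model

/-!
# Fischer's theorem: the unitary transvections over the field with four elements

The members of `uniD` are the images of the transvections `tv v` at isotropic points.
-/

set_option autoImplicit false

namespace CfsgLib.FischerThm

open Matrix CfsgLib.RepBounds.Unit CfsgLib.U62

variable {F : Type} [Field F] [Fintype F] (K : ConjField F) (hK : K.q = 2)

section anyIndex

variable {ι : Type*} [Fintype ι] [DecidableEq ι]

include hK in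
theorem rank_sub_one_iff (g : suG K ι) :
    (g.1.1 - 1).rank = 1 ↔ ∃ v, herm K v v = 0 ∧ v ≠ 0 ∧ g = tv K v := by
  set L := Matrix.mulVecLin (g.1.1 - 1) with hL
  have hLx : ∀ x, L x = app K g x - x := fun x => by
    rw [hL, mulVecLin_apply, sub_mulVec, one_mulVec, app]
  constructor
  · intro hr
    have hr' : Module.finrank F (LinearMap.range L) = 1 := hr
    obtain ⟨⟨v, hv⟩, hv0, hspan⟩ := finrank_eq_one_iff'.1 hr'
    have hv0' : v ≠ 0 := fun h => hv0 (Subtype.ext h)
    choose φ hφ using fun x : ι → F => hspan ⟨L x, x, rfl⟩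
    have hφL : ∀ x, φ x • v = L x := fun x => by
      simpa only [SetLike.val_smul] using congrArg Subtype.val (hφ x)
    have happ : ∀ x, app K g x = x + φ x • v := fun x => by rw [hφL, hLx, add_sub_cancel]
    let r : ι → F := fun j => φ (Pi.single j 1)
    have hM : g.1.1 - 1 = replicateCol Unit v * replicateRow Unit r := by
      ext i j
      have h1 : φ (Pi.single j 1) * v i = (g.1.1 - 1) i j := by
        have := congrFun (hφL (Pi.single j 1)) i
        simpa [hL, Matrix.one_apply, Pi.single_apply] using this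
      rw [← h1]
      simp [Matrix.mul_apply, r, mul_comm]
    have hrv : r ⬝ᵥ v = 0 := by
      have h := g.1.2
      rw [show g.1.1 = 1 + replicateCol Unit v * replicateRow Unit r by rw [← hM, add_sub_cancel],
        det_one_add_replicateCol_mul_replicateRow] at h
      exact add_eq_left.1 h
    have hφv : φ v = 0 := by
      have h := hφL v
      rw [hL, mulVecLin_apply, hM, ← mulVec_mulVec] at h
      have h0 : replicateRow Unit r *ᵥ v = 0 := funext fun _ => hrv
      rw [h0, mulVec_zero, smul_eq_zero] at h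
      exact h.resolve_right hv0'
    obtain ⟨x₀, hx₀⟩ : ∃ x, φ x ≠ 0 := by
      obtain ⟨u, hu⟩ := hv
      refine ⟨u, fun h => hv0' ?_⟩
      rw [← hu, ← hφL, h, zero_smul]
    have hiso : ∀ x y,
        φ x * herm K v y + K.σ (φ y) * herm K x v + φ x * K.σ (φ y) * herm K v v = 0 := fun x y => by
      have h := herm_app K g x y
      rw [happ, happ] at h
      simp only [herm_add_left, herm_add_right, herm_smul_left, herm_smul_right] at h
      linear_combination h
    have hvv : herm K v v = 0 := by
      have h := hiso x₀ v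
      rw [hφv, map_zero] at h
      simp only [zero_mul, mul_zero, add_zero] at h
      exact (mul_eq_zero.1 h).resolve_left hx₀
    obtain ⟨y₀, hy₀⟩ := exists_herm_eq K hv0' 1
    have hy : herm K v y₀ = 1 := by rw [← conj_herm K y₀ v, hy₀, map_one]
    have hform : ∀ x, φ x = -K.σ (φ y₀) * herm K x v := fun x => by
      have h := hiso x y₀
      rw [hy, hvv] at h
      linear_combination h
    have htr : IsTransv K g v (-K.σ (φ y₀)) := fun x => by rw [happ, hform]
    have hsk : -K.σ (φ y₀) ∈ K.skew := skew_of_isometry K hv0' hvv fun x y => by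
      rw [← htr x, ← htr y, herm_app]
    have hc0 : -K.σ (φ y₀) ≠ 0 := fun h => hx₀ (by rw [hform, h, zero_mul])
    have hc1 : -K.σ (φ y₀) = 1 :=
      eq_one_of_fixed K hK (by rw [K.skew_eq hsk, U62.neg_eq K hK]) hc0
    rw [hc1] at htr
    exact ⟨v, hvv, hv0', htr.unique K (isTransv_tv K hK hvv)⟩
  · rintro ⟨v, hvv, hv0, rfl⟩
    have hLv : ∀ x, L x = herm K x v • v := fun x => by rw [hLx, app_tv K hK hvv, add_sub_cancel_left]
    show Module.finrank F (LinearMap.range L) = 1
    have hr : LinearMap.range L = F ∙ v := by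
      refine le_antisymm ?_ ?_
      · rintro _ ⟨x, rfl⟩
        rw [hLv]
        exact Submodule.smul_mem _ _ (Submodule.mem_span_singleton_self v)
      · rw [Submodule.span_singleton_le_iff_mem]
        obtain ⟨y, hy⟩ := exists_herm_eq K hv0 1
        exact ⟨y, by rw [hLv, hy, one_smul]⟩
    rw [hr, finrank_span_singleton hv0]

omit [DecidableEq ι] in
theorem herm_comp {κ : Type*} [Fintype κ] (e : ι ≃ κ) (u v : ι → F) :
    herm K (u ∘ e.symm) (v ∘ e.symm) = herm K u v :=
  Equiv.sum_comp e.symm fun i => u i * K.σ (v i)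

include hK in
theorem reindexEquiv_tv {κ : Type*} [Fintype κ] [DecidableEq κ] (e : ι ≃ κ) {v : ι → F}
    (hv : herm K v v = 0) : U62.reindexEquiv K e (tv K v) = tv K (v ∘ e.symm) :=
  ((isTransv_tv K hK hv).reindexHom K e).unique K (isTransv_tv K hK (by rw [herm_comp, hv]))

end anyIndex

/-- The two descriptions of `SU(n,2)`. -/
noncomputable def suEquiv (n : ℕ) : suG K (Fin n) ≃* ↥(Cfsg.SU n F 2) :=
  MulEquiv.subgroupCongr (hK ▸ suG_fin_eq K n)

theorem coe_suEquiv {n : ℕ} (g : suG K (Fin n)) :
    ((suEquiv K hK n g : Matrix.SpecialLinearGroup (Fin n) F)) = g.1 := rfl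

/-- The members of `uniD` are the images of the transvections. -/
theorem mem_uniD_iff {n : ℕ} {q : Cfsg.PSU n F 2} :
    q ∈ uniD n F ↔
      ∃ v, herm K v v = 0 ∧ v ≠ 0 ∧ QuotientGroup.mk (suEquiv K hK n (tv K v)) = q := by
  constructor
  · rintro ⟨g, hg, rfl⟩
    obtain ⟨v, hv, hv0, he⟩ := (rank_sub_one_iff K hK ((suEquiv K hK n).symm g)).1 hg
    exact ⟨v, hv, hv0, by rw [← he, MulEquiv.apply_symm_apply]⟩
  · rintro ⟨v, hv, hv0, rfl⟩
    refine ⟨suEquiv K hK n (tv K v), ?_, rfl⟩
    rw [Set.mem_setOf_eq, coe_suEquiv]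
    exact (rank_sub_one_iff K hK (tv K v)).2 ⟨v, hv, hv0, rfl⟩

end CfsgLib.FischerThm
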