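import Cfsg.Agent.FischerThm.Basic
import Cfsg.Agent.FischerThm.Targets
import Cfsg.Agent.FischerThm.UniTransv
import Cfsg.Agent.FischerPolar.Seed

/-!
# Fischer's theorem: the case of a non-central 2-core

The twins give the symplectic or unitary model, with the class going to the transvections.
-/

set_option autoImplicit false

universe u

namespace CfsgLib.FischerThm

open Cfsg CfsgLib.FischerTypes
open CfsgLib.RepBounds.Unit CfsgLib.U62

/-- The symplectic transvections are the elements of displacement of rank one. -/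
theorem mem_spD_iff {m : ℕ} {g : Matrix.symplecticGroup (Fin m) (ZMod 2)} :
    g ∈ spD m ↔ ∃ w, w ≠ 0 ∧ g = Forms.spTransv w 1 := by
  classical
  set L := Matrix.mulVecLin ((g : Matrix (Fin m ⊕ Fin m) (Fin m ⊕ Fin m) (ZMod 2)) - 1) with hL
  have hLx : ∀ x, L x = g.1.mulVec x - x := fun x => by
    rw [hL, Matrix.mulVecLin_apply, Matrix.sub_mulVec, Matrix.one_mulVec]
  constructor
  · intro hr
    have hr' : Module.finrank (ZMod 2) (LinearMap.range L) = 1 := hr
    obtain ⟨⟨w, hw⟩, hw0, hspan⟩ := finrank_eq_one_iff'.1 hr'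
    have hw0' : w ≠ 0 := fun h => hw0 (Subtype.ext h)
    refine ⟨w, hw0', Forms.sp_ext fun x => ?_⟩
    have hstep : ∀ y, g.1.mulVec y = y ∨ g.1.mulVec y = y + w := fun y => by
      obtain ⟨c, hc⟩ := hspan ⟨L y, y, rfl⟩
      have hc' : c • w = L y := congrArg Subtype.val hc
      rcases ((by decide : ∀ c : ZMod 2, c = 0 ∨ c = 1) c) with rfl | rfl
      · rw [zero_smul, hLx] at hc'; exact Or.inl (sub_eq_zero.1 hc'.symm)
      · rw [one_smul, hLx] at hc'; exact Or.inr (eq_add_of_sub_eq' hc'.symm)
    obtain ⟨z, hz⟩ : ∃ z, g.1.mulVec z = z + w := by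
      obtain ⟨z, hz⟩ := hw
      exact ⟨z, by rw [← hz, hLx, add_sub_cancel]⟩
    -- the moved vectors are those not orthogonal to the centre
    have hgw : g.1.mulVec w = w := by
      rcases hstep w with h | h
      · exact h
      · rw [show w + w = 0 from funext fun _ => CharTwo.add_self_eq_zero _] at h
        exact absurd (Matrix.mulVec_injective_of_isUnit
          ((Matrix.isUnit_iff_isUnit_det _).2 (SymplecticGroup.symplectic_det g.2))
          (h.trans (Matrix.mulVec_zero _).symm)) hw0'
    have key : ∀ y, g.1.mulVec y = y + w → ∀ x, g.1.mulVec x = x →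
        Cfsg.sympForm m (ZMod 2) x w = 0 := fun y hy x hx => by
      have h := Forms.sympForm_map g x y
      rw [hx, hy] at h
      have hb := Forms.sympBilin_apply (F := ZMod 2) (m := m)
      simp only [← hb, map_add] at h
      simpa [hb] using h
    have hker : ∀ x, g.1.mulVec x = x ↔ Cfsg.sympForm m (ZMod 2) x w = 0 := by
      intro x
      refine ⟨key z hz x, fun h => ?_⟩
      by_contra hne
      have hx := (hstep x).resolve_left hne
      -- then everything is orthogonal to the centre
      refine hw0' (Forms.sympForm_sep w fun y => ?_)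
      rw [Forms.sympForm_swap]
      rcases hstep y with hy | hy
      · rw [key z hz y hy, neg_zero]
      · have hd : g.1.mulVec (y + x) = y + x := by
          rw [Matrix.mulVec_add, hy, hx]
          funext i
          simp only [Pi.add_apply]
          linear_combination CharTwo.add_self_eq_zero (w i)
        have h2 := key z hz _ hd
        simp only [← Forms.sympBilin_apply, map_add, LinearMap.add_apply] at h2 h ⊢
        rw [h, add_zero] at h2
        rw [h2, neg_zero]
    show g.1.mulVec x = (Cfsg.sympTransvection m w 1).mulVec x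
    rw [Forms.sympTransvection_mulVec, one_mul]
    rcases (by decide : ∀ c : ZMod 2, c = 0 ∨ c = 1) (Cfsg.sympForm m (ZMod 2) x w) with h | h
    · rw [h, zero_smul, add_zero]; exact (hker x).2 h
    · rw [h, one_smul]
      exact (hstep x).resolve_left fun he => one_ne_zero (h.symm.trans ((hker x).1 he))
  · rintro ⟨w, hw, rfl⟩
    show Module.finrank (ZMod 2) (LinearMap.range L) = 1
    have hLw : ∀ x, L x = Cfsg.sympForm m (ZMod 2) x w • w := fun x => by
      rw [hLx]
      show (Cfsg.sympTransvection m w 1).mulVec x - x = _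
      rw [Forms.sympTransvection_mulVec, one_mul, add_sub_cancel_left]
    have hr : LinearMap.range L = (ZMod 2) ∙ w := by
      refine le_antisymm ?_ ?_
      · rintro _ ⟨x, rfl⟩
        rw [hLw]
        exact Submodule.smul_mem _ _ (Submodule.mem_span_singleton_self w)
      · rw [Submodule.span_singleton_le_iff_mem]
        obtain ⟨y, hy⟩ : ∃ y, Cfsg.sympForm m (ZMod 2) y w ≠ 0 := by
          by_contra! h
          exact hw (Forms.sympForm_sep w fun y => by rw [Forms.sympForm_swap, h y, neg_zero])
        refine ⟨y, ?_⟩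
        have h1 : Cfsg.sympForm m (ZMod 2) y w = 1 :=
          (by decide : ∀ c : ZMod 2, c ≠ 0 → c = 1) _ hy
        rw [hLw, h1, one_smul]
    rw [hr, finrank_span_singleton hw]

/-- **A non-central 2-core gives transvections.** -/
theorem coreTwoCase : CoreTwoCase.{u} := by
  intro G _ _ D hD hZ hs hw d hd hcore
  obtain ⟨-, -, -, -, -, hsol, hperf⟩ := facts_of_simple hD hZ hs hw
  have C : FischerPolar.Ctx D :=
    ⟨hsol, hperf, hD, FischerPolar.exists_seed_of_pCore hD hd hcore⟩
  obtain ⟨x, a, b, hx, hab, -⟩ := C.seed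
  rcases C.line_card hx hab.1 with h | h
  · obtain ⟨m, ρ, hm, -, hρs, hρc, Φ, hΦ⟩ := C.exists_symplectic_model
      (fun p hp q hq => by rw [C.line_ncard hp hq hx hab.1, h])
    refine Or.inl ⟨m, hm, Φ, Set.Subset.antisymm ?_ fun g hg => ?_⟩
    · rintro _ ⟨y, hy, rfl⟩
      refine mem_spD_iff.2 ⟨ρ ⟨y, hy⟩, fun h0 => ?_, hΦ ⟨y, hy⟩⟩
      refine FischerTypes.ne_one hD.1 hy (Φ.injective ?_)
      rw [map_one, hΦ ⟨y, hy⟩, h0]
      exact Forms.sp_ext fun v => by
        show (Cfsg.sympTransvection m 0 1).mulVec v = _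
        rw [Forms.sympTransvection_mulVec, smul_zero, add_zero]
        exact (Matrix.one_mulVec v).symm
    · obtain ⟨w, hw0, rfl⟩ := mem_spD_iff.1 hg
      obtain ⟨y, rfl⟩ := hρs w hw0
      exact ⟨y, y.2, hΦ y⟩
  · obtain ⟨F, iF, iT, K, r, ε, pt, -, hF, -, hmem, -, -, hK, Φ, e, hpts, hΦ⟩ :=
      FischerPolar.exists_unitary_model C (fun p hp q hq => by rw [C.line_ncard hp hq hx hab.1, h]) hx
    refine Or.inr ⟨_, by omega, F, iF, iT, hF, Φ, ?_⟩
    have key : ∀ u, herm K u u = 0 → u ≠ 0 →
        Φ (pt u) = QuotientGroup.mk (suEquiv K hK _ (tv K (u ∘ e.symm))) := fun u hu hu0 => by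
      rw [hΦ u hu hu0, reindexEquiv_tv K hK e hu]
      rfl
    refine Set.Subset.antisymm ?_ fun q hq => ?_
    · rintro _ ⟨y, hy, rfl⟩
      obtain ⟨u, hu, hu0, rfl⟩ := hpts y hy
      refine (mem_uniD_iff K hK).2 ⟨u ∘ e.symm, by rw [herm_comp, hu], fun h0 => hu0 ?_, (key u hu hu0).symm⟩
      funext i
      simpa using congrFun h0 (e i)
    · obtain ⟨v, hv, hv0, rfl⟩ := (mem_uniD_iff K hK).1 hq
      have hve : (v ∘ e) ∘ e.symm = v := by funext i; simp
      have hv' : herm K (v ∘ e) (v ∘ e) = 0 := by rw [← herm_comp K e, hve, hv]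
      have hv0' : v ∘ e ≠ 0 := fun h0 => hv0 (by rw [← hve, h0]; rfl)
      exact ⟨pt (v ∘ e), hmem _ hv' hv0', by rw [key _ hv' hv0', hve]⟩

end CfsgLib.FischerThm
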