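import Cfsg.Agent.FischerThm.Targets
import Cfsg.Agent.FischerThm.StdForm
import Cfsg.Agent.FischerThm.Conv.Refl

/-!
# The numbers of members of the small reflection models
-/

set_option autoImplicit false

namespace CfsgLib.FischerThm

namespace CountReflAux

open CfsgLib.Transpositions Conv

/-- The number of vectors of square sum `c`, by recursion on the dimension. -/
def cnt : ℕ → ZMod 3 → ℕ
  | 0, c => if c = 0 then 1 else 0
  | n + 1, c => cnt n c + 2 * cnt n (c - 1)

/-- The vectors of value `c` of a diagonal form are counted by their first coordinate. -/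
theorem card_split (n : ℕ) (s c : ZMod 3) :
    Nat.card {v : Fin (n + 1) → ZMod 3 // sQ (n + 1) s v = c} =
      Nat.card {w : Fin n → ZMod 3 // ∑ k, w k * w k = c} +
        2 * Nat.card {w : Fin n → ZMod 3 // ∑ k, w k * w k = c - s} := by
  have hval : ∀ (x : ZMod 3) (w : Fin n → ZMod 3),
      sQ (n + 1) s (Fin.cons x w) = s * (x * x) + ∑ k, w k * w k := fun x w => by
    rw [sQ, Fin.sum_univ_succ]
    simp
  have e : {v : Fin (n + 1) → ZMod 3 // sQ (n + 1) s v = c} ≃
      (Σ x : ZMod 3, {w : Fin n → ZMod 3 // ∑ k, w k * w k = c - s * (x * x)}) :=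
    (((Fin.consEquiv fun _ : Fin (n + 1) => ZMod 3).subtypeEquiv
      (p := fun p => ∑ k, p.2 k * p.2 k = c - s * (p.1 * p.1)) fun p => by
        show _ ↔ sQ (n + 1) s (Fin.cons p.1 p.2) = c
        rw [hval, eq_sub_iff_add_eq, add_comm]).symm).trans
      (Equiv.subtypeProdEquivSigmaSubtype
        fun (x : ZMod 3) (w : Fin n → ZMod 3) => ∑ k, w k * w k = c - s * (x * x))
  rw [Nat.card_congr e, Nat.card_sigma,
    show (Finset.univ : Finset (ZMod 3)) = {0, 1, 2} from rfl]
  rw [Finset.sum_insert (by decide), Finset.sum_insert (by decide), Finset.sum_singleton,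
    show (2 : ZMod 3) * 2 = 1 from rfl, mul_zero, mul_one, mul_zero, sub_zero, mul_one]
  ring

theorem card_sq_sum : ∀ (n : ℕ) (c : ZMod 3),
    Nat.card {w : Fin n → ZMod 3 // ∑ k, w k * w k = c} = cnt n c
  | 0, c => by
    rw [cnt]
    by_cases h : c = 0
    · subst h; simp
    · rw [if_neg h]
      exact Nat.card_eq_zero.2 (Or.inl ⟨fun w => h (by simpa using w.2.symm)⟩)
  | n + 1, c => by
    rw [cnt, ← card_sq_sum n c, ← card_sq_sum n (c - 1), ← card_split n 1 c]
    exact Nat.card_congr (Equiv.subtypeEquivRight fun v => by simp [sQ])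

theorem card_norm_one (n : ℕ) (s : ZMod 3) :
    Nat.card {v : Fin (n + 1) → ZMod 3 // sQ (n + 1) s v = 1} = cnt n 1 + 2 * cnt n (1 - s) := by
  rw [card_split, card_sq_sum, card_sq_sum]

/-- Reflections with the same image modulo the centre have the same centre up to sign. -/
theorem eq_or_neg_of_mk_eq {n : ℕ} {s : ZMod 3} (hn : 5 ≤ n) (hs : s ≠ 0) {u v : Fin n → ZMod 3}
    (hu : stdQ n s u = 1) (hv : stdQ n s v = 1)
    (h : (QuotientGroup.mk (sRefl u hu) : ReflGroup n s) = QuotientGroup.mk (sRefl v hv)) :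
    v = u ∨ v = -u := by
  by_contra hne
  set z := (sRefl u hu)⁻¹ * sRefl v hv with hz
  have hzc : ∀ g, g * z = z * g := Subgroup.mem_center_iff.1 (QuotientGroup.eq.1 h)
  have hvz : sRefl v hv = sRefl u hu * z := by rw [hz, mul_inv_cancel_left]
  have key : ∀ g, Commute g (sRefl v hv) ↔ Commute g (sRefl u hu) := fun g => by
    rw [hvz]
    refine ⟨fun hc => ?_, fun hc => hc.mul_right (hzc g)⟩
    have := hc.mul_right (Commute.inv_right (hzc g : Commute g z))
    rwa [mul_inv_cancel_right] at this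
  have huv : QuadraticMap.polar (⇑(stdQ n s)) u v = 0 :=
    ((commute_classRefl_iff one_ne_zero hu hv).1 ((key (sRefl u hu)).2 (Commute.refl _))).resolve_right hne
  obtain ⟨w, hw, hw0, huw, hvw⟩ := exists_orth_norm (stdQ_nondegenerate n hs)
    (by simpa using hn) one_ne_zero 0 hu hv huv
  have hvu : QuadraticMap.polar (⇑(stdQ n s)) v u = 0 := by rw [QuadraticMap.polar_comm, huv]
  have hx : stdQ n s (u + w) = 1 := by rw [QuadraticMap.map_add (⇑(stdQ n s)), hu, hw, huw]; simp
  have h1 : Commute (sRefl v hv) (sRefl (u + w) hx) :=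
    (commute_classRefl_iff one_ne_zero hv hx).2 (Or.inl (by
      rw [QuadraticMap.polar_add_right, hvu, hvw, add_zero]))
  have huu : QuadraticMap.polar (⇑(stdQ n s)) u u ≠ 0 := polar_self_ne_zero one_ne_zero hu
  rcases (commute_classRefl_iff one_ne_zero hu hx).1 ((key _).1 h1.symm).symm with h2 | h2 | h2
  · rw [QuadraticMap.polar_add_right, huw, add_zero] at h2
    exact huu h2
  · exact hw0 rfl (add_eq_left.1 h2)
  · apply huu
    have h3 : w = -u - u := by rw [← h2]; abel
    rw [h3] at huw
    have h4 : (-2 : ZMod 3) * QuadraticMap.polar (⇑(stdQ n s)) u u = 0 := by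
      rw [QuadraticMap.polar_sub_right, QuadraticMap.polar_neg_right] at huw
      linear_combination huw
    exact (mul_eq_zero.1 h4).resolve_left (by decide)

open Classical in
theorem two_mul_ncard_reflD {n : ℕ} {s : ZMod 3} (hn : 5 ≤ n) (hs : s ≠ 0) :
    2 * (reflD n s).ncard = Nat.card {v : Fin n → ZMod 3 // sQ n s v = 1} := by
  let f : {v : Fin n → ZMod 3 // sQ n s v = 1} → ReflGroup n s := fun v =>
    QuotientGroup.mk (sRefl v.1 (by rw [Conv.stdQ_apply]; exact v.2))
  have hrange : reflD n s = ↑(Finset.univ.image f) := by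
    rw [Finset.coe_image, Finset.coe_univ, Set.image_univ, ← cImg_reflClass]
    refine Set.Subset.antisymm ?_ ?_
    · rintro _ ⟨g, hg, rfl⟩
      obtain ⟨v, hv, rfl⟩ := exists_eq_classRefl one_ne_zero hg
      exact ⟨⟨v, by rw [← Conv.stdQ_apply, hv]⟩, rfl⟩
    · rintro _ ⟨v, rfl⟩
      exact ⟨_, classRefl_mem one_ne_zero _ _, rfl⟩
  rw [hrange, Set.ncard_coe_finset, Nat.card_eq_fintype_card, ← Finset.card_univ,
    Finset.card_eq_sum_card_image f Finset.univ, Finset.sum_const_nat fun q hq => ?_, mul_comm]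
  obtain ⟨v, -, rfl⟩ := Finset.mem_image.1 hq
  have hneg : sQ n s (-v.1) = 1 := by rw [← Conv.stdQ_apply, QuadraticMap.map_neg, Conv.stdQ_apply, v.2]
  have hv0 : v.1 ≠ 0 := fun e => by
    have := v.2
    rw [e, ← Conv.stdQ_apply, QuadraticMap.map_zero] at this
    exact zero_ne_one this
  have hne : v ≠ ⟨-v.1, hneg⟩ := fun e => hv0 (by
    have e' : v.1 = -v.1 := congrArg Subtype.val e
    have h2 : (2 : ZMod 3) • v.1 = 0 := by
      rw [two_smul]
      calc v.1 + v.1 = v.1 + -v.1 := by rw [← e']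
        _ = 0 := add_neg_cancel _
    exact (smul_eq_zero.1 h2).resolve_left (by decide))
  rw [show Finset.univ.filter (fun x => f x = f v) = {v, ⟨-v.1, hneg⟩} from ?_, Finset.card_pair hne]
  ext x
  simp only [Finset.mem_filter, Finset.mem_univ, true_and, Finset.mem_insert, Finset.mem_singleton]
  constructor
  · intro h
    exact (eq_or_neg_of_mk_eq hn hs _ _ h.symm).imp Subtype.ext fun e => Subtype.ext e
  · rintro (rfl | rfl)
    · rfl
    · exact congrArg QuotientGroup.mk (sRefl_congr _ _ (Or.inr rfl))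

theorem ncard_reflD (n : ℕ) (s : ZMod 3) (hn : 4 ≤ n) (hs : s ≠ 0) (k : ℕ)
    (hk : cnt n 1 + 2 * cnt n (1 - s) = 2 * k) : (reflD (n + 1) s).ncard = k := by
  have h := two_mul_ncard_reflD (n := n + 1) (s := s) (by omega) hs
  rw [card_norm_one, hk] at h
  exact Nat.eq_of_mul_eq_mul_left two_pos h

end CountReflAux

open CountReflAux in
theorem countRefl : CountRefl :=
  ⟨ncard_reflD 4 1 (by omega) (by decide) 45 (by decide +kernel),
    ncard_reflD 4 (-1) (by omega) (by decide) 36 (by decide +kernel),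
    ncard_reflD 5 1 (by omega) (by decide) 126 (by decide +kernel),
    ncard_reflD 5 (-1) (by omega) (by decide) 117 (by decide +kernel),
    ncard_reflD 6 1 (by omega) (by decide) 351 (by decide +kernel),
    ncard_reflD 7 1 (by omega) (by decide) 1080 (by decide +kernel)⟩

end CfsgLib.FischerThm
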