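import Cfsg.Agent.FischerThm.Orth.Transvections

/-!
# Fischer's theorem: the orthogonal models over the field with two elements are good
-/

set_option autoImplicit false

namespace CfsgLib.FischerThm

open Module QuadraticMap

theorem two_anisotropic : ∀ z₁ z₂ : ZMod 2, z₁ ^ 2 + 1 * z₁ * z₂ + 1 * z₂ ^ 2 = 0 → z₁ = 0 ∧ z₂ = 0 := by
  decide

theorem goodOrth : GoodOrth := by
  refine ⟨fun m hm => ?_, fun m hm => ?_⟩
  · exact Orth.localGood_of_dIso (Orth.dIso_mset (Dickson.plusForm m (ZMod 2)) _ (Dickson.plusForm_coe m))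
      (Orth.localGood_rset (Dickson.plusForm_nondegenerate m)
        (by rw [finrank_fintype_fun_eq_card]; simp; omega))
  · exact Orth.localGood_of_dIso (Orth.dIso_mset (Dickson.minusForm m (ZMod 2) 1 1) _ (Dickson.minusForm_coe m 1 1))
      (Orth.localGood_rset (Dickson.minusForm_nondegenerate m two_anisotropic)
        (by rw [finrank_fintype_fun_eq_card]; simp; omega))

end CfsgLib.FischerThm
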