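import Cfsg.Agent.FischerThm.Models.Refl
import Cfsg.Agent.FischerThm.GoodOrth
import Cfsg.Agent.AutPOmega.Congr
import Cfsg.Agent.SylowTwoAb.OrthEquiv
import Cfsg.Agent.TwoRank.Orthogonal
import Cfsg.Agent.Forms.OrthIndex

/-!
# Fischer's theorem: facts about the models
-/

set_option autoImplicit false

namespace CfsgLib.FischerThm

open Cfsg Matrix Module CfsgLib.Spinor CfsgLib.StdForms

namespace Models

theorem stdQ_weight_ne_zero (n : ℕ) {s : ZMod 3} (hs : s = 1 ∨ s = -1) (i : Fin n) :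
    (if i.val = 0 then s else (1 : ZMod 3)) ≠ 0 := by
  rcases hs with rfl | rfl <;> split_ifs <;> decide

theorem stdQ_nondegenerate (n : ℕ) {s : ZMod 3} (hs : s = 1 ∨ s = -1) :
    (QuadraticMap.polarBilin (stdQ n s)).Nondegenerate :=
  SylowTwoAb.diag_nondegenerate (by decide) (stdQ_weight_ne_zero n hs)

theorem gram_smul {ι : Type} [Fintype ι] [DecidableEq ι] {F : Type*} [Field F] (a : F)
    (Q : QuadraticForm F (ι → F)) : FormDiscr.gram (a • Q) = a • FormDiscr.gram Q := by
  ext i j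
  simp only [FormDiscr.gram, Matrix.of_apply, Matrix.smul_apply]
  rw [show (⇑(a • Q) : (ι → F) → F) = a • ⇑Q from rfl, QuadraticMap.polar_smul]

theorem smul_nondegenerate {V : Type*} [AddCommGroup V] {F : Type*} [Field F] [Module F V] {a : F} (ha : a ≠ 0)
    {Q : QuadraticForm F V} (hQ : (QuadraticMap.polarBilin Q).Nondegenerate) :
    (QuadraticMap.polarBilin (a • Q)).Nondegenerate := by
  refine nondegenerate_of_sep _ fun x hx => hQ.1 x fun y => ?_
  have h := hx y
  rw [show (⇑(a • Q) : V → F) = a • ⇑Q from rfl, QuadraticMap.polar_smul, smul_eq_zero] at h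
  exact h.resolve_left ha

/-- The reflection model of odd dimension has the form `quadFormOdd` up to a scalar. -/
theorem nonempty_pomega_odd (m : ℕ) {s : ZMod 3} (hs : s = 1 ∨ s = -1) :
    Nonempty (POmega (ZMod 3) (⇑(stdQ (2 * m + 1) s)) ≃* POmega (ZMod 3) (quadFormOdd m (ZMod 3))) := by
  have h2 : (2 : ZMod 3) ≠ 0 := by decide
  set Q := stdQ (2 * m + 1) s
  set Q' := oddQ m (ZMod 3)
  have hQ := stdQ_nondegenerate (2 * m + 1) hs
  have hQ' := oddQ_nondegenerate h2 m
  set a := (FormDiscr.gram Q).det * (FormDiscr.gram Q').det with ha_def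
  have ha : a ≠ 0 := mul_ne_zero (FormDiscr.gram_det_ne_zero _ hQ) (FormDiscr.gram_det_ne_zero _ hQ')
  have hcard : Fintype.card (Unit ⊕ (Fin m ⊕ Fin m)) = 2 * m + 1 := by simp; omega
  obtain ⟨L, hL⟩ := SylowTwoAb.exists_equiv_of_disc h2 hQ (smul_nondegenerate ha hQ')
    (by rw [hcard, Fintype.card_fin]) (by
      rw [gram_smul, det_smul, hcard]
      exact ⟨a ^ (m + 1), by rw [ha_def]; ring⟩)
  have hL' : ∀ v, Q (L v) = ((Units.mk0 a ha : (ZMod 3)ˣ) : ZMod 3) * Q' v := fun v => hL v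
  rw [← coe_oddQ]
  exact ⟨AutPOmega.pomCongr hL'⟩

/-- The reflection model of dimension eight has the hyperbolic form. -/
theorem nonempty_pomega_plus :
    Nonempty (POmega (ZMod 3) (⇑(stdQ 8 1)) ≃* POmega (ZMod 3) (quadFormPlus 4 (ZMod 3))) := by
  have h2 : (2 : ZMod 3) ≠ 0 := by decide
  obtain ⟨L, hL⟩ := SylowTwoAb.exists_equiv_of_disc h2 (stdQ_nondegenerate 8 (Or.inl rfl))
    (plusQ_nondegenerate (F := ZMod 3) 4) (by simp) (by
      rw [TwoRank.gram_det_plus, stdQ, FormDiscr.gram_det_diag]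
      simp only [ite_self, Finset.prod_const_one, Fintype.card_fin]
      exact ⟨1, by decide⟩)
  have hL' : ∀ v, stdQ 8 1 (L v) = ((1 : (ZMod 3)ˣ) : ZMod 3) * plusQ 4 (ZMod 3) v := fun v => by
    rw [hL, Units.val_one, one_mul]
  rw [← coe_plusQ]
  exact ⟨AutPOmega.pomCongr hL'⟩

/-- An isometry group over the field with two elements with a good system is not simple. -/
theorem not_isSimpleGroup_isometryGroup {ι : Type} [Fintype ι] [DecidableEq ι]
    (Q : QuadraticForm (ZMod 2) (ι → ZMod 2)) (hQ : (QuadraticMap.polarBilin Q).Nondegenerate)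
    (h5 : 5 ≤ Fintype.card ι) {D : Set ↥(isometryGroup (ZMod 2) ⇑Q)} (hD : LocalGood D) :
    ¬ IsSimpleGroup ↥(isometryGroup (ZMod 2) ⇑Q) := by
  intro hS
  have hidx : (Omega (ZMod 2) ⇑Q).index = 2 :=
    Forms.index_omega_charTwo hQ (by omega) (Or.inr (by omega))
  rcases hS.eq_bot_or_eq_top_of_normal (Omega (ZMod 2) ⇑Q) inferInstance with h | h
  · have hab : ∀ a b : ↥(isometryGroup (ZMod 2) ⇑Q), a * b = b * a := fun a b => by
      rw [← commutatorElement_eq_one_iff_mul_comm, ← Subgroup.mem_bot, ← h]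
      exact Subgroup.commutator_mem_commutator (Subgroup.mem_top a) (Subgroup.mem_top b)
    have htop : (⊤ : Subgroup ↥(isometryGroup (ZMod 2) ⇑Q)) = ⊥ := by
      rw [← hD.center]
      exact (Subgroup.eq_top_iff' _).2 (fun a => Subgroup.mem_center_iff.2 fun b => hab b a) |>.symm
    have h1 := Subgroup.index_top (G := ↥(isometryGroup (ZMod 2) ⇑Q))
    rw [htop, ← h, hidx] at h1
    omega
  · rw [h, Subgroup.index_top] at hidx
    omega

end Models

theorem commReflEight : CommReflEight := by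
  obtain ⟨e⟩ := Models.nonempty_commutator_equiv (c := (1 : ZMod 3)) (Models.stdQ_nondegenerate 8 (Or.inl rfl))
    (by simp) one_ne_zero
  obtain ⟨f⟩ := Models.nonempty_pomega_plus
  exact ⟨e.trans f⟩

theorem simpleRefl : SimpleRefl := by
  intro n s hn hs hS
  obtain ⟨hodd, ⟨e⟩⟩ := Models.of_isSimpleGroup (c := (1 : ZMod 3)) (Models.stdQ_nondegenerate n hs)
    (by simpa using hn) one_ne_zero hS
  rw [Fintype.card_fin] at hodd
  obtain ⟨m, rfl⟩ := hodd
  obtain ⟨f⟩ := Models.nonempty_pomega_odd m hs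
  exact ⟨m, ⟨e.trans f⟩⟩

theorem notSimpleModels : NotSimpleModels := by
  refine ⟨fun n hn hS => ?_, fun m hm => ?_, fun m hm => ?_⟩
  · haveI : Nontrivial (Fin n) := Fin.nontrivial_iff_two_le.2 (by omega)
    have hidx := alternatingGroup.index_eq_two (α := Fin n)
    rcases hS.eq_bot_or_eq_top_of_normal (alternatingGroup (Fin n)) inferInstance with h | h
    · rw [h, Subgroup.index_bot, Nat.card_eq_fintype_card, Fintype.card_perm, Fintype.card_fin] at hidx
      have := Nat.self_le_factorial n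
      omega
    · rw [h, Subgroup.index_top] at hidx
      omega
  · have h : ∀ f, f = (⇑(plusQ m (ZMod 2))) → ∀ D : Set ↥(isometryGroup (ZMod 2) f), LocalGood D →
        ¬ IsSimpleGroup ↥(isometryGroup (ZMod 2) f) := by
      rintro f rfl D hD
      exact Models.not_isSimpleGroup_isometryGroup _ (plusQ_nondegenerate m) (by simp; omega) hD
    exact h _ (coe_plusQ m).symm _ (goodOrth.1 m hm)
  · have h : ∀ f, f = (⇑(minusQ m (ZMod 2) 1 1)) → ∀ D : Set ↥(isometryGroup (ZMod 2) f), LocalGood D →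
        ¬ IsSimpleGroup ↥(isometryGroup (ZMod 2) f) := by
      rintro f rfl D hD
      exact Models.not_isSimpleGroup_isometryGroup _ (minusQ_nondegenerate m (by decide)) (by simp; omega) hD
    exact h _ (coe_minusQ m 1 1).symm _ (goodOrth.2 m hm)

end CfsgLib.FischerThm
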