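import Cfsg.Agent.FischerThm.Orth.Step

/-!
# Fischer's theorem: no neighbourhood of orthogonal minus type in dimension eight or more
-/

set_option autoImplicit false

universe u

namespace CfsgLib.FischerThm

theorem oMinusStep (hS : SymStep.{u}) (hR : ReflStep.{u}) (h3 : ConvOPlusThree) (h2 : ConvOMinusTwo)
    (hn : CountRefl) : OMinusStep.{u} :=
  fun G _ _ D h d hd m hm => (Orth.no_orth hS hR h3 h2 hn m).2 hm G D h d hd

end CfsgLib.FischerThm
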