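import Cfsg.Agent.FischerThm.SpStep.Coords
import Cfsg.Agent.FischerThm.SpStep.Model

/-!
# Fischer's theorem: symplectic neighbourhood
-/

set_option autoImplicit false

universe u

namespace CfsgLib.FischerThm

open CfsgLib CfsgLib.QuadTwo Cfsg QuadraticMap

namespace Sp

/-- Coordinates of plus type. -/
def plusEquiv (m : ℕ) : TV m ≃ Vec (m + 1) where
  toFun p := Sum.elim (Fin.cons p.1.1 fun i => p.2 (Sum.inl i))
    (Fin.cons (p.1.1 + p.1.2) fun i => p.2 (Sum.inr i))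
  invFun w := ((w (Sum.inl 0), w (Sum.inl 0) + w (Sum.inr 0)),
    Sum.elim (fun i => w (Sum.inl i.succ)) fun i => w (Sum.inr i.succ))
  left_inv p := by
    obtain ⟨⟨a, b⟩, v⟩ := p
    refine Prod.ext (Prod.ext ?_ ?_) ?_
    · simp
    · simp [← add_assoc, CharTwo.add_self_eq_zero]
    · funext i; rcases i with i | i <;> simp
  right_inv w := by
    funext i
    rcases i with i | i <;> induction i using Fin.cases <;>
      simp [← add_assoc, CharTwo.add_self_eq_zero]

theorem plusEquiv_add (m : ℕ) (p q : TV m) : plusEquiv m (p + q) = plusEquiv m p + plusEquiv m q := by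
  funext i
  rcases i with i | i <;> induction i using Fin.cases <;> simp [plusEquiv]
  abel

theorem plus_plusEquiv (m : ℕ) (p : TV m) :
    Cfsg.quadFormPlus (m + 1) (ZMod 2) (plusEquiv m p) = QT 0 p := by
  have : p.1.1 * p.1.1 = p.1.1 := (by decide : ∀ z : ZMod 2, z * z = z) _
  simp only [Cfsg.quadFormPlus, plusEquiv, Equiv.coe_fn_mk, Fin.sum_univ_succ, Sum.elim_inl,
    Sum.elim_inr, Fin.cons_zero, Fin.cons_succ, QT, mul_add, this, zero_mul, add_zero]

/-- Coordinates of minus type. -/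
def minusEquiv (m : ℕ) : TV m ≃ ((Fin m ⊕ Fin m) ⊕ Fin 2 → ZMod 2) where
  toFun p := Sum.elim p.2 ![p.1.1, p.1.2]
  invFun w := ((w (Sum.inr 0), w (Sum.inr 1)), fun i => w (Sum.inl i))
  left_inv p := rfl
  right_inv w := by
    funext i
    rcases i with i | i
    · rfl
    · fin_cases i <;> rfl

theorem minusEquiv_add (m : ℕ) (p q : TV m) : minusEquiv m (p + q) = minusEquiv m p + minusEquiv m q := by
  funext i
  rcases i with i | i
  · rfl
  · fin_cases i <;> rfl

theorem minus_minusEquiv (m : ℕ) (p : TV m) :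
    Cfsg.quadFormMinus m (ZMod 2) 1 1 (minusEquiv m p) = QT 1 p := by
  have h1 : p.1.1 ^ 2 = p.1.1 := (by decide : ∀ z : ZMod 2, z ^ 2 = z) _
  have h2 : p.1.2 ^ 2 = p.1.2 := (by decide : ∀ z : ZMod 2, z ^ 2 = z) _
  show (∑ i, p.2 (Sum.inl i) * p.2 (Sum.inr i)) + (p.1.1 ^ 2 + 1 * p.1.1 * p.1.2 + 1 * p.1.2 ^ 2) = _
  simp only [QT, Cfsg.quadFormPlus, one_mul, h1, h2]
  ring

theorem dIso_of_coords {G : Type u} [Group G] {D : Set G} (hD : Cfsg.IsThreeTranspositionClass D)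
    (hG : Subgroup.center G = ⊥) {m : ℕ} {e : ZMod 2} {t : G → TV m}
    (ht : Set.BijOn t D {p | QT e p = 1}) (hnc : ∀ x ∈ D, ∀ y ∈ D, nc x y = BT (t x) (t y))
    (hthird : ∀ x ∈ D, ∀ y ∈ D, ¬ Commute x y → t (x * y * x) = t x + t y)
    {ι : Type} [Fintype ι] [DecidableEq ι] (Q : QuadraticForm (ZMod 2) (ι → ZMod 2))
    (hQ : (polarBilin Q).Nondegenerate) (h5 : 5 ≤ Fintype.card ι) (φ : TV m ≃ (ι → ZMod 2))
    (hadd : ∀ p q, φ (p + q) = φ p + φ q) (hφ : ∀ p, Q (φ p) = QT e p) :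
    DIso D {g : ↥(Cfsg.isometryGroup (ZMod 2) ⇑Q) |
      (((g : GL ι (ZMod 2)) : Matrix ι ι (ZMod 2)) - 1).rank = 1} := by
  have hpol : ∀ p q, polar Q (φ p) (φ q) = BT p q := fun p q => by
    rw [polar, ← hadd, hφ, hφ, hφ, QT_add]; ring
  refine dIso_of_coord hD hG hQ h5 (fun x => φ (t x)) ⟨fun x hx => ?_, fun x hx y hy he => ?_, ?_⟩ ?_ ?_
  · rw [Set.mem_ofPred_eq, hφ]; exact ht.1 hx
  · exact ht.2.1 hx hy (φ.injective he)
  · intro w hw
    obtain ⟨p, rfl⟩ := φ.surjective w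
    rw [Set.mem_ofPred_eq, hφ] at hw
    obtain ⟨x, hx, rfl⟩ := ht.2.2 hw
    exact ⟨x, hx, rfl⟩
  · intro x hx y hy hc
    rw [hpol, ← hnc x hx y hy, nc_eq_zero.2 hc]
  · intro x hx y hy hc
    exact ⟨by rw [hpol, ← hnc x hx y hy, nc_eq_one.2 hc], by rw [hthird x hx y hy hc, hadd]⟩

end Sp

open Sp in
theorem spStep : SpStep.{u} := by
  intro G _ _ D h d hd m hm hT
  obtain ⟨e, t, ht, hnc, h3⟩ := exists_coord h (m := m) (by omega)
    (fun a ha => exists_lab h ha ((dIso_perp h ha hd).trans hT))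
  rcases two_cases e with rfl | rfl
  · left
    have hh := dIso_of_coords h.cls h.center ht hnc h3 (Dickson.plusForm (m + 1) (ZMod 2))
      (Dickson.plusForm_nondegenerate _) (by simp; omega) (plusEquiv m) (plusEquiv_add m)
      (fun p => by rw [Dickson.plusForm_coe, plus_plusEquiv])
    rw [Dickson.plusForm_coe] at hh
    exact hh
  · right
    have hh := dIso_of_coords h.cls h.center ht hnc h3 (Dickson.minusForm m (ZMod 2) 1 1)
      (Dickson.minusForm_nondegenerate m (by decide)) (by simp; omega) (minusEquiv m) (minusEquiv_add m)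
      (fun p => by rw [Dickson.minusForm_coe, minus_minusEquiv])
    rw [Dickson.minusForm_coe] at hh
    exact hh

end CfsgLib.FischerThm
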