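import Cfsg.Agent.FischerThm.Component
import Cfsg.Agent.FischerThm.Srg
import Cfsg.Agent.FischerThm.SymStep.Swaps
import Cfsg.Agent.CoxeterSym.Basic
import Cfsg.Agent.Transpositions.Primitive

/-!
# Fischer's theorem: neighbourhood symmetric

The common partners of a non-commuting pair are the transpositions avoiding one point, so `d`, `c` and a
chain of adjacent transpositions generate a symmetric group of degree two more.
-/

set_option autoImplicit false

universe u

namespace CfsgLib.FischerThm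

open Cfsg CfsgLib.FischerTypes

variable {G : Type u} [Group G]

namespace SymAux

open Equiv

/-- The neighbourhood of `d` seen as the transpositions of `m` letters. -/
structure Model (D : Set G) (d : G) (m : ℕ) where
  τ : G → Perm (Fin m)
  mul : ∀ x ∈ Subgroup.closure (perp D d), ∀ y ∈ Subgroup.closure (perp D d), τ (x * y) = τ x * τ y
  one : τ 1 = 1
  swap : ∀ x ∈ perp D d, ∃ a b, a ≠ b ∧ τ x = Equiv.swap a b
  surj : ∀ a b, a ≠ b → ∃ x ∈ perp D d, τ x = Equiv.swap a b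
  inj : ∀ x ∈ perp D d, ∀ y ∈ perp D d, τ x = τ y → x = y
  comm : ∀ x ∈ perp D d, ∀ y ∈ perp D d, (Commute (τ x) (τ y) ↔ Commute x y)

theorem exists_model [Finite G] {D : Set G} (h : Generic D) {d : G} (hd : d ∈ D) {m : ℕ}
    (hm : IsSymT (sImg (perp D d)) m) : Nonempty (Model D d m) := by
  classical
  obtain ⟨e, he⟩ := hm
  let τ : G → Perm (Fin m) := fun x =>
    if hx : x ∈ Subgroup.closure (perp D d) then e (QuotientGroup.mk ⟨x, hx⟩) else 1
  have hτ : ∀ x (hx : x ∈ Subgroup.closure (perp D d)), τ x = e (QuotientGroup.mk ⟨x, hx⟩) :=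
    fun x hx => dif_pos hx
  have hτs : ∀ x (hx : x ∈ perp D d), τ x = e (sMk (perp D d) hx) :=
    fun x hx => hτ x (Subgroup.subset_closure hx)
  have hsub := perp_subset D d
  refine ⟨⟨τ, fun x hx y hy => ?_, ?_, fun x hx => ?_, fun a b hab => ?_, fun x hx y hy hxy => ?_,
    fun x hx y hy => ?_⟩⟩
  · rw [hτ x hx, hτ y hy, hτ _ (mul_mem hx hy), ← map_mul, ← QuotientGroup.mk_mul]
    rfl
  · rw [hτ 1 (one_mem _)]
    exact map_one e
  · obtain ⟨a, b, hab, hs⟩ := he.subset ⟨_, sMk_mem_sImg hx, rfl⟩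
    exact ⟨a, b, hab, by rw [hτs x hx, hs]⟩
  · obtain ⟨q, hq, hqe⟩ := he.symm.subset (show Equiv.swap a b ∈ symD m from ⟨a, b, hab, rfl⟩)
    obtain ⟨x, hx, rfl⟩ := exists_sMk hq
    exact ⟨x, hx, by rw [hτs x hx, hqe]⟩
  · rw [hτs x hx, hτs y hy] at hxy
    exact sMk_inj h.cls.1 hsub (h.sNoCentral hd) hx hy (e.injective hxy)
  · rw [hτs x hx, hτs y hy, ← commute_sMk_iff h.cls.1 hsub hx hy]
    exact ⟨fun hc => by simpa using hc.map e.symm.toMonoidHom, fun hc => hc.map e.toMonoidHom⟩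

variable [Finite G] {D : Set G} {d : G} {m : ℕ}

theorem Model.two_mul_image (T : Model D d m) {S : Set G} (hS : S ⊆ perp D d) :
    2 * S.ncard = 2 * (T.τ '' S).ncard := by
  rw [Set.ncard_image_of_injOn fun x hx y hy he => T.inj x (hS hx) y (hS hy) he]

/-- The neighbourhood has `C(m, 2)` members. -/
theorem Model.two_mul_perp (T : Model D d m) : 2 * (perp D d).ncard = m * (m - 1) := by
  rw [T.two_mul_image subset_rfl]
  have h := two_mul_ncard_avoid (∅ : Finset (Fin m))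
  rw [Finset.card_empty, Nat.sub_zero] at h
  rw [← h]
  congr 2
  ext σ
  constructor
  · rintro ⟨x, hx, rfl⟩
    obtain ⟨a, b, hab, he⟩ := T.swap x hx
    exact ⟨a, b, ⟨hab, by simp, by simp⟩, he⟩
  · rintro ⟨a, b, hab, rfl⟩
    obtain ⟨x, hx, he⟩ := T.surj a b hab.1
    exact ⟨x, hx, he⟩

/-- A member of the neighbourhood has `C(m - 2, 2)` partners there. -/
theorem Model.two_mul_inter (T : Model D d m) {a : G} (ha : a ∈ perp D d) :
    2 * (perp D d ∩ perp D a).ncard = (m - 2) * (m - 2 - 1) := by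
  obtain ⟨p, q, hpq, hap⟩ := T.swap a ha
  rw [T.two_mul_image Set.inter_subset_left]
  have h := two_mul_ncard_avoid ({p, q} : Finset (Fin m))
  rw [Finset.card_pair hpq] at h
  rw [← h]
  congr 2
  ext σ
  constructor
  · rintro ⟨x, ⟨hx, hxa⟩, rfl⟩
    obtain ⟨i, j, hij, he⟩ := T.swap x hx
    have hc := (T.comm a ha x hx).2 hxa.2.2
    rw [hap, he, commute_swaps_iff hpq hij] at hc
    rcases hc with e | e
    · exact absurd (T.inj a ha x hx (by rw [hap, he, e])) (Ne.symm hxa.2.1)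
    · exact ⟨i, j, ⟨hij, by simp [e.1, e.2.1], by simp [e.2.2.1, e.2.2.2]⟩, he⟩
  · rintro ⟨i, j, ⟨hij, hi, hj⟩, rfl⟩
    simp only [Finset.mem_insert, Finset.mem_singleton, not_or] at hi hj
    obtain ⟨x, hx, he⟩ := T.surj i j hij
    refine ⟨x, ⟨hx, hx.1, fun hxa => ?_, ?_⟩, he⟩
    · rw [hxa, hap] at he
      rcases pair_of_swap_eq hpq he with ⟨e, -⟩ | ⟨-, e⟩
      exacts [hi.1 e.symm, hi.2 e.symm]
    · rw [← T.comm a ha x hx, hap, he, commute_swaps_iff hpq hij]
      exact Or.inr ⟨hi.1, hi.2, hj.1, hj.2⟩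

/-- Two non-commuting members of the neighbourhood have `C(m - 3, 2)` common partners there. -/
theorem Model.two_mul_triple (T : Model D d m) {u v : G} (hu : u ∈ perp D d) (hv : v ∈ perp D d)
    (huv : ¬ Commute u v) :
    2 * (perp D d ∩ (perp D u ∩ perp D v)).ncard = (m - 3) * (m - 4) := by
  obtain ⟨a, b, hab, hua⟩ := T.swap u hu
  obtain ⟨c, e, hce, hvc⟩ := T.swap v hv
  obtain ⟨p, q, r, hpq, hqr, hpr, hup, hvq⟩ : ∃ p q r, p ≠ q ∧ q ≠ r ∧ p ≠ r ∧
      T.τ u = Equiv.swap p q ∧ T.τ v = Equiv.swap q r := by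
    have hn : ¬ Commute (T.τ u) (T.τ v) := fun hc => huv ((T.comm u hu v hv).1 hc)
    rw [hua, hvc, commute_swaps_iff hab hce, not_or] at hn
    by_cases h1 : c = a
    · subst h1
      exact ⟨b, c, e, hab.symm, hce, fun h => hn.1 (by rw [h]), by rw [hua, Equiv.swap_comm], hvc⟩
    by_cases h2 : c = b
    · subst h2
      exact ⟨a, c, e, hab, hce, fun h => hn.1 (by rw [h, Equiv.swap_comm]), hua, hvc⟩
    by_cases h3 : e = a
    · subst h3
      exact ⟨b, e, c, hab.symm, hce.symm, Ne.symm h2, by rw [hua, Equiv.swap_comm],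
        by rw [hvc, Equiv.swap_comm]⟩
    by_cases h4 : e = b
    · subst h4
      exact ⟨a, e, c, hab, hce.symm, Ne.symm h1, hua, by rw [hvc, Equiv.swap_comm]⟩
    exact absurd ⟨h1, h2, h3, h4⟩ hn.2
  rw [T.two_mul_image Set.inter_subset_left]
  have h := two_mul_ncard_avoid ({p, q, r} : Finset (Fin m))
  have h3 : ({p, q, r} : Finset (Fin m)).card = 3 := Finset.card_eq_three.2 ⟨p, q, r, hpq, hpr, hqr, rfl⟩
  rw [h3, show m - 3 - 1 = m - 4 by omega] at h
  rw [← h]
  congr 2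
  ext σ
  constructor
  · rintro ⟨x, ⟨hx, hxu, hxv⟩, rfl⟩
    obtain ⟨i, j, hij, he⟩ := T.swap x hx
    have hcu := (T.comm u hu x hx).2 hxu.2.2
    have hcv := (T.comm v hv x hx).2 hxv.2.2
    rw [hup, he, commute_swaps_iff hpq hij] at hcu
    rw [hvq, he, commute_swaps_iff hqr hij] at hcv
    have hcu := hcu.resolve_left fun e => hxu.2.1 (T.inj x hx u hu (by rw [he, hup, e]))
    have hcv := hcv.resolve_left fun e => hxv.2.1 (T.inj x hx v hv (by rw [he, hvq, e]))
    exact ⟨i, j, ⟨hij, by simp [hcu.1, hcu.2.1, hcv.2.1], by simp [hcu.2.2.1, hcu.2.2.2, hcv.2.2.2]⟩, he⟩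
  · rintro ⟨i, j, ⟨hij, hi, hj⟩, rfl⟩
    simp only [Finset.mem_insert, Finset.mem_singleton, not_or] at hi hj
    obtain ⟨x, hx, he⟩ := T.surj i j hij
    refine ⟨x, ⟨hx, ⟨hx.1, fun hxu => ?_, ?_⟩, hx.1, fun hxv => ?_, ?_⟩, he⟩
    · rw [hxu, hup] at he
      rcases pair_of_swap_eq hpq he with ⟨e, -⟩ | ⟨-, e⟩
      exacts [hi.1 e.symm, hi.2.1 e.symm]
    · rw [← T.comm u hu x hx, hup, he, commute_swaps_iff hpq hij]
      exact Or.inr ⟨hi.1, hi.2.1, hj.1, hj.2.1⟩
    · rw [hxv, hvq] at he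
      rcases pair_of_swap_eq hqr he with ⟨e, -⟩ | ⟨-, e⟩
      exacts [hi.2.1 e.symm, hi.2.2 e.symm]
    · rw [← T.comm v hv x hx, hvq, he, commute_swaps_iff hqr hij]
      exact Or.inr ⟨hi.2.1, hi.2.2, hj.2.1, hj.2.2⟩

/-- Common partners of a non-commuting pair in the neighbourhood of a common partner. -/
theorem Model.two_mul_common (T : Model D d m) (h : Generic D) (hd : d ∈ D) {c a : G}
    (hc : c ∈ D) (hdc : ¬ Commute d c) (ha : a ∈ perp D d ∩ perp D c) :
    2 * ((perp D d ∩ perp D c) ∩ perp D a).ncard = (m - 3) * (m - 4) := by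
  obtain ⟨g, rfl⟩ := Transpositions.exists_conj_of_class h.cls hd ha.1.1
  have hG := h.group
  have hmem : ∀ z ∈ perp D (g * d * g⁻¹), g⁻¹ * z * g ∈ perp D d := fun z hz => by
    refine ⟨by simpa using hG.2.1 g⁻¹ z hz.1, fun e => hz.2.1 (by rw [← e]; group), ?_⟩
    rw [← commute_conj_iff' g]
    rw [show g * (g⁻¹ * z * g) * g⁻¹ = z by group]
    exact hz.2.2
  have hu := hmem d (perp_symm' hd ha.1)
  have hv := hmem c (perp_symm' hc ha.2)
  have hnc : ¬ Commute (g⁻¹ * d * g) (g⁻¹ * c * g) := fun he => hdc (by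
    have := (commute_conj_iff' g _ _).2 he
    rwa [show g * (g⁻¹ * d * g) * g⁻¹ = d by group, show g * (g⁻¹ * c * g) * g⁻¹ = c by group] at this)
  rw [← T.two_mul_triple hu hv hnc]
  congr 1
  rw [← Set.ncard_image_of_injective (perp D d ∩ (perp D (g⁻¹ * d * g) ∩ perp D (g⁻¹ * c * g)))
    (f := fun y => g * y * g⁻¹) (fun u v h => by simpa using h),
    Set.image_inter (fun u v h => by simpa using h), Set.image_inter (fun u v h => by simpa using h),
    SrgAux.conj_perp h.cls, SrgAux.conj_perp h.cls, SrgAux.conj_perp h.cls,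
    show g * (g⁻¹ * d * g) * g⁻¹ = d by group, show g * (g⁻¹ * c * g) * g⁻¹ = c by group,
    Set.inter_comm (perp D (g * d * g⁻¹))]

/-- The common partners of a non-commuting pair are the transpositions avoiding one point. -/
theorem Model.exists_point (T : Model D d m) (h : Generic D) (hd : d ∈ D) (h5 : 5 ≤ m) (h6 : m ≠ 6)
    {c : G} (hc : c ∈ D) (hdc : ¬ Commute d c) :
    ∃ o, ∀ x ∈ perp D d, ∀ a b, a ≠ b → T.τ x = Equiv.swap a b → (Commute c x ↔ a ≠ o ∧ b ≠ o) := by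
  classical
  set M := perp D d ∩ perp D c with hM
  have hxc : ∀ x ∈ perp D d, (x ∈ M ↔ Commute c x) := fun x hx =>
    ⟨fun hm => hm.2.2.2, fun hcx => ⟨hx, hx.1, fun e => hdc (e ▸ hx.2.2), hcx⟩⟩
  let R : Fin m → Fin m → Prop := fun i j => i ≠ j ∧ ∃ x ∈ M, T.τ x = Equiv.swap i j
  have hclo : ∀ {x}, x ∈ perp D d → x ∈ Subgroup.closure (perp D d) := fun hx => Subgroup.subset_closure hx
  have hmemR : ∀ x ∈ M, ∀ a b, a ≠ b → T.τ x = Equiv.swap a b → R a b := fun x hx a b hab he =>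
    ⟨hab, x, hx, he⟩
  have hofR : ∀ x ∈ perp D d, ∀ a b, R a b → T.τ x = Equiv.swap a b → x ∈ M := fun x hx a b hr he => by
    obtain ⟨-, y, hy, hye⟩ := hr
    exact T.inj y hy.1 x hx (hye.trans he.symm) ▸ hy
  have hs : ∀ x y, R x y → R y x := fun x y ⟨hxy, z, hz, he⟩ =>
    ⟨hxy.symm, z, hz, by rw [he, Equiv.swap_comm]⟩
  have ht : ∀ x y z, R x y → R y z → x ≠ z → R x z := by
    rintro x y z ⟨hxy, u, hu, hue⟩ ⟨hyz, v, hv, hve⟩ hxz
    refine ⟨hxz, u * v * u, ⟨h.perp_closed u hu.1 v hv.1, h.perp_closed u hu.2 v hv.2⟩, ?_⟩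
    rw [T.mul _ (mul_mem (hclo hu.1) (hclo hv.1)) _ (hclo hu.1), T.mul _ (hclo hu.1) _ (hclo hv.1),
      hue, hve]
    conv_lhs => arg 2; rw [← Equiv.swap_inv x y]
    rw [← Equiv.swap_apply_apply, Equiv.swap_apply_right,
      Equiv.swap_apply_of_ne_of_ne hxz.symm hyz.symm]
  have hdeg : ∀ i j, R i j →
      2 * (swapsOf fun x y => R x y ∧ x ≠ i ∧ x ≠ j ∧ y ≠ i ∧ y ≠ j).ncard = (m - 3) * (m - 4) := by
    rintro i j ⟨hij, a, ha, hae⟩
    rw [← T.two_mul_common h hd hc hdc ha, T.two_mul_image (Set.inter_subset_left.trans Set.inter_subset_left)]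
    congr 2
    ext σ
    constructor
    · rintro ⟨x, y, ⟨⟨hxy, z, hz, hze⟩, h1, h2, h3, h4⟩, rfl⟩
      refine ⟨z, ⟨hz, hz.1.1, fun e => ?_, ?_⟩, hze⟩
      · rw [e, hae] at hze
        rcases pair_of_swap_eq hij hze with ⟨e1, -⟩ | ⟨e1, -⟩
        exacts [h1 e1.symm, h3 e1.symm]
      · rw [← T.comm a ha.1 z hz.1, hae, hze, commute_swaps_iff hij hxy]
        exact Or.inr ⟨h1, h2, h3, h4⟩
    · rintro ⟨z, ⟨hz, hza⟩, rfl⟩
      obtain ⟨x, y, hxy, hze⟩ := T.swap z hz.1
      have hc' := (T.comm a ha.1 z hz.1).2 hza.2.2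
      rw [hae, hze, commute_swaps_iff hij hxy] at hc'
      exact ⟨x, y, ⟨hmemR z hz x y hxy hze,
        hc'.resolve_left fun e => hza.2.1 (T.inj z hz.1 a ha.1 (by rw [hze, hae, e]))⟩, hze⟩
  obtain ⟨a₀, ha₀⟩ := SrgAux.inter_nonempty h hd hc hdc
  obtain ⟨i₀, j₀, hij₀, he₀⟩ := T.swap a₀ ha₀.1
  rcases avoid_point h5 h6 R hs (fun x hx => hx.1 rfl) ht ⟨i₀, j₀, hmemR a₀ ha₀ i₀ j₀ hij₀ he₀⟩ hdeg
    with ⟨rfl, hμ⟩ | ⟨o, ho⟩
  · exfalso
    have hk : (perp D d).ncard = 10 := by have := T.two_mul_perp; omega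
    have hl : (perp D d ∩ perp D a₀).ncard = 3 := by have := T.two_mul_inter ha₀.1; omega
    have hmu : M.ncard = 2 := by
      have e : T.τ '' M = swapsOf R := by
        ext σ
        constructor
        · rintro ⟨x, hx, rfl⟩
          obtain ⟨a, b, hab, he⟩ := T.swap x hx.1
          exact ⟨a, b, hmemR x hx a b hab he, he⟩
        · rintro ⟨a, b, ⟨hab, x, hx, he⟩, rfl⟩
          exact ⟨x, hx, he⟩
      have := T.two_mul_image (S := M) Set.inter_subset_left
      rw [e, hμ] at this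
      omega
    obtain ⟨-, -, -, hn, hint⟩ := srg G D h d hd a₀ ha₀.1 c hc hdc 10 3 2 hk.symm hl.symm hmu.symm
    norm_num at hn hint
    rw [hn] at hint
    norm_num at hint
    obtain ⟨s, hs0, hs2, -⟩ := hint
    have : s ≤ 6 := by nlinarith
    interval_cases s <;> omega
  · refine ⟨o, fun x hx a b hab he => ?_⟩
    rw [← hxc x hx]
    exact ⟨fun hm => ((ho a b).1 (hmemR x hm a b hab he)).2,
      fun hab' => hofR x hx a b ((ho a b).2 ⟨hab, hab'⟩) he⟩

end SymAux

open SymAux in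
/-- **Neighbourhood symmetric.** -/
theorem symStep : SymStep.{u} := by
  intro G _ _ D h d hd m h5 h6 hT
  classical
  obtain ⟨T⟩ := exists_model h hd hT
  obtain ⟨-, ⟨c, hc, hdc⟩, -⟩ := SrgAux.rank_three h hd
  obtain ⟨o, ho⟩ := T.exists_point h hd h5 h6 hc hdc
  have hG := h.group
  have hD := h.cls
  -- the letters, the distinguished one first
  let f : Equiv.Perm (Fin m) := Equiv.swap ⟨0, by omega⟩ o
  have hf0 : f ⟨0, by omega⟩ = o := Equiv.swap_apply_left _ _
  let pt : ℕ → Fin m := fun i => if hi : i < m then f ⟨i, hi⟩ else o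
  have hpt : ∀ i j, i < m → j < m → i ≠ j → pt i ≠ pt j := fun i j hi hj hij => by
    simp only [pt, dif_pos hi, dif_pos hj]
    exact fun e => hij (by simpa using f.injective e)
  have hpto : ∀ i, i < m → (pt i = o ↔ i = 0) := fun i hi => by
    simp only [pt, dif_pos hi]
    rw [← hf0, f.injective.eq_iff, Fin.ext_iff]
  have hex : ∀ i : ℕ, ∃ x : G, i + 1 < m → x ∈ perp D d ∧ T.τ x = Equiv.swap (pt i) (pt (i + 1)) := by
    intro i
    by_cases hi : i + 1 < m
    · obtain ⟨x, hx, he⟩ := T.surj _ _ (hpt i (i + 1) (by omega) hi (by omega))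
      exact ⟨x, fun _ => ⟨hx, he⟩⟩
    · exact ⟨1, fun h' => absurd h' hi⟩
  choose g hg using hex
  let t : ℕ → G := fun i => if i = 0 then d else if i = 1 then c else g (i - 2)
  have htD : ∀ i, i < m + 1 → t i ∈ D := fun i hi => by
    rcases i with _ | _ | j
    exacts [hd, hc, (hg j (by omega)).1.1]
  -- commuting in the chain
  have hcg : ∀ j, j + 1 < m → (Commute c (g j) ↔ j ≠ 0) := fun j hj => by
    rw [ho _ (hg j hj).1 _ _ (hpt j (j + 1) (by omega) hj (by omega)) (hg j hj).2,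
      ne_eq, hpto j (by omega), ne_eq, hpto (j + 1) hj]
    simp
  have hgg : ∀ i j, i < j → j + 1 < m → (Commute (g i) (g j) ↔ i + 1 < j) := fun i j hij hj => by
    rw [← T.comm _ (hg i (by omega)).1 _ (hg j hj).1, (hg i (by omega)).2, (hg j hj).2,
      commute_swaps_iff (hpt i (i + 1) (by omega) (by omega) (by omega))
        (hpt j (j + 1) (by omega) hj (by omega))]
    constructor
    · rintro (e | ⟨h1, h2, h3, h4⟩)
      · rcases pair_of_swap_eq (hpt i (i + 1) (by omega) (by omega) (by omega)) e with ⟨e1, -⟩ | ⟨e1, -⟩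
        · exact absurd e1 (hpt i j (by omega) (by omega) (by omega))
        · exact absurd e1 (hpt i (j + 1) (by omega) hj (by omega))
      · by_contra hlt
        exact h2 (by rw [show j = i + 1 by omega])
    · intro hlt
      exact Or.inr ⟨hpt j i (by omega) (by omega) (by omega), hpt j (i + 1) (by omega) (by omega) (by omega),
        hpt (j + 1) i hj (by omega) (by omega), hpt (j + 1) (i + 1) hj (by omega) (by omega)⟩
  have hcomm : ∀ i j, i < j → j < m + 1 → (Commute (t i) (t j) ↔ i + 1 < j) := by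
    intro i j hij hj
    rcases j with _ | _ | j
    · omega
    · obtain rfl : i = 0 := by omega
      exact iff_of_false hdc (by omega)
    rcases i with _ | _ | i
    · exact iff_of_true (hg j (by omega)).1.2.2 (by omega)
    · show Commute c (g j) ↔ _
      rw [hcg j (by omega)]; omega
    · show Commute (g i) (g j) ↔ _
      rw [hgg i j (by omega) (by omega)]; omega
  have hrel : CoxeterSym.IsSymGens (m + 1) t := ⟨
    fun i hi => FischerTypes.mul_self hD.1 (htD i hi),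
    fun i hi => FischerTransitivity.braid hD (htD i (by omega)) (htD (i + 1) hi)
      fun hc' => absurd ((hcomm i (i + 1) (by omega) hi).1 hc') (by omega),
    fun i j hij hj => ((hcomm i j (by omega) hj).2 hij).eq⟩
  obtain ⟨φ, hφ⟩ := CoxeterSym.exists_hom hrel
  have h0 : φ (Equiv.swap 0 1) = d := by simpa [t] using hφ ⟨0, by omega⟩
  have h1 : φ (Equiv.swap 1 2) = c := by
    have := hφ ⟨1, by omega⟩
    have e1 : (Fin.castSucc (⟨1, by omega⟩ : Fin (m + 1))) = (1 : Fin (m + 1 + 1)) := by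
      ext; simp [Fin.val_one]
    have e2 : (Fin.succ (⟨1, by omega⟩ : Fin (m + 1))) = (2 : Fin (m + 1 + 1)) := by
      ext
      rw [Fin.val_succ, Fin.coe_ofNat_eq_mod, Nat.mod_eq_of_lt (by omega)]
    rw [e1, e2] at this
    simpa [t] using this
  have hswap : ∀ {i j : Fin (m + 1 + 1)}, i ≠ j → φ (Equiv.swap i j) ∈ D := by
    intro i j hij
    obtain ⟨σ, hσ⟩ := isConj_iff.1 (Equiv.Perm.isConj_swap
      (show (0 : Fin (m + 1 + 1)) ≠ 1 by simp) hij)
    rw [← hσ, map_mul, map_mul, map_inv, h0]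
    exact hG.2.1 _ d hd
  have hinj : Function.Injective φ := by
    rw [← MonoidHom.ker_eq_bot_iff]
    by_contra hne
    have hA : alternatingGroup (Fin (m + 1 + 1)) ≤ φ.ker :=
      Equiv.Perm.alternatingGroup_le_of_normal (by simp; omega)
        ((Subgroup.nontrivial_iff_ne_bot _).2 hne)
    have h12 : (1 : Fin (m + 1 + 1)) ≠ 2 := by
      intro e; have := congrArg Fin.val e
      rw [Fin.coe_ofNat_eq_mod, Fin.coe_ofNat_eq_mod, Nat.mod_eq_of_lt (by omega),
        Nat.mod_eq_of_lt (by omega)] at this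
      omega
    have : φ (Equiv.swap 0 1 * Equiv.swap 1 2) = 1 := hA (by
      rw [Equiv.Perm.mem_alternatingGroup, map_mul, Equiv.Perm.sign_swap (by simp : (0 : Fin (m + 1 + 1)) ≠ 1),
        Equiv.Perm.sign_swap h12]
      rfl)
    rw [map_mul, h0, h1] at this
    exact hdc (by rw [eq_inv_of_mul_eq_one_left this]; exact (Commute.refl c).inv_left)
  -- the neighbourhood is in the image
  have hgr : ∀ j, j + 1 < m → g j ∈ φ.range := fun j hj =>
    ⟨_, (hφ ⟨j + 2, by omega⟩).trans (by simp [t])⟩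
  let K : Subgroup (Equiv.Perm (Fin m)) :=
    { carrier := {σ | ∃ x ∈ φ.range, x ∈ Subgroup.closure (perp D d) ∧ T.τ x = σ}
      one_mem' := ⟨1, one_mem _, one_mem _, T.one⟩
      mul_mem' := by
        rintro _ _ ⟨x, hx, hxc, rfl⟩ ⟨y, hy, hyc, rfl⟩
        exact ⟨x * y, mul_mem hx hy, mul_mem hxc hyc, T.mul x hxc y hyc⟩
      inv_mem' := by
        rintro _ ⟨x, hx, hxc, rfl⟩
        refine ⟨x⁻¹, inv_mem hx, inv_mem hxc, eq_inv_of_mul_eq_one_left ?_⟩
        rw [← T.mul _ (inv_mem hxc) _ hxc, inv_mul_cancel, T.one] }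
  have hK : K = ⊤ := by
    obtain ⟨n, rfl⟩ : ∃ n, m = n + 1 := ⟨m - 1, by omega⟩
    have hadj : ∀ i : Fin n, Equiv.swap i.castSucc i.succ ∈ K.comap (MulAut.conj f).toMonoidHom := by
      intro i
      show f * Equiv.swap i.castSucc i.succ * f⁻¹ ∈ K
      rw [← Equiv.swap_apply_apply]
      have hi : (i : ℕ) + 1 < n + 1 := by omega
      have e1 : pt (i : ℕ) = f i.castSucc := dif_pos (by omega)
      have e2 : pt ((i : ℕ) + 1) = f i.succ := dif_pos hi
      refine ⟨g i, hgr i hi, Subgroup.subset_closure (hg i hi).1, ?_⟩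
      rw [(hg i hi).2, e1, e2]
    rw [eq_top_iff]
    intro σ _
    have hmem : ∀ π : Equiv.Perm (Fin (n + 1)), π ∈ K.comap (MulAut.conj f).toMonoidHom := fun π => by
      have hle : Submonoid.closure (Set.range fun i : Fin n => Equiv.swap i.castSucc i.succ) ≤
          (K.comap (MulAut.conj f).toMonoidHom).toSubmonoid :=
        Submonoid.closure_le.2 (by rintro _ ⟨i, rfl⟩; exact hadj i)
      rw [Equiv.Perm.mclosure_swap_castSucc_succ] at hle
      exact hle (Submonoid.mem_top π)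
    have := hmem (f⁻¹ * σ * f)
    simpa [mul_assoc] using this
  have hperp : ∀ z ∈ perp D d, z ∈ φ.range := by
    intro z hz
    obtain ⟨a, b, hab, he⟩ := T.swap z hz
    have hg0 := hg 0 (by omega)
    have hne := hpt 0 1 (by omega) (by omega) (by omega)
    obtain ⟨σ, hσ⟩ := isConj_iff.1 (Equiv.Perm.isConj_swap hne hab)
    obtain ⟨x, hx, hxc, rfl⟩ : σ ∈ K := hK ▸ Subgroup.mem_top σ
    have hxz : x * g 0 * x⁻¹ ∈ perp D d := FischerTypes.conj_mem_perp' hG hxc hg0.1
    have hgc := Subgroup.subset_closure hg0.1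
    have hinv : T.τ x⁻¹ = (T.τ x)⁻¹ := eq_inv_of_mul_eq_one_left (by
      rw [← T.mul _ (inv_mem hxc) _ hxc, inv_mul_cancel, T.one])
    have : x * g 0 * x⁻¹ = z := T.inj _ hxz z hz (by
      rw [T.mul _ (mul_mem hxc hgc) _ (inv_mem hxc), T.mul _ hxc _ hgc, hinv, hg0.2, hσ, he])
    rw [← this]
    exact mul_mem (mul_mem hx (hgr 0 (by omega))) (inv_mem hx)
  -- the image is everything
  have hrange : φ.range = ⊤ := by
    obtain ⟨a, ha⟩ := h.perp_nonempty hd
    obtain ⟨-, hmax⟩ := Transpositions.maximal_dSubgroup_of_primitive hG h.prim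
      ⟨d, hd, a, ha.1, ha.2.1.symm, ha.2.2⟩ hd
    refine (hmax φ.range ?_ ?_).resolve_left fun e => hdc ?_
    · refine le_antisymm ((Subgroup.closure_le _).2 fun y hy => hy.2) ?_
      intro x hx
      obtain ⟨π, rfl⟩ := hx
      have hπ : π ∈ Subgroup.closure {σ : Equiv.Perm (Fin (m + 1 + 1)) | σ.IsSwap} := by
        rw [Equiv.Perm.closure_isSwap]; exact Subgroup.mem_top π
      have hle : Subgroup.closure {σ : Equiv.Perm (Fin (m + 1 + 1)) | σ.IsSwap} ≤
          (Subgroup.closure {y | y ∈ D ∧ y ∈ φ.range}).comap φ := by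
        rw [Subgroup.closure_le]
        rintro _ ⟨i, j, hij, rfl⟩
        exact Subgroup.subset_closure ⟨hswap hij, _, rfl⟩
      exact hle hπ
    · refine (Subgroup.closure_le _).2 fun y hy => ?_
      by_cases hyd : y = d
      · exact hyd ▸ ⟨_, h0⟩
      · exact hperp y ⟨hy.1, hyd, hy.2⟩
    · have hcr : c ∈ φ.range := ⟨_, h1⟩
      rw [e] at hcr
      have hle : Subgroup.closure {y : G | y ∈ D ∧ Commute d y} ≤ Subgroup.centralizer ({d} : Set G) :=
        (Subgroup.closure_le _).2 fun y hy => Subgroup.mem_centralizer_singleton_iff.2 hy.2.eq.symm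
      exact (Subgroup.mem_centralizer_singleton_iff.1 (hle hcr)).symm
  have hsurj : Function.Surjective φ := MonoidHom.range_eq_top.1 hrange
  let e := MulEquiv.ofBijective φ ⟨hinj, hsurj⟩
  refine ⟨e.symm, Set.Subset.antisymm ?_ ?_⟩
  · rintro _ ⟨y, hy, rfl⟩
    obtain ⟨k, hk⟩ := Transpositions.exists_conj_of_class hD hd hy
    obtain ⟨σ, rfl⟩ := hsurj k
    refine ⟨σ 0, σ 1, σ.injective.ne (by simp), (MulEquiv.symm_apply_eq e).2 ?_⟩
    rw [← hk, Equiv.swap_apply_apply, map_mul, map_mul, map_inv]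
    show _ = φ σ * φ (Equiv.swap 0 1) * (φ σ)⁻¹
    rw [h0]
  · rintro _ ⟨i, j, hij, rfl⟩
    exact ⟨_, hswap hij, (MulEquiv.symm_apply_eq e).2 rfl⟩

end CfsgLib.FischerThm
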