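import Cfsg.Agent.FischerThm.Srg
import Cfsg.Agent.FischerThm.Uni.Five
import Cfsg.Agent.FischerUnitaryExcl.Model

/-!
# A neighbourhood of unitary type is of dimension four or six
-/

set_option autoImplicit false

universe u

namespace CfsgLib.FischerThm

open Cfsg CfsgLib.RepBounds.Unit CfsgLib.U62 CfsgLib.FischerTypes

theorem uniStep : UniStep.{u} := by
  intro G _ _ D h d hd n hn hn6 hT
  obtain ⟨F, hF₁, hF₂, hF, hiso⟩ := hT
  obtain ⟨C, hC⟩ := exists_conjField (F := F) 2 (by rw [hF]; norm_num)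
  have hG := Transpositions.isThreeTranspositionGroup_of_class h.cls
  obtain rfl | hn7 : n = 5 ∨ 7 ≤ n := by omega
  · haveI : Nontrivial Uni.I5 := ⟨⟨Sum.inl 0, Sum.inl 1, by simp⟩⟩
    obtain ⟨Kd⟩ := Uni.exists_coord C hG hC hiso (ι := Uni.I5) (by simp)
      (fun v hv hv0 => Forms4.exists_partner C hv hv0)
    have hK : ∀ e ∈ D, Nonempty (Uni.Coord C D e Uni.I5) :=
      fun e he => Uni.exists_coord_of_class h.cls hd he Kd
    obtain ⟨-, ⟨c, hc, hdc⟩, -⟩ := SrgAux.rank_three h hd
    obtain ⟨a', ha'⟩ := SrgAux.inter_nonempty h hd hc hdc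
    have h82 := Uni.eighty_two_le C hC h.cls Kd hdc hK hd hc ha'
    set a := Kd.Φ (vE C Uni.I3)
    have ha : a ∈ perp D d := Kd.mem _ (herm_vE_vE C) (Forms4.vE_ne_zero C)
    have hk : (perp D d).ncard = 165 := Uni.perp_ncard_five C hC Kd
    have hfar : {b ∈ perp D d | ¬ Commute a b}.ncard = 128 := Uni.far_ncard_five C hC Kd
    have hl : (perp D d ∩ perp D a).ncard = 36 := by
      have hsplit : perp D d =
          insert a (perp D d ∩ perp D a) ∪ {b ∈ perp D d | ¬ Commute a b} := by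
        ext b
        refine ⟨fun hb => ?_, ?_⟩
        · by_cases hab : Commute a b
          · by_cases hba : b = a
            · exact Or.inl (Or.inl hba)
            · exact Or.inl (Or.inr ⟨hb, hb.1, hba, hab⟩)
          · exact Or.inr ⟨hb, hab⟩
        · rintro ((rfl | hb) | hb)
          · exact ha
          · exact hb.1
          · exact hb.1
      have hdis : Disjoint (insert a (perp D d ∩ perp D a)) {b ∈ perp D d | ¬ Commute a b} := by
        rw [Set.disjoint_left]
        rintro b (rfl | hb) hb'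
        · exact hb'.2 (Commute.refl _)
        · exact hb'.2 hb.2.2.2
      have e := congrArg Set.ncard hsplit
      rw [Set.ncard_union_eq hdis (Set.toFinite _) (Set.toFinite _),
        Set.ncard_insert_of_notMem (fun e' => e'.2.2.1 rfl) (Set.toFinite _), hfar, hk] at e
      omega
    obtain ⟨hμ0, -, hdvd, hv, hint⟩ := srg G D h d hd a ha c hc hdc _ _ _ rfl rfl rfl
    have hlt := SrgAux.inter_lt h hd hc hdc
    rw [hk] at hdvd hlt hv hint
    rw [hl] at hdvd hv hint
    norm_num at hdvd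
    have h66 := Uni.mu_le (v := D.ncard) hμ0 hlt (by norm_num; exact hdvd) (by rw [hv])
      (hint.imp (fun e => by exact_mod_cast e) (fun ⟨s, _, hs, _⟩ => ⟨s, by exact_mod_cast hs⟩))
    omega
  · haveI : Nontrivial (Fin 2 ⊕ Fin (n - 2)) := ⟨⟨Sum.inl 0, Sum.inl 1, by simp⟩⟩
    haveI : Nonempty (Fin (n - 2)) := ⟨⟨0, by omega⟩⟩
    obtain ⟨K⟩ := Uni.exists_coord C hG hC hiso (ι := Fin 2 ⊕ Fin (n - 2)) (by simp; omega)
      (fun v hv hv0 => Forms4.exists_partner C hv hv0)
    refine FischerUnitaryExcl.false_of_unitary_model h.cls h.simple (SrgAux.exists_nonabelian h) h.center hd C hC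
      (κ := Fin (n - 2)) (by simp; omega) K.Φ (fun v hv hv0 => K.mem v hv hv0) (fun y hy => K.surj y hy)
      (fun s v hv hv0 hs => ?_) (fun v w hv hv0 hw hw0 e => ?_) K.comm_iff
    · exact ((K.eq_iff v (s • v) hv hv0 (by rw [herm_smul_left, herm_smul_right, hv, mul_zero, mul_zero])
        (smul_ne_zero hs hv0)).2 ⟨s, hs, rfl⟩).symm
    · obtain ⟨b, -, hb⟩ := (K.eq_iff v w hv hv0 hw hw0).1 e
      exact ⟨b, hb⟩

end CfsgLib.FischerThm
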