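import Cfsg.Agent.FischerThm.Main
import Cfsg.Agent.FischerThm.OPlusStep
import Cfsg.Agent.FischerThm.OMinusStep
import Cfsg.Agent.FischerThm.ConvSymSix
import Cfsg.Agent.FischerThm.ConvOPlusThree
import Cfsg.Agent.FischerThm.ConvOMinusTwo
import Cfsg.Agent.FischerThm.ConvUniFour
import Cfsg.Agent.FischerThm.CountRefl
import Cfsg.Agent.FischerThm.Models
import Cfsg.Agent.FischerThm.CoreTwoCase
import Cfsg.Agent.FischerThm.CoreThreeCase
import Cfsg.Agent.FischerThm.SymStep
import Cfsg.Agent.FischerThm.SpStep
import Cfsg.Agent.FischerThm.GoodRefl
import Cfsg.Agent.FischerThm.LocalUni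
import Cfsg.Agent.FischerThm.UniStep

/-!
# The parts of the induction, assembled
-/

set_option autoImplicit false

universe u

namespace CfsgLib.FischerThm

/-- The parts, from the reflection step. -/
theorem parts_of_steps (hRefl : ReflStep.{u}) : Parts.{u} where
  two := coreTwoCase
  three := coreThreeCase
  sym := symStep
  sp := spStep
  uni := uniStep
  plus := oPlusStep symStep hRefl convOPlusThree convOMinusTwo countRefl
  minus := oMinusStep symStep hRefl convOPlusThree convOMinusTwo countRefl
  refl := hRefl
  symSix := convSymSix
  plusThree := convOPlusThree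
  minusTwo := convOMinusTwo
  uniFour := convUniFour
  goodRefl := goodRefl
  count := countRefl
  localUni := localUni
  commEight := commReflEight

end CfsgLib.FischerThm
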