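import Cfsg.Agent.FischerThm.ChainTools
import Cfsg.Agent.FischerThm.StdForm
import Cfsg.Agent.Transpositions.TypeM23Structure

/-!
# The steps U₆(2) → M(22) → M(23), and the exclusion above M(24)
-/

set_option autoImplicit false
set_option maxHeartbeats 400000

universe u

namespace CfsgLib.FischerThm

open Cfsg CfsgLib.FischerTypes

/-- Components with reflection neighbourhoods are reflection systems one dimension up. -/
theorem comp_refl (hRefl : ReflStep.{u}) (hGood : GoodRefl) {n : ℕ} (hn : 5 ≤ n) {G : Type u} [Group G]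
    [Finite G] {D M : Set G} (hD : IsThreeTranspositionGroup D) (hM : M ⊆ D)
    (hcl : ∀ a ∈ M, ∀ b ∈ M, a * b * a ∈ M) (hloc : ∀ a ∈ M, DIso (sImg (M ∩ perp D a)) (reflD n 1))
    {a : G} (ha : a ∈ M) :
    IsReflT (sImg (comp M a)) (n + 1) 1 ∧ (comp M a).ncard = (reflD (n + 1) 1).ncard := by
  have hgood : ∀ a ∈ M, LocalGood (sImg (M ∩ perp D a)) := fun a ha =>
    (hGood n 1 hn (Or.inl rfl)).of_dIso (hloc a ha).symm
  obtain ⟨hgen, hcard, hl⟩ := component G D hD M hM hcl hgood a ha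
  obtain ⟨q, hq, -⟩ := hgen.pair
  obtain ⟨b, hb, hiso⟩ := hl q hq
  have hr := hRefl _ _ hgen q hq n 1 hn (Or.inl rfl) (hiso.trans (hloc b hb.1))
  exact ⟨hr, hcard ▸ DIso.ncard_eq hr⟩

/-- With one component, the common partners form a reflection system. -/
theorem isReflT_of_count (hRefl : ReflStep.{u}) (hGood : GoodRefl) {n N B : ℕ} (hn : 5 ≤ n)
    (hN : (reflD (n + 1) 1).ncard = N) {G : Type u} [Group G] [Finite G] {D M : Set G}
    (hD : IsThreeTranspositionGroup D) (hM : M ⊆ D) (hcl : ∀ a ∈ M, ∀ b ∈ M, a * b * a ∈ M)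
    (hloc : ∀ a ∈ M, DIso (sImg (M ∩ perp D a)) (reflD n 1)) {a : G} (ha : a ∈ M) (hNpos : 0 < N)
    {k l : ℕ} (hle : M.ncard ≤ k) (hB : k < B * N) (hok : srgOK k l M.ncard = true)
    (honly : ∀ t < B, srgOK k l (t * N) = true → t = 1) :
    IsReflT (sImg M) (n + 1) 1 := by
  have hcomp := fun a ha => (comp_refl hRefl hGood hn hD hM hcl hloc (a := a) ha).2.trans hN
  have hmul := ncard_eq_mul_of_comp M N hcomp
  set t := ((fun a => comp M a) '' M).ncard with ht
  have htB : t < B := Nat.lt_of_mul_lt_mul_right (a := N) (by rw [← hmul]; omega)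
  have ht1 := honly t htB (hmul ▸ hok)
  have h1 := (comp_refl hRefl hGood hn hD hM hcl hloc ha).1
  rwa [eq_comp_of_one ha ht1] at h1

theorem isProjReflection_of_isReflT {G : Type u} [Group G] {S : Set G} {n : ℕ} (h : IsReflT (sImg S) n 1) :
    IsProjReflectionGroupModThree (SQuot S) n (2 ^ n) 1 := by
  obtain ⟨e, -⟩ := h
  exact ⟨stdQ n 1, stdQ_nondegenerate n one_ne_zero, polarGramDet_stdQ_one n, ⟨e⟩⟩

/-- Conjugating a statement about common partners. -/
theorem forall_pairs {G : Type u} [Group G] [Finite G] {D : Set G} (h : Generic D) {d : G} (hd : d ∈ D)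
    {n : ℕ} (hmain : ∀ c ∈ D, ¬ Commute d c → IsReflT (sImg (perp D d ∩ perp D c)) n 1) :
    ∀ a ∈ D, ∀ b ∈ D, ¬ Commute a b → IsReflT (sImg (perp D a ∩ perp D b)) n 1 := by
  intro a ha b hb hab
  obtain ⟨g, rfl⟩ := Transpositions.exists_conj_of_class h.cls hd ha
  have hbc : ¬ Commute d (g⁻¹ * b * g) := fun hh => hab (by
    have := (commute_conj_iff' g d (g⁻¹ * b * g)).2 hh
    simpa [mul_assoc] using this)
  have h1 := dIso_sImg_conj g (perp D d ∩ perp D (g⁻¹ * b * g))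
  rw [Set.image_inter (fun x y hxy => mul_left_cancel (mul_right_cancel hxy)), image_perp_conj h.group,
    image_perp_conj h.group, show g * (g⁻¹ * b * g) * g⁻¹ = b by group] at h1
  exact h1.symm.trans (hmain _ (by simpa using h.group.2.1 g⁻¹ b hb) hbc)

theorem uSixStep (hRefl : ReflStep.{u}) (hGood : GoodRefl) (hCount : CountRefl) (hConv : ConvUniFour)
    (hLoc : LocalUni) : USixStep.{u} := by
  intro G _ _ D h d hd hU
  obtain ⟨F, iF, iT, hF, hiso⟩ := hU
  obtain ⟨e, -⟩ := id hiso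
  obtain ⟨P⟩ := exists_perpModel' h.group (h.noCentral hd) hF e
  obtain ⟨a₀, ha₀⟩ := h.perp_nonempty hd
  have hmain : ∀ c ∈ D, ¬ Commute d c → IsReflT (sImg (perp D d ∩ perp D c)) 6 1 := by
    intro c hc hdc
    obtain ⟨a, ha⟩ := SrgAux.inter_nonempty h hd hc hdc
    obtain ⟨-, hle, hok⟩ := srgOK_of h hd ha₀ hc hdc P.ncard_perp (P.ncard_perp_perp ha₀)
    refine isReflT_of_count (N := 126) (B := 6) hRefl hGood le_rfl hCount.2.2.1 h.group
      (fun x hx => hx.1.1) (inter_closed h.group d c) (fun a ha => ?_) ha (by norm_num) hle (by norm_num) hok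
      (by decide +kernel)
    obtain ⟨p, hp, q, hq, hpq, hl⟩ := commonLocal G D h (PSU 6 F 2) (uniD 6 F) d hd hiso c hc hdc a ha
    exact (hl.trans (hLoc F hF 4 le_rfl p hp q hq hpq)).trans (hConv F hF)
  obtain ⟨c, hc, hdc⟩ : ∃ c ∈ D, ¬ Commute d c := Transpositions.exists_not_commute_of_class h.cls
    ⟨d, hd, a₀, ha₀.1, ha₀.2.1.symm⟩ hd
  refine ⟨⟨h.center, d, hd, c, hc, hdc, ⟨F, iF, iT, hF, ⟨e⟩⟩, 1, one_ne_zero, ?_⟩, forall_pairs h hd hmain⟩
  have h6 := isProjReflection_of_isReflT (hmain c hc hdc)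
  rwa [show (2 : ZMod 3) ^ 6 = 1 by decide] at h6

/-- The common partners, from the type of the neighbourhood. -/
theorem local_of_predicate {G : Type u} [Group G] [Finite G] {D : Set G} (h : Generic D) {d c a : G} (hd : d ∈ D)
    (hc : c ∈ D) (hdc : ¬ Commute d c) (ha : a ∈ perp D d ∩ perp D c) :
    ∃ p ∈ sImg (perp D d), ∃ q ∈ sImg (perp D d), ¬ Commute p q ∧
      DIso (sImg ((perp D d ∩ perp D c) ∩ perp D a))
        (sImg (perp (sImg (perp D d)) p ∩ perp (sImg (perp D d)) q)) :=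
  commonLocal G D h (SQuot (perp D d)) (sImg (perp D d)) d hd (DIso.refl _) c hc hdc a ha

theorem mTwoTwoStep (hRefl : ReflStep.{u}) (hGood : GoodRefl) (hCount : CountRefl) : MTwoTwoStep.{u} := by
  intro G _ _ D h d hd hT
  obtain ⟨-, hlg, -, hs⟩ := hBasic G D h d hd
  obtain ⟨a₀, ha₀⟩ := h.perp_nonempty hd
  obtain ⟨c₀, hc₀, hdc₀⟩ : ∃ c ∈ D, ¬ Commute d c := Transpositions.exists_not_commute_of_class h.cls
    ⟨d, hd, a₀, ha₀.1, ha₀.2.1.symm⟩ hd
  have hS := h.sNoCentral hd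
  have hH := Transpositions.isThreeTranspositionGroup_of_class hlg.cls
  have hHp : IsPrimitiveUnderConj (sImg (perp D d)) :=
    (facts_of_simple hlg.cls hlg.center hs hlg.pair).1
  have hk : (perp D d).ncard = 3510 := by
    rw [← ncard_sImg h.cls.1 (perp_subset D d) hS]
    exact FischerTypes.ncard_D hH hHp hT.1
  have hl : (perp D d ∩ perp D a₀).ncard = 693 := by
    rw [ncard_perp_sImg h hd ha₀]
    obtain ⟨P⟩ := exists_perpModel hH hT.1 (sMk_mem_sImg ha₀)
    exact P.ncard_perp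
  have hmain : ∀ c ∈ D, ¬ Commute d c → IsReflT (sImg (perp D d ∩ perp D c)) 7 1 := by
    intro c hc hdc
    obtain ⟨a, ha⟩ := SrgAux.inter_nonempty h hd hc hdc
    obtain ⟨-, hle, hok⟩ := srgOK_of h hd ha₀ hc hdc hk hl
    refine isReflT_of_count (N := 351) (B := 11) hRefl hGood (by norm_num) hCount.2.2.2.2.1 h.group
      (fun x hx => hx.1.1) (inter_closed h.group d c) (fun a ha => ?_) ha (by norm_num) hle (by norm_num) hok
      (by decide +kernel)
    obtain ⟨p, hp, q, hq, hpq, hl'⟩ := local_of_predicate h hd hc hdc ha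
    exact hl'.trans (hT.2 p hp q hq hpq)
  refine ⟨⟨h.center, d, hd, c₀, hc₀, hdc₀, hT.1, 1, one_ne_zero, ?_⟩, forall_pairs h hd hmain⟩
  have h7 := isProjReflection_of_isReflT (hmain c₀ hc₀ hdc₀)
  rwa [show (2 : ZMod 3) ^ 7 = -1 by decide] at h7

theorem mTwoFourStep : MTwoFourStep.{u} := by
  intro G _ _ D h d hd hT
  obtain ⟨a₀, ha₀⟩ := h.perp_nonempty hd
  obtain ⟨c, hc, hdc⟩ : ∃ c ∈ D, ¬ Commute d c := Transpositions.exists_not_commute_of_class h.cls
    ⟨d, hd, a₀, ha₀.1, ha₀.2.1.symm⟩ hd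
  obtain ⟨a, ha⟩ := SrgAux.inter_nonempty h hd hc hdc
  have hloc : ∀ b ∈ perp D d ∩ perp D c, LocalGood (sImg ((perp D d ∩ perp D c) ∩ perp D b)) ∧
      ¬ (commutingGraph (sImg ((perp D d ∩ perp D c) ∩ perp D b))).Connected := by
    intro b hb
    obtain ⟨p, hp, q, hq, hpq, hl⟩ := local_of_predicate h hd hc hdc hb
    obtain ⟨hgood, hdis⟩ := hT.2 p hp q hq hpq
    exact ⟨hgood.of_dIso hl.symm, fun hcon => hdis (hl.connected hcon)⟩
  obtain ⟨hgen, -, hl⟩ := component G D h.group _ (fun x hx => hx.1.1) (inter_closed h.group d c)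
    (fun b hb => (hloc b hb).1) a ha
  obtain ⟨q, hq, -⟩ := hgen.pair
  obtain ⟨b, hb, hiso⟩ := hl q hq
  exact (hloc b hb.1).2 (hiso.connected (hBasic _ _ hgen q hq).2.2.1)

end CfsgLib.FischerThm
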