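import Cfsg.Agent.FischerThm.Basic
import Cfsg.Agent.FischerThm.Targets

/-!
# `HBasic`, `Transfer` and `CommonLocal`
-/

set_option autoImplicit false

universe u v

namespace CfsgLib.FischerThm

open Cfsg CfsgLib.FischerTypes

theorem hBasic : HBasic.{u} := fun _ _ _ _ h _ hd => hBasic_aux h hd

theorem transfer : Transfer.{u} := fun _ _ _ D hD a _ hnc _ hS =>
  ⟨_, rfl, dIso_sImg_image (A := perp D a) hD.1 (perp_subset D a) hnc (fun x hx y hy => by
    have := conj_mem_perp hD (g := x) hx.2.2.symm hy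
    rwa [inv_eq hD.1 hx.1] at this) hS⟩

/-- Conjugates of a member have conjugate neighbourhoods. -/
theorem image_perp_conj {G : Type u} [Group G] {D : Set G} (hD : IsThreeTranspositionGroup D) (g a : G) :
    (fun x => g * x * g⁻¹) '' perp D a = perp D (g * a * g⁻¹) := by
  have h := image_perp (D := D) (MulAut.conj g) a
  have hD' : (MulAut.conj g : G → G) '' D = D := by
    ext y
    constructor
    · rintro ⟨x, hx, rfl⟩; exact hD.2.1 g x hx
    · exact fun hy => ⟨g⁻¹ * y * g, by simpa using hD.2.1 g⁻¹ y hy, by simp [mul_assoc]⟩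
  rw [hD'] at h
  exact h

/-- All neighbourhoods are alike. -/
theorem dIso_perp {G : Type u} [Group G] [Finite G] {D : Set G} (h : Generic D) {a b : G} (ha : a ∈ D)
    (hb : b ∈ D) : DIso (sImg (perp D a)) (sImg (perp D b)) := by
  obtain ⟨g, rfl⟩ := Transpositions.exists_conj_of_class h.cls ha hb
  rw [← image_perp_conj h.group g a]
  exact dIso_sImg_conj g _

theorem commonLocal : CommonLocal.{u, v} := by
  intro G _ _ D h K _ E d hd hE c hc hdc a ha
  have hda : d ∈ perp D a := perp_symm' hd ha.1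
  have hca : c ∈ perp D a := perp_symm' hc ha.2
  have hS := h.sNoCentral ha.1.1
  have hsub := perp_subset D a
  obtain ⟨T, hT, hiso⟩ := transfer G D h.group a ha.1.1 (h.noCentral ha.1.1)
    ((perp D d ∩ perp D c) ∩ perp D a) Set.inter_subset_right
  obtain ⟨e, he⟩ := (dIso_perp h ha.1.1 hd).trans hE
  set p := sMk (perp D a) hda with hp
  set q := sMk (perp D a) hca with hq
  have key : ∀ {x z : G} (hx : x ∈ perp D a) (hz : z ∈ perp D a),
      sMk (perp D a) hx ∈ perp (sImg (perp D a)) (sMk (perp D a) hz) ↔ x ∈ perp D z := by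
    intro x z hx hz
    constructor
    · exact fun hh => ⟨hx.1, fun hxz => hh.2.1 (by subst hxz; rfl),
        (commute_sMk_iff h.cls.1 hsub hz hx).1 hh.2.2⟩
    · exact fun hh => ⟨sMk_mem_sImg hx, fun he => hh.2.1 (sMk_inj h.cls.1 hsub hS hx hz he),
        (commute_sMk_iff h.cls.1 hsub hz hx).2 hh.2.2⟩
  have hT' : T = perp (sImg (perp D a)) p ∩ perp (sImg (perp D a)) q := by
    rw [hT]
    ext r
    constructor
    · rintro ⟨⟨x, hxc⟩, hx, rfl⟩
      exact ⟨(key hx.2 hda).2 hx.1.1, (key hx.2 hca).2 hx.1.2⟩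
    · rintro ⟨hr1, hr2⟩
      obtain ⟨x, hx, rfl⟩ := exists_sMk hr1.1
      exact ⟨⟨x, mem_perp_closure hx⟩, ⟨⟨(key hx hda).1 hr1, (key hx hca).1 hr2⟩, hx⟩, rfl⟩
  refine ⟨e p, he ▸ ⟨p, sMk_mem_sImg hda, rfl⟩, e q, he ▸ ⟨q, sMk_mem_sImg hca, rfl⟩, fun hpq => hdc ?_, ?_⟩
  · exact (commute_sMk_iff h.cls.1 hsub hda hca).1 (by simpa using hpq.map e.symm.toMonoidHom)
  · have h1 := dIso_sImg_of_injective e.toMonoidHom e.injective T
    rw [hT'] at h1
    have himg : (e.toMonoidHom : _ → K) '' (perp (sImg (perp D a)) p ∩ perp (sImg (perp D a)) q) =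
        perp E (e p) ∩ perp E (e q) := by
      rw [MulEquiv.coe_toMonoidHom, Set.image_inter e.injective, image_perp e p, image_perp e q, he]
    rw [himg] at h1
    rw [hT'] at hiso
    exact hiso.trans h1

end CfsgLib.FischerThm
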