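import Cfsg.Agent.FischerThm.Component
import Cfsg.Agent.FischerThm.CommonLocal
import Cfsg.Agent.FischerThm.Srg
import Cfsg.Agent.FischerTypes.M22Graph

/-!
# Tools for the steps M(22), M(23), M(24)
-/

set_option autoImplicit false
set_option maxHeartbeats 400000

universe u v

namespace CfsgLib.FischerThm

open Cfsg CfsgLib.FischerTypes CfsgLib.RepBounds.Unit CfsgLib.U62

variable {G : Type u} [Group G] {D : Set G} {K : Type v} [Group K] {E : Set K}

theorem DIso.ncard_eq (h : DIso D E) : D.ncard = E.ncard := by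
  obtain ⟨e, rfl⟩ := h
  exact (Set.ncard_image_of_injective _ e.injective).symm

theorem DIso.connected (h : DIso D E) (hc : (commutingGraph D).Connected) : (commutingGraph E).Connected := by
  obtain ⟨e, rfl⟩ := h
  let f : (commutingGraph D) →g (commutingGraph (e '' D)) :=
    ⟨fun x => ⟨e x, x.1, x.2, rfl⟩, fun {x y} hxy => by
      rw [commutingGraph, SimpleGraph.fromRel_adj] at hxy ⊢
      exact ⟨fun he => hxy.1 (Subtype.ext (e.injective (congrArg Subtype.val he))),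
        hxy.2.imp (fun hh => hh.map e.toMonoidHom) (fun hh => hh.map e.toMonoidHom)⟩⟩
  refine (SimpleGraph.connected_iff _).2 ⟨fun p q => ?_, ?_⟩
  · obtain ⟨_, x, hx, rfl⟩ := p
    obtain ⟨_, y, hy, rfl⟩ := q
    exact (hc.preconnected ⟨x, hx⟩ ⟨y, hy⟩).map f
  · obtain ⟨x⟩ := hc.nonempty
    exact ⟨f x⟩

theorem LocalGood.of_dIso [Finite G] (h : LocalGood D) (he : DIso D E) : LocalGood E := by
  obtain ⟨e, rfl⟩ := he
  obtain ⟨⟨⟨h2, h3⟩, ⟨d, hd, hcl⟩, hgen⟩, hZ, hc2, hc3, a, ha, b, hb⟩ := h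
  refine ⟨⟨⟨?_, ?_⟩, ⟨e d, ⟨d, hd, rfl⟩, ?_⟩, ?_⟩, ?_, pCore_eq_bot_of_equiv e.symm hc2,
    pCore_eq_bot_of_equiv e.symm hc3, e a, ⟨a, ha, rfl⟩, e b, image_perp e a ▸ ⟨b, hb, rfl⟩⟩
  · rintro _ ⟨x, hx, rfl⟩
    rw [MulEquiv.orderOf_eq e]
    exact h2 x hx
  · rintro _ ⟨x, hx, rfl⟩ _ ⟨y, hy, rfl⟩
    rw [← map_mul, ← map_pow, ← map_pow]
    exact (h3 x hx y hy).imp (fun hh => by rw [hh, map_one]) (fun hh => by rw [hh, map_one])
  · ext y
    constructor
    · rintro ⟨x, hx, rfl⟩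
      rw [hcl] at hx
      exact MonoidHom.map_isConj e.toMonoidHom hx
    · intro hy
      refine ⟨e.symm y, ?_, e.apply_symm_apply y⟩
      rw [hcl]
      show IsConj d (e.symm y)
      simpa using MonoidHom.map_isConj e.symm.toMonoidHom hy
  · have := MonoidHom.map_closure e.toMonoidHom D
    rw [hgen, Subgroup.map_top_of_surjective _ e.surjective] at this
    exact this.symm
  · rw [eq_bot_iff]
    intro z hz
    have h1 : e.symm z ∈ Subgroup.center G := Subgroup.mem_center_iff.2 fun g => by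
      have := congrArg e.symm (Subgroup.mem_center_iff.1 hz (e g))
      simpa using this
    rw [hZ, Subgroup.mem_bot] at h1
    rw [Subgroup.mem_bot, ← e.apply_symm_apply z, h1, map_one]

/-- The arithmetical conditions, as a test. -/
def srgOK (k l μ : ℕ) : Bool :=
  let n : ℕ := 1 + k + k * (k - 1 - l) / μ
  let num : ℤ := 2 * (k : ℤ) + ((n : ℤ) - 1) * ((l : ℤ) - μ)
  let s : ℕ := Nat.sqrt (((l : ℤ) - μ) ^ 2 + 4 * ((k : ℤ) - μ)).toNat
  decide (μ ∣ k * (k - 1 - l)) && (decide (num = 0) ||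
    (decide ((s : ℤ) ^ 2 = ((l : ℤ) - μ) ^ 2 + 4 * ((k : ℤ) - μ)) && decide ((s : ℤ) ∣ num)))

theorem srgOK_of [Finite G] (h : Generic D) {d a c : G} (hd : d ∈ D) (ha : a ∈ perp D d) (hc : c ∈ D)
    (hdc : ¬ Commute d c) {k l : ℕ} (hk : (perp D d).ncard = k) (hl : (perp D d ∩ perp D a).ncard = l) :
    0 < (perp D d ∩ perp D c).ncard ∧ (perp D d ∩ perp D c).ncard ≤ k ∧
      srgOK k l (perp D d ∩ perp D c).ncard = true := by
  obtain ⟨h0, hle, hdvd, hn, hor⟩ := srg G D h d hd a ha c hc hdc k l _ hk.symm hl.symm rfl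
  refine ⟨h0, hle, ?_⟩
  unfold srgOK
  simp only [Bool.and_eq_true, Bool.or_eq_true, decide_eq_true_eq]
  refine ⟨hdvd, ?_⟩
  rw [← hn]
  rcases hor with h1 | ⟨s, -, hs, hsd⟩
  · exact Or.inl h1
  · refine Or.inr ?_
    rw [← hs, show ((s : ℤ) ^ 2).toNat = s ^ 2 by rw [← Nat.cast_pow, Int.toNat_natCast], Nat.sqrt_eq']
    exact ⟨rfl, hsd⟩

theorem inter_closed (hD : IsThreeTranspositionGroup D) (d c : G) :
    ∀ a ∈ perp D d ∩ perp D c, ∀ b ∈ perp D d ∩ perp D c, a * b * a ∈ perp D d ∩ perp D c := by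
  intro a ha b hb
  have h1 := conj_mem_perp hD (g := a) ha.1.2.2.symm hb.1
  have h2 := conj_mem_perp hD (g := a) ha.2.2.2.symm hb.2
  rw [inv_eq hD.1 ha.1.1] at h1 h2
  exact ⟨h1, h2⟩

theorem comp_eq_of_mem {M : Set G} {a b : G} (hb : b ∈ comp M a) : comp M b = comp M a := by
  have : Std.Symm (MStep M) := ⟨fun _ _ h => ⟨h.2.1, h.1, h.2.2.symm⟩⟩
  ext z
  exact ⟨fun hz => ⟨hz.1, hb.2.trans hz.2⟩,
    fun hz => ⟨hz.1, (Relation.ReflTransGen.stdSymm.symm _ _ hb.2).trans hz.2⟩⟩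

/-- A set all of whose components have `N` members. -/
theorem ncard_eq_mul_of_comp [Finite G] (M : Set G) (N : ℕ) (hN : ∀ a ∈ M, (comp M a).ncard = N) :
    M.ncard = ((fun a => comp M a) '' M).ncard * N := by
  classical
  haveI := Fintype.ofFinite G
  rw [Set.ncard_eq_toFinset_card' M, Set.ncard_eq_toFinset_card', Set.toFinset_image,
    Finset.card_eq_sum_card_image (fun a => comp M a) M.toFinset, Finset.sum_eq_card_nsmul (b := N),
    smul_eq_mul]
  intro Δ hΔ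
  obtain ⟨a, ha, rfl⟩ := Finset.mem_image.1 hΔ
  rw [Set.mem_toFinset] at ha
  rw [← hN a ha, Set.ncard_eq_toFinset_card']
  congr 1
  ext z
  simp only [Finset.mem_filter, Set.mem_toFinset]
  refine ⟨fun hz => hz.2 ▸ ⟨hz.1, Relation.ReflTransGen.refl⟩, fun hz => ⟨hz.1, comp_eq_of_mem hz⟩⟩

theorem ncard_comps_pos [Finite G] {M : Set G} {a : G} (ha : a ∈ M) :
    0 < ((fun a => comp M a) '' M).ncard :=
  (Set.ncard_pos (Set.toFinite _)).2 ⟨_, a, ha, rfl⟩

theorem eq_comp_of_one [Finite G] {M : Set G} {a : G} (ha : a ∈ M)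
    (h1 : ((fun a => comp M a) '' M).ncard = 1) : comp M a = M := by
  obtain ⟨Δ, hΔ⟩ := Set.ncard_eq_one.1 h1
  ext z
  refine ⟨fun hz => hz.1, fun hz => ?_⟩
  have e1 : comp M z = Δ := hΔ.subset ⟨z, hz, rfl⟩
  have e2 : comp M a = Δ := hΔ.subset ⟨a, ha, rfl⟩
  rw [e2, ← e1]
  exact ⟨hz, Relation.ReflTransGen.refl⟩

/-- The sets of partners inside a neighbourhood and in its image. -/
theorem ncard_perp_sImg [Finite G] (h : Generic D) {d a : G} (hd : d ∈ D) (ha : a ∈ perp D d) :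
    (perp D d ∩ perp D a).ncard = (perp (sImg (perp D d)) (sMk (perp D d) ha)).ncard := by
  have hS := h.sNoCentral hd
  have hsub := perp_subset D d
  refine Set.ncard_congr (fun x hx => sMk (perp D d) hx.1)
    (fun x hx => ⟨sMk_mem_sImg hx.1, fun he => hx.2.2.1 (sMk_inj h.cls.1 hsub hS hx.1 ha he),
      (commute_sMk_iff h.cls.1 hsub ha hx.1).2 hx.2.2.2⟩)
    (fun x y hx hy he => sMk_inj h.cls.1 hsub hS hx.1 hy.1 he) fun q hq => ?_
  obtain ⟨x, hx, rfl⟩ := exists_sMk hq.1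
  exact ⟨x, ⟨hx, hx.1, fun he => hq.2.1 (by subst he; rfl), (commute_sMk_iff h.cls.1 hsub ha hx).1 hq.2.2⟩, rfl⟩

/-- The unitary model of the neighbourhood. -/
theorem exists_perpModel' [Finite G] (h : IsThreeTranspositionGroup D) {d : G} (hnc : NoCentralPerp D d)
    {F : Type} [Field F] [Fintype F] (hF : Fintype.card F = 4) (e : PerpQuot D d ≃* PSU 6 F 2) :
    Nonempty (PerpModel D d) := by
  obtain ⟨hs, hdvd⟩ := psu62Facts F hF
  have := hs
  have : Nontrivial (PerpQuot D d) := e.toEquiv.nontrivial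
  have : IsSimpleGroup (PerpQuot D d) :=
    IsSimpleGroup.isSimpleGroup_of_surjective e.symm.toMonoidHom e.symm.surjective
  have hN : Nice (PerpQuot D d) (img D d) :=
    nice_of_simple (isThreeTranspositionGroup_img h d) (Nat.card_congr e.toEquiv ▸ hdvd)
  obtain ⟨C, hC, φ, hφ, hφk⟩ := exists_model F hF
  let θ : suG C I6 →* PerpQuot D d := e.symm.toMonoidHom.comp φ
  have hθ : Function.Surjective θ := e.symm.surjective.comp hφ
  have hker : θ.ker = Subgroup.center (suG C I6) := by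
    rw [← hφk]; ext x; simp [θ, MonoidHom.mem_ker]
  have hsub : ∀ p ∈ img D d, ∃ v, herm C v v = 0 ∧ v ≠ 0 ∧ p = θ (tv C v) := by
    intro p hp
    obtain ⟨k, rfl⟩ := hθ p
    have hp2 : θ k * θ k = 1 := mul_self hN.isGroup.1 hp
    obtain ⟨k', hk', hkk⟩ := exists_involution_lift C hC (g := k)
      (hker ▸ (show θ (k * k) = 1 by rw [map_mul, hp2]))
    rw [← hker, MonoidHom.mem_ker, map_mul, map_inv, inv_mul_eq_one] at hkk
    rw [hkk] at hp ⊢
    have hne : k' ≠ 1 := fun h1 => ne_one hN.isGroup.1 hp (by rw [h1, map_one])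
    obtain ⟨v, hv, hv0, rfl⟩ := exists_tv_of_threeTransposition C hC θ hker hk' hne fun m => by
      rw [map_mul, map_mul, map_mul, map_inv]
      exact hN.isGroup.1.2 _ hp _ (hN.isGroup.2.1 _ _ hp)
    exact ⟨v, hv, hv0, rfl⟩
  refine ⟨⟨F, C, hC, θ, hθ, hker, fun p => ⟨hsub p, ?_⟩, h,
    hnc, hN.noTwins⟩⟩
  rintro ⟨v, hv, hv0, rfl⟩
  obtain ⟨p, hp⟩ : (img D d).Nonempty := by
    by_contra hne
    rw [Set.not_nonempty_iff_eq_empty] at hne
    have h1 := hN.isGroup.2.2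
    rw [hne, Subgroup.closure_empty] at h1
    exact bot_ne_top h1
  obtain ⟨u, hu, hu0, rfl⟩ := hsub p hp
  obtain ⟨a, ha⟩ := exists_map_eq C hu hu0
  obtain ⟨b, hb⟩ := exists_map_eq C hv hv0
  have hv' : v = app C (b⁻¹ * a) u := by rw [app_mul, ha, ← hb, app_inv_app]
  rw [hv', ← conj_tv C hC _ hu, map_mul, map_mul, map_inv]
  exact hN.isGroup.2.1 _ _ hp

end CfsgLib.FischerThm
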