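import Cfsg.Agent.FischerThm.Basic
import Cfsg.Agent.FischerThm.Targets

/-!
# Components of closed sets with good neighbourhoods
-/

set_option autoImplicit false

universe u v

namespace CfsgLib.FischerThm

open Cfsg CfsgLib.FischerTypes

variable {G : Type u} [Group G] {D S M : Set G}

theorem conj_mem_of_mem_closure (hD : IsThreeTranspositionSet D) (hSD : S ⊆ D)
    (hcl : ∀ a ∈ S, ∀ b ∈ S, a * b * a ∈ S) {g : G} (hg : g ∈ Subgroup.closure S) :
    ∀ z ∈ S, g * z * g⁻¹ ∈ S := by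
  induction hg using Subgroup.closure_induction'' with
  | one => intro z hz; simpa using hz
  | mem s hs => intro z hz; rw [inv_eq hD (hSD hs)]; exact hcl s hs z hz
  | inv_mem s hs => intro z hz; rw [inv_inv, inv_eq hD (hSD hs)]; exact hcl s hs z hz
  | mul a b _ _ iha ihb =>
    intro z hz
    rw [show a * b * z * (a * b)⁻¹ = a * (b * z * b⁻¹) * a⁻¹ by group]
    exact iha _ (ihb z hz)

theorem center_sQuot_eq_bot (hD : IsThreeTranspositionSet D) (hSD : S ⊆ D) (hS : SNoCentral S)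
    (hcl : ∀ a ∈ S, ∀ b ∈ S, a * b * a ∈ S) : Subgroup.center (SQuot S) = ⊥ := by
  rw [eq_bot_iff]
  intro q hq
  obtain ⟨g, rfl⟩ := QuotientGroup.mk_surjective q
  rw [Subgroup.mem_bot, QuotientGroup.eq_one_iff, Subgroup.mem_center_iff]
  have hgen : Subgroup.closure S ≤ Subgroup.centralizer ({(g : G)} : Set G) := by
    rw [Subgroup.closure_le]
    intro x hx
    have hgx := conj_mem_of_mem_closure hD hSD hcl g.2 x hx
    have he : sMk S hgx = sMk S hx := by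
      have hc := Subgroup.mem_center_iff.1 hq (sMk S hx)
      show (QuotientGroup.mk (g * ⟨x, Subgroup.subset_closure hx⟩ * g⁻¹) : SQuot S) = _
      rw [QuotientGroup.mk_mul, QuotientGroup.mk_mul, QuotientGroup.mk_inv, mul_inv_eq_iff_eq_mul]
      exact hc.symm
    rw [SetLike.mem_coe, Subgroup.mem_centralizer_singleton_iff]
    exact (mul_inv_eq_iff_eq_mul.1 (sMk_inj hD hSD hS hgx hx he)).symm
  exact fun k => Subtype.ext (Subgroup.mem_centralizer_singleton_iff.1 (hgen k.2))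

/-- Good neighbourhoods have no central member. -/
theorem LocalGood.sNoCentral (h : LocalGood (sImg S)) : SNoCentral S := by
  intro x hx
  by_contra hcon
  push Not at hcon
  refine FischerTypes.ne_one h.cls.1 (sMk_mem_sImg hx) ?_
  rw [QuotientGroup.eq_one_iff, Subgroup.mem_center_iff]
  intro k
  have hle : Subgroup.closure S ≤ Subgroup.centralizer ({x} : Set G) :=
    (Subgroup.closure_le _).2 fun z hz => Subgroup.mem_centralizer_singleton_iff.2 (hcon z hz).eq.symm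
  exact Subtype.ext (Subgroup.mem_centralizer_singleton_iff.1 (hle k.2))

/-- Good neighbourhoods are one class under their own group. -/
theorem LocalGood.exists_conj (h : LocalGood (sImg S)) (hD : IsThreeTranspositionSet D) (hSD : S ⊆ D)
    (hcl : ∀ a ∈ S, ∀ b ∈ S, a * b * a ∈ S) {x y : G} (hx : x ∈ S) (hy : y ∈ S) :
    ∃ g ∈ Subgroup.closure S, g * x * g⁻¹ = y := by
  obtain ⟨q, hq⟩ := Transpositions.exists_conj_of_class h.cls (sMk_mem_sImg hx) (sMk_mem_sImg hy)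
  obtain ⟨g, rfl⟩ := QuotientGroup.mk_surjective q
  exact ⟨g, g.2, sMk_inj hD hSD h.sNoCentral (conj_mem_of_mem_closure hD hSD hcl g.2 x hx) hy hq⟩

theorem pCore_eq_bot_of_equiv {H : Type u} [Group H] {K : Type v} [Group K] {p : ℕ} (e : H ≃* K)
    (h : pCore p K = ⊥) : pCore p H = ⊥ := by
  have := (PLocal.isPGroup_pCore p H).map e.toMonoidHom
  have hn : ((pCore p H).map e.toMonoidHom).Normal := Subgroup.Normal.map inferInstance _ e.surjective
  have hle := PLocal.le_pCore this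
  rw [h, le_bot_iff, Subgroup.map_eq_bot_iff_of_injective _ e.injective] at hle
  exact hle

/-- Trivial cores modulo the centre are central cores. -/
theorem pCore_le_center_of_quotient {H : Type u} [Group H] {p : ℕ}
    (h : pCore p (H ⧸ Subgroup.center H) = ⊥) : pCore p H ≤ Subgroup.center H := by
  intro x hx
  have := (PLocal.isPGroup_pCore p H).map (QuotientGroup.mk' (Subgroup.center H))
  have hn : ((pCore p H).map (QuotientGroup.mk' (Subgroup.center H))).Normal :=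
    Subgroup.Normal.map inferInstance _ (QuotientGroup.mk'_surjective _)
  have hle := PLocal.le_pCore this
  rw [h] at hle
  exact (QuotientGroup.eq_one_iff x).1 (Subgroup.mem_bot.1 (hle ⟨x, hx, rfl⟩))

/-- Closure of a component. -/
theorem comp_closed (hD : IsThreeTranspositionGroup D) (hM : M ⊆ D) (hcl : ∀ a ∈ M, ∀ b ∈ M, a * b * a ∈ M)
    {a : G} : ∀ x ∈ comp M a, ∀ y ∈ comp M a, x * y * x ∈ comp M a := by
  intro x hx y hy
  refine ⟨hcl x hx.1 y hy.1, hx.2.trans ?_⟩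
  have hxx : x * x * x = x := by rw [mul_self hD.1 (hM hx.1), one_mul]
  have : Relation.ReflTransGen (MStep M) (x * x * x) (x * y * x) := by
    have : Std.Symm (MStep M) := ⟨fun _ _ h => ⟨h.2.1, h.1, h.2.2.symm⟩⟩
    have hxy : Relation.ReflTransGen (MStep M) x y := (Relation.ReflTransGen.stdSymm.symm _ _ hx.2).trans hy.2
    have hstep : ∀ s t, MStep M s t → MStep M (x * s * x) (x * t * x) := fun s t hst =>
      ⟨hcl x hx.1 s hst.1, hcl x hx.1 t hst.2.1, by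
        have := (commute_conj_iff' x s t).2 hst.2.2
        rwa [inv_eq hD.1 (hM hx.1)] at this⟩
    exact Relation.ReflTransGen.lift (fun t => x * t * x) hstep _ _ hxy
  rwa [hxx] at this

variable [Finite G]

/-- The neighbourhood in a component is that in `M`. -/
theorem comp_inter_perp {a b : G} (hb : b ∈ comp M a) : comp M a ∩ perp D b = M ∩ perp D b :=
  Set.Subset.antisymm (fun _ hz => ⟨hz.1.1, hz.2⟩)
    fun z hz => ⟨⟨hz.1, hb.2.tail ⟨hb.1, hz.1, hz.2.2.2⟩⟩, hz.2⟩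

theorem inter_perp_closed (hD : IsThreeTranspositionGroup D) (hcl : ∀ a ∈ M, ∀ b ∈ M, a * b * a ∈ M) (b : G) :
    ∀ x ∈ M ∩ perp D b, ∀ y ∈ M ∩ perp D b, x * y * x ∈ M ∩ perp D b := by
  intro x hx y hy
  refine ⟨hcl x hx.1 y hy.1, ?_⟩
  have := conj_mem_perp hD (g := x) hx.2.2.2.symm hy.2
  rwa [inv_eq hD.1 hx.2.1] at this

/-- Good neighbourhoods make the cores central. -/
theorem cores_of_locals (hD : IsThreeTranspositionGroup D) {Δ : Set G} (hΔD : Δ ⊆ D)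
    (hΔcl : ∀ x ∈ Δ, ∀ y ∈ Δ, x * y * x ∈ Δ) (hnc : SNoCentral Δ)
    (hgood : ∀ b ∈ Δ, LocalGood (sImg (Δ ∩ perp D b))) {a : G} (haΔ : a ∈ Δ)
    (hcls : IsThreeTranspositionClass (sImg Δ)) :
    pCore 2 (SQuot Δ) ≤ Subgroup.center _ ∧ pCore 3 (SQuot Δ) ≤ Subgroup.center _ := by
  have hPD : ∀ b, Δ ∩ perp D b ⊆ D := fun b x hx => hΔD hx.1
  have key : ∀ {x z : G} (hx : x ∈ Δ) (hz : z ∈ Δ), sMk Δ hx ∈ perp (sImg Δ) (sMk Δ hz) ↔ x ∈ perp D z := by
    intro x z hx hz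
    constructor
    · exact fun hh => ⟨hΔD hx, fun hxz => hh.2.1 (by subst hxz; rfl),
        (commute_sMk_iff hD.1 hΔD hz hx).1 hh.2.2⟩
    · exact fun hh => ⟨sMk_mem_sImg hx, fun he => hh.2.1 (sMk_inj hD.1 hΔD hnc hx hz he),
        (commute_sMk_iff hD.1 hΔD hz hx).2 hh.2.2⟩
  have h2 : pCore 2 (SQuot Δ) ≤ Subgroup.center _ := by
    by_contra hcon
    obtain ⟨v, hv, hvne⟩ := Transpositions.exists_vRel_of_not_central hcls hcon _ (sMk_mem_sImg haΔ)
    obtain ⟨x, hx, rfl⟩ := exists_sMk hv.1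
    have hxa : Commute a x := (commute_sMk_iff hD.1 hΔD haΔ hx).1 hv.commute
    have hxP : x ∈ Δ ∩ perp D a := ⟨hx, hΔD hx, fun he => hvne (by subst he; rfl), hxa⟩
    obtain ⟨z, hz, hxz⟩ := (hgood a haΔ).sNoCentral x hxP
    have hzΔ := hz.1
    exact hxz ((commute_sMk_iff hD.1 hΔD hx hzΔ).1 ((hv.2 _ (sMk_mem_sImg hzΔ)).2
      ((commute_sMk_iff hD.1 hΔD haΔ hzΔ).2 hz.2.2.2)))
  have h3 : pCore 3 (SQuot Δ) ≤ Subgroup.center _ := by
    by_contra hcon
    obtain ⟨v, hv, hvne⟩ := Transpositions.exists_wRel_of_not_central hcls hcon _ (sMk_mem_sImg haΔ)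
    obtain ⟨w, hw, rfl⟩ := exists_sMk hv.1
    have hperp : perp (sImg Δ) (sMk Δ haΔ) = perp (sImg Δ) (sMk Δ hw) := hv.2
    obtain ⟨q, hq, -⟩ := (hgood a haΔ).pair
    obtain ⟨y, hy, rfl⟩ := exists_sMk hq
    have hyΔ := hy.1
    have hyw : y ∈ perp D w := (key hyΔ hw).1 (hperp ▸ (key hyΔ haΔ).2 hy.2)
    have haP : a ∈ Δ ∩ perp D y := ⟨haΔ, perp_symm' (hΔD haΔ) hy.2⟩
    have hwP : w ∈ Δ ∩ perp D y := ⟨hw, perp_symm' (hΔD hw) hyw⟩
    have hg := hgood y hyΔ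
    have hinj := fun {s t : G} (hs : s ∈ Δ ∩ perp D y) (ht : t ∈ Δ ∩ perp D y) =>
      sMk_inj hD.1 (hPD y) hg.sNoCentral hs ht
    have hW : Transpositions.WRel (sImg (Δ ∩ perp D y)) (sMk _ haP) (sMk _ hwP) := by
      refine ⟨sMk_mem_sImg hwP, Set.ext fun r => ?_⟩
      constructor <;> intro hr
      · obtain ⟨z, hz, rfl⟩ := exists_sMk hr.1
        have hzΔ := hz.1
        have h1 : z ∈ perp D a := ⟨hz.2.1, fun he => hr.2.1 (by subst he; rfl),
          (commute_sMk_iff hD.1 (hPD y) haP hz).1 hr.2.2⟩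
        have h2' : z ∈ perp D w := (key hzΔ hw).1 (hperp ▸ (key hzΔ haΔ).2 h1)
        exact ⟨sMk_mem_sImg hz, fun he => h2'.2.1 (hinj hz hwP he),
          (commute_sMk_iff hD.1 (hPD y) hwP hz).2 h2'.2.2⟩
      · obtain ⟨z, hz, rfl⟩ := exists_sMk hr.1
        have hzΔ := hz.1
        have h1 : z ∈ perp D w := ⟨hz.2.1, fun he => hr.2.1 (by subst he; rfl),
          (commute_sMk_iff hD.1 (hPD y) hwP hz).1 hr.2.2⟩
        have h2' : z ∈ perp D a := (key hzΔ haΔ).1 (hperp.symm ▸ (key hzΔ hw).2 h1)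
        exact ⟨sMk_mem_sImg hz, fun he => h2'.2.1 (hinj hz haP he),
          (commute_sMk_iff hD.1 (hPD y) haP hz).2 h2'.2.2⟩
    have heq := Transpositions.eq_of_wRel_of_central hg.cls (hg.coreThree.le.trans bot_le) (sMk_mem_sImg haP) hW
    have haw : w = a := hinj hwP haP heq
    exact hvne (by subst haw; rfl)
  exact ⟨h2, h3⟩

theorem component_aux (hD : IsThreeTranspositionGroup D) (hM : M ⊆ D)
    (hcl : ∀ a ∈ M, ∀ b ∈ M, a * b * a ∈ M) (hgood : ∀ a ∈ M, LocalGood (sImg (M ∩ perp D a)))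
    {a : G} (ha : a ∈ M) :
    Generic (sImg (comp M a)) ∧ (sImg (comp M a)).ncard = (comp M a).ncard ∧
      ∀ q ∈ sImg (comp M a), ∃ b ∈ comp M a,
        DIso (sImg (perp (sImg (comp M a)) q)) (sImg (M ∩ perp D b)) := by
  set Δ := comp M a with hΔdef
  have hΔM : Δ ⊆ M := fun x hx => hx.1
  have hΔD : Δ ⊆ D := hΔM.trans hM
  have hΔcl := comp_closed hD hM hcl (a := a)
  have hPD : ∀ b, M ∩ perp D b ⊆ D := fun b x hx => hM hx.1
  have hPΔ : ∀ b ∈ Δ, M ∩ perp D b ⊆ Δ := fun b hb => by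
    rw [← comp_inter_perp hb]; exact Set.inter_subset_left
  have hPcl := inter_perp_closed hD hcl
  have haΔ : a ∈ Δ := ⟨ha, Relation.ReflTransGen.refl⟩
  have hnc : SNoCentral Δ := by
    intro x hx
    obtain ⟨q, hq, -⟩ := (hgood x hx.1).pair
    obtain ⟨y, hy, rfl⟩ := exists_sMk hq
    have hyΔ : y ∈ Δ := hPΔ x hx hy
    have hxy : x ∈ M ∩ perp D y := ⟨hx.1, perp_symm' (hM hx.1) hy.2⟩
    obtain ⟨z, hz, hxz⟩ := (hgood y hy.1).sNoCentral x hxy
    exact ⟨z, hPΔ y hyΔ hz, hxz⟩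
  -- one class
  have hstep : ∀ x ∈ Δ, ∀ z ∈ Δ, ¬ Commute x z → ∃ g ∈ Subgroup.closure Δ, g * x * g⁻¹ = z := by
    intro x hx z hz hxz
    refine ⟨x * z, mul_mem (Subgroup.subset_closure hx) (Subgroup.subset_closure hz), ?_⟩
    have hxD := hΔD hx
    have hzD := hΔD hz
    rw [mul_inv_rev, inv_eq hD.1 hxD, inv_eq hD.1 hzD]
    rcases hD.1.2 x hxD z hzD with h2 | h3
    · exfalso
      rw [sq, mul_eq_one_iff_eq_inv, mul_inv_rev, inv_eq hD.1 hxD, inv_eq hD.1 hzD] at h2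
      exact hxz h2
    · calc x * z * x * (z * x) = (x * z) ^ 3 * z := by
            simp [pow_succ, mul_assoc, mul_self hD.1 hzD]
        _ = z := by rw [h3, one_mul]
  let R : G → G → Prop := fun x y => ∃ g ∈ Subgroup.closure Δ, g * x * g⁻¹ = y
  have Rtrans : ∀ {x y z : G}, R x y → R y z → R x z := by
    rintro x y z ⟨g, hg, rfl⟩ ⟨k, hk, rfl⟩
    exact ⟨k * g, mul_mem hk hg, by group⟩
  have Rsymm : ∀ {x y : G}, R x y → R y x := by
    rintro x y ⟨g, hg, rfl⟩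
    exact ⟨g⁻¹, inv_mem hg, by group⟩
  have hlocR : ∀ b ∈ Δ, ∀ x ∈ M ∩ perp D b, ∀ y ∈ M ∩ perp D b, R x y := by
    intro b hb x hx y hy
    obtain ⟨g, hg, he⟩ := (hgood b hb.1).exists_conj hD.1 (hPD b) (hPcl b) hx hy
    exact ⟨g, Subgroup.closure_mono (hPΔ b hb) hg, he⟩
  have hadj : ∀ x ∈ Δ, ∀ y ∈ Δ, Commute x y → R x y := by
    intro x hx y hy hxy
    by_cases hne : x = y
    · subst hne; exact ⟨1, one_mem _, by group⟩
    have hxPy : x ∈ M ∩ perp D y := ⟨hx.1, hΔD hx, hne, hxy.symm⟩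
    have hyPx : y ∈ M ∩ perp D x := ⟨hy.1, hΔD hy, Ne.symm hne, hxy⟩
    obtain ⟨q, hq, r, hr⟩ := (hgood y hy.1).pair
    obtain ⟨w, hw, rfl⟩ := exists_sMk hq
    obtain ⟨v, hv, rfl⟩ := exists_sMk hr.1
    have hwΔ : w ∈ Δ := hPΔ y hy hw
    have hyPw : y ∈ M ∩ perp D w := ⟨hy.1, perp_symm' (hΔD hy) hw.2⟩
    have hvPw : v ∈ M ∩ perp D w := ⟨hv.1, hv.2.1, fun he => hr.2.1 (by subst he; rfl),
      (commute_sMk_iff hD.1 (hPD y) hw hv).1 hr.2.2⟩
    exact Rtrans (hlocR y hy x hxPy v hv) (Rsymm (hlocR w hwΔ y hyPw v hvPw))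
  have hclass : ∀ x ∈ Δ, R a x := by
    intro x hx
    have h0 := hx.2
    induction h0 with
    | refl => exact ⟨1, one_mem _, by group⟩
    | @tail s t hst h1 ih =>
      have hs : s ∈ Δ := ⟨h1.1, hst⟩
      exact Rtrans (ih hs) (hadj s hs t hx h1.2.2)
  have hG' := isThreeTranspositionGroup_sImg hD.1 hΔD hnc hΔcl
  have hcls : IsThreeTranspositionClass (sImg Δ) := by
    refine ⟨hG'.1, ⟨sMk _ haΔ, sMk_mem_sImg haΔ, Set.Subset.antisymm (fun q hq => ?_) (fun q hq => ?_)⟩, hG'.2.2⟩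
    · obtain ⟨b, hb, rfl⟩ := exists_sMk hq
      obtain ⟨g, hg, rfl⟩ := hclass b hb
      exact isConj_iff.2 ⟨QuotientGroup.mk ⟨g, hg⟩, rfl⟩
    · obtain ⟨c, rfl⟩ := isConj_iff.1 hq
      exact hG'.2.1 c _ (sMk_mem_sImg haΔ)
  have hZ := center_sQuot_eq_bot hD.1 hΔD hnc hΔcl
  have key : ∀ {x z : G} (hx : x ∈ Δ) (hz : z ∈ Δ), sMk Δ hx ∈ perp (sImg Δ) (sMk Δ hz) ↔ x ∈ perp D z := by
    intro x z hx hz
    constructor
    · exact fun hh => ⟨hΔD hx, fun hxz => hh.2.1 (by subst hxz; rfl),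
        (commute_sMk_iff hD.1 hΔD hz hx).1 hh.2.2⟩
    · exact fun hh => ⟨sMk_mem_sImg hx, fun he => hh.2.1 (sMk_inj hD.1 hΔD hnc hx hz he),
        (commute_sMk_iff hD.1 hΔD hz hx).2 hh.2.2⟩
  have hpair : ∃ q ∈ sImg Δ, (perp (sImg Δ) q).Nonempty := by
    obtain ⟨q, hq, -⟩ := (hgood a ha).pair
    obtain ⟨y, hy, rfl⟩ := exists_sMk hq
    exact ⟨_, sMk_mem_sImg haΔ, _, (key (hPΔ a haΔ hy) haΔ).2 hy.2⟩
  have hne2 : ∃ p ∈ sImg Δ, ∃ q ∈ sImg Δ, p ≠ q := by
    obtain ⟨q, hq, r, hr⟩ := hpair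
    exact ⟨q, hq, r, hr.1, hr.2.1.symm⟩
  obtain ⟨h2, h3⟩ := cores_of_locals hD hΔD hΔcl hnc
    (fun b hb => by rw [comp_inter_perp hb]; exact hgood b hb.1) haΔ hcls
  have hconn : (commutingGraph (sImg Δ)).Connected := by
    have hreach : ∀ x, ∀ hx : x ∈ Δ, (commutingGraph (sImg Δ)).Reachable
        ⟨sMk _ haΔ, sMk_mem_sImg haΔ⟩ ⟨sMk _ hx, sMk_mem_sImg hx⟩ := by
      intro x hx
      have h0 := hx.2
      induction h0 with
      | refl => exact SimpleGraph.Reachable.refl _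
      | @tail s t hst h1 ih =>
        have hs : s ∈ Δ := ⟨h1.1, hst⟩
        refine (ih hs).trans ?_
        by_cases hts : s = t
        · subst hts; exact SimpleGraph.Reachable.refl _
        refine SimpleGraph.Adj.reachable ?_
        exact (SimpleGraph.fromRel_adj _ _ _).2 ⟨fun he => hts (sMk_inj hD.1 hΔD hnc hs hx (congrArg Subtype.val he)),
          Or.inl ((commute_sMk_iff hD.1 hΔD hs hx).2 h1.2.2)⟩
    refine (SimpleGraph.connected_iff _).2 ⟨fun p q => ?_, ⟨⟨_, sMk_mem_sImg haΔ⟩⟩⟩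
    obtain ⟨p, hp⟩ := p
    obtain ⟨q, hq⟩ := q
    obtain ⟨x, hx, rfl⟩ := exists_sMk hp
    obtain ⟨y, hy, rfl⟩ := exists_sMk hq
    exact (hreach x hx).symm.trans (hreach y hy)
  have hprim := Transpositions.primitive_of_cores hcls hne2 h2 h3 hconn
  have hsimple : IsSimpleGroup (commutator (SQuot Δ)) := by
    obtain ⟨q, hq, r, hr⟩ := hpair
    exact Transpositions.isSimpleGroup_commutator_of_primitive hG' hprim ⟨q, hq, r, hr.1, hr.2.1.symm, hr.2.2⟩ hZ
  have hloc : ∀ q ∈ sImg Δ, ∃ b ∈ Δ, DIso (sImg (perp (sImg Δ) q)) (sImg (M ∩ perp D b)) := by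
    intro q hq
    obtain ⟨b, hb, rfl⟩ := exists_sMk hq
    refine ⟨b, hb, ?_⟩
    have h1 := dIso_sImg_image (S := M ∩ perp D b) hD.1 hΔD hnc hΔcl (hPΔ b hb)
    have himg : (QuotientGroup.mk : ↥(Subgroup.closure Δ) → SQuot Δ) '' {x | (x : G) ∈ M ∩ perp D b} =
        perp (sImg Δ) (sMk Δ hb) := by
      ext r
      constructor
      · rintro ⟨⟨x, hxc⟩, hx, rfl⟩
        exact (key (hPΔ b hb hx) hb).2 hx.2
      · intro hr
        obtain ⟨x, hx, rfl⟩ := exists_sMk hr.1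
        exact ⟨⟨x, Subgroup.subset_closure hx⟩, ⟨hx.1, (key hx hb).1 hr⟩, rfl⟩
    rw [himg] at h1
    exact h1.symm
  refine ⟨⟨hcls, hZ, hsimple, hpair, fun q hq => ?_, fun q hq => ?_⟩, ncard_sImg hD.1 hΔD hnc, hloc⟩
  · obtain ⟨b, hb, e, -⟩ := hloc q hq
    exact pCore_le_center_of_quotient (pCore_eq_bot_of_equiv e (hgood b hb.1).coreTwo)
  · obtain ⟨b, hb, e, -⟩ := hloc q hq
    exact pCore_le_center_of_quotient (pCore_eq_bot_of_equiv e (hgood b hb.1).coreThree)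

theorem component : Component.{u} := fun _ _ _ _ hD _ hM hcl hgood _ ha => component_aux hD hM hcl hgood ha

end CfsgLib.FischerThm
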