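import Cfsg.Agent.FischerTypes.Local
import Cfsg.Prelude.Def_Solvable

/-!
# Fischer's theorem: vocabulary

`SQuot S` is the subgroup generated by a set of members modulo its centre, with `sImg S` the image of `S`.
`Generic D` is the case of central cores in `⟨D_d⟩`; `LocalGood` is what is asked of a neighbourhood.
The model systems are the classes named in the classification; reflection groups over the field with three
elements use the diagonal form with all coefficients `1` except the first, which is `s`.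
-/

set_option autoImplicit false
open scoped MatrixGroups

universe u v

namespace CfsgLib.FischerThm

open Cfsg CfsgLib.FischerTypes

variable {G : Type u} [Group G]

/-- The subgroup generated by `S`, modulo its centre. -/
abbrev SQuot (S : Set G) : Type u :=
  ↥(Subgroup.closure S) ⧸ Subgroup.center ↥(Subgroup.closure S)

/-- The image of `S` in `SQuot S`. -/
def sImg (S : Set G) : Set (SQuot S) :=
  (QuotientGroup.mk : ↥(Subgroup.closure S) → SQuot S) '' {x | (x : G) ∈ S}

/-- An isomorphism of groups carrying one set onto the other. -/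
def DIso {H : Type v} [Group H] (D : Set G) (E : Set H) : Prop :=
  ∃ e : G ≃* H, e '' D = E

/-- A centreless class of 3-transpositions with trivial cores and two commuting members. -/
structure LocalGood (D : Set G) : Prop where
  cls : IsThreeTranspositionClass D
  center : Subgroup.center G = ⊥
  coreTwo : pCore 2 G = ⊥
  coreThree : pCore 3 G = ⊥
  pair : ∃ d ∈ D, (perp D d).Nonempty

/-- The case of Fischer's theorem in which the cores of `⟨D_d⟩` are central. -/
structure Generic (D : Set G) : Prop where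
  cls : IsThreeTranspositionClass D
  center : Subgroup.center G = ⊥
  simple : IsSimpleGroup (commutator G)
  pair : ∃ d ∈ D, (perp D d).Nonempty
  coreTwo : ∀ d ∈ D, pCore 2 ↥(Subgroup.closure (perp D d)) ≤ Subgroup.center _
  coreThree : ∀ d ∈ D, pCore 3 ↥(Subgroup.closure (perp D d)) ≤ Subgroup.center _

theorem DIso.refl (D : Set G) : DIso D D := ⟨MulEquiv.refl G, by simp⟩

theorem DIso.symm {H : Type v} [Group H] {D : Set G} {E : Set H} (h : DIso D E) : DIso E D := by
  obtain ⟨e, rfl⟩ := h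
  exact ⟨e.symm, by simp [Set.image_image]⟩

theorem DIso.trans {H : Type v} [Group H] {K : Type*} [Group K] {D : Set G} {E : Set H} {F : Set K}
    (h : DIso D E) (h' : DIso E F) : DIso D F := by
  obtain ⟨e, rfl⟩ := h
  obtain ⟨f, rfl⟩ := h'
  exact ⟨e.trans f, by simp [Set.image_image]⟩

/-- A commuting step inside `M`. -/
def MStep (M : Set G) (a b : G) : Prop := a ∈ M ∧ b ∈ M ∧ Commute a b

/-- The connected component of `a` in `M` for commuting. -/
def comp (M : Set G) (a : G) : Set G := {b | b ∈ M ∧ Relation.ReflTransGen (MStep M) a b}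

/-! ### Model systems -/

/-- The transpositions. -/
def symD (n : ℕ) : Set (Equiv.Perm (Fin n)) := {σ | σ.IsSwap}

/-- The symplectic transvections. -/
def spD (m : ℕ) : Set (Matrix.symplecticGroup (Fin m) (ZMod 2)) :=
  {g | ((g : Matrix (Fin m ⊕ Fin m) (Fin m ⊕ Fin m) (ZMod 2)) - 1).rank = 1}

/-- The unitary transvections modulo scalars. -/
def uniD (n : ℕ) (F : Type) [Field F] : Set (Cfsg.PSU n F 2) :=
  (QuotientGroup.mk : ↥(Cfsg.SU n F 2) → Cfsg.PSU n F 2) ''
    {g : ↥(Cfsg.SU n F 2) | (((g : Matrix.SpecialLinearGroup (Fin n) F) : Matrix (Fin n) (Fin n) F) - 1).rank = 1}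

/-- The orthogonal transvections of plus type in dimension `2m`. -/
def oPlusD (m : ℕ) : Set ↥(Cfsg.isometryGroup (ZMod 2) (Cfsg.quadFormPlus m (ZMod 2))) :=
  {g | (((g : GL (Fin m ⊕ Fin m) (ZMod 2)) : Matrix (Fin m ⊕ Fin m) (Fin m ⊕ Fin m) (ZMod 2)) - 1).rank = 1}

/-- The orthogonal transvections of minus type in dimension `2m + 2`. -/
def oMinusD (m : ℕ) : Set ↥(Cfsg.isometryGroup (ZMod 2) (Cfsg.quadFormMinus m (ZMod 2) 1 1)) :=
  {g | (((g : GL ((Fin m ⊕ Fin m) ⊕ Fin 2) (ZMod 2)) :
      Matrix ((Fin m ⊕ Fin m) ⊕ Fin 2) ((Fin m ⊕ Fin m) ⊕ Fin 2) (ZMod 2)) - 1).rank = 1}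

/-- The diagonal form with coefficients `s, 1, …, 1`. -/
def stdQ (n : ℕ) (s : ZMod 3) : QuadraticForm (ZMod 3) (Fin n → ZMod 3) :=
  QuadraticMap.weightedSumSquares (ZMod 3) (fun i : Fin n => if i.val = 0 then s else 1)

/-- The group generated by the reflections of norm one of `stdQ n s`, modulo its centre. -/
abbrev ReflGroup (n : ℕ) (s : ZMod 3) : Type :=
  ↥(Cfsg.reflectionSubgroup (⇑(stdQ n s)) 1) ⧸ Subgroup.center ↥(Cfsg.reflectionSubgroup (⇑(stdQ n s)) 1)

/-- The images of those reflections. -/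
def reflD (n : ℕ) (s : ZMod 3) : Set (ReflGroup n s) :=
  (QuotientGroup.mk : ↥(Cfsg.reflectionSubgroup (⇑(stdQ n s)) 1) → ReflGroup n s) ''
    {g : ↥(Cfsg.reflectionSubgroup (⇑(stdQ n s)) 1) |
      (g : ↥(Cfsg.isometryGroup (ZMod 3) (⇑(stdQ n s)))) ∈ Cfsg.reflectionsOfNorm (⇑(stdQ n s)) 1}

/-! ### The systems occurring in the classification -/

/-- Symmetric type. -/
def IsSymT (D : Set G) (n : ℕ) : Prop := DIso D (symD n)

/-- Symplectic type. -/
def IsSpT (D : Set G) (m : ℕ) : Prop := DIso D (spD m)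

/-- Unitary type. -/
def IsUniT (D : Set G) (n : ℕ) : Prop :=
  ∃ (F : Type) (_ : Field F) (_ : Fintype F), Fintype.card F = 4 ∧ DIso D (uniD n F)

/-- Orthogonal plus type. -/
def IsOPlusT (D : Set G) (m : ℕ) : Prop := DIso D (oPlusD m)

/-- Orthogonal minus type. -/
def IsOMinusT (D : Set G) (m : ℕ) : Prop := DIso D (oMinusD m)

/-- Reflection type over the field with three elements. -/
def IsReflT (D : Set G) (n : ℕ) (s : ZMod 3) : Prop := DIso D (reflD n s)

/-- Type M(22), with the common neighbours of a non-commuting pair of type `O⁻₆(3)`. -/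
def IsM22T (D : Set G) : Prop :=
  IsOfTypeM22 G D ∧ ∀ a ∈ D, ∀ b ∈ D, ¬ Commute a b → IsReflT (sImg (perp D a ∩ perp D b)) 6 1

/-- Type M(23), with the common neighbours of a non-commuting pair of type `O₇(3)`. -/
def IsM23T (D : Set G) : Prop :=
  IsOfTypeM23 G D ∧ ∀ a ∈ D, ∀ b ∈ D, ¬ Commute a b → IsReflT (sImg (perp D a ∩ perp D b)) 7 1

/-- Type M(24), with the common neighbours of a non-commuting pair good and disconnected. -/
def IsM24T (D : Set G) : Prop :=
  IsOfTypeM24 G D ∧ ∀ a ∈ D, ∀ b ∈ D, ¬ Commute a b →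
    LocalGood (sImg (perp D a ∩ perp D b)) ∧ ¬ (Cfsg.commutingGraph (sImg (perp D a ∩ perp D b))).Connected

/-- The list. -/
def Known (D : Set G) : Prop :=
  (∃ n, 5 ≤ n ∧ IsSymT D n) ∨ (∃ m, 2 ≤ m ∧ IsSpT D m) ∨ (∃ n, 4 ≤ n ∧ IsUniT D n) ∨
    (∃ m, 3 ≤ m ∧ IsOPlusT D m) ∨ (∃ m, 2 ≤ m ∧ IsOMinusT D m) ∨
      (∃ n s, 5 ≤ n ∧ (s = 1 ∨ s = -1) ∧ IsReflT D n s) ∨ IsM22T D ∨ IsM23T D ∨ IsM24T D

end CfsgLib.FischerThm
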