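import Cfsg.Agent.FischerThm.Orth.Local
import Cfsg.Agent.FischerThm.GoodOrth

/-!
# Fischer's theorem: common neighbours in the orthogonal models over the field with two elements
-/

set_option autoImplicit false

namespace CfsgLib.FischerThm

open Module QuadraticMap CfsgLib.Dickson

/-- The embedding of a minus space into a plus space two dimensions larger. -/
noncomputable def minusInPlus (m : ℕ) :
    ((Fin m ⊕ Fin m) ⊕ Fin 2 → ZMod 2) →ₗ[ZMod 2] (Fin (m + 2) ⊕ Fin (m + 2) → ZMod 2) where
  toFun w := Sum.elim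
    (Fin.snoc (Fin.snoc (fun i => w (.inl (.inl i))) (w (.inr 1)) : Fin (m + 1) → ZMod 2) (w (.inr 0) + w (.inr 1)))
    (Fin.snoc (Fin.snoc (fun i => w (.inl (.inr i))) (w (.inr 1)) : Fin (m + 1) → ZMod 2) (w (.inr 0)))
  map_add' u v := by
    funext j
    rcases j with j | j <;> induction j using Fin.lastCases with
    | last => simp [add_add_add_comm]
    | cast j => induction j using Fin.lastCases <;> simp
  map_smul' r v := by
    funext j
    rcases j with j | j <;> induction j using Fin.lastCases with
    | last => simp [mul_add]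
    | cast j => induction j using Fin.lastCases <;> simp

/-- The embedding of a plus space into a minus space two dimensions larger. -/
noncomputable def plusInMinus (m : ℕ) : (Fin m ⊕ Fin m → ZMod 2) →ₗ[ZMod 2] ((Fin m ⊕ Fin m) ⊕ Fin 2 → ZMod 2) where
  toFun w := Sum.elim w 0
  map_add' u v := by funext j; rcases j with j | j <;> simp
  map_smul' r v := by funext j; rcases j with j | j <;> simp

theorem localOrth : LocalOrth := by
  refine ⟨fun m hm a ha b hb hab => ?_, fun m hm a ha b hb hab => ?_⟩
  · obtain ⟨e, he⟩ := Orth.dIso_mset (plusForm (m + 2) (ZMod 2)) _ (plusForm_coe (m + 2))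
    refine (Orth.local_model (P := minusForm m (ZMod 2) 1 1)
      (x := Sum.elim (Fin.snoc (Fin.snoc 0 1 : Fin (m + 1) → ZMod 2) 0)
        (Fin.snoc (Fin.snoc 0 1 : Fin (m + 1) → ZMod 2) 0))
      (y := Sum.elim (Fin.snoc (Fin.snoc 0 0 : Fin (m + 1) → ZMod 2) 1)
        (Fin.snoc (Fin.snoc 0 1 : Fin (m + 1) → ZMod 2) 1))
      (plusForm_nondegenerate (m + 2))
      (by rw [finrank_fintype_fun_eq_card]; simp; omega) (minusForm_nondegenerate m two_anisotropic)
      (by rw [finrank_fintype_fun_eq_card]; simp; omega)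
      (by rw [finrank_fintype_fun_eq_card, finrank_fintype_fun_eq_card]; simp; omega)
      (minusInPlus m) (fun w => ?_) ?_ ?_ ?_ (fun w => ?_) (fun w => ?_) e he ha hb hab).trans
      (Orth.dIso_mset _ _ (minusForm_coe m 1 1)).symm
    · simp only [plusForm_coe, minusForm_coe, Cfsg.quadFormPlus, Cfsg.quadFormMinus, minusInPlus,
        LinearMap.coe_mk, AddHom.coe_mk, Fin.sum_univ_castSucc]
      simp
      generalize w (.inr 0) = s, w (.inr 1) = t
      revert s t
      generalize ∑ i, w (.inl (.inl i)) * w (.inl (.inr i)) = r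
      revert r
      decide
    · simp [plusForm_coe, Cfsg.quadFormPlus, Fin.sum_univ_castSucc]
    · simp [plusForm_coe, Cfsg.quadFormPlus, Fin.sum_univ_castSucc]
    · simp [polar, plusForm_coe, Cfsg.quadFormPlus, Fin.sum_univ_castSucc]
    · simp [polar, plusForm_coe, Cfsg.quadFormPlus, minusInPlus, Fin.sum_univ_castSucc]
      exact (show ∀ r s t : ZMod 2, r + (1 + t) * (1 + t) + (s + t) * s - 1 - (r + t * t + (s + t) * s) = 0 by
        decide) _ _ _
    · simp [polar, plusForm_coe, Cfsg.quadFormPlus, minusInPlus, Fin.sum_univ_castSucc]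
      exact (show ∀ r s t : ZMod 2, r + t * (1 + t) + (1 + (s + t)) * (1 + s) - 1 - (r + t * t + (s + t) * s) = 0 by
        decide) _ _ _
  · obtain ⟨e, he⟩ := Orth.dIso_mset (minusForm m (ZMod 2) 1 1) _ (minusForm_coe m 1 1)
    refine (Orth.local_model (P := plusForm m (ZMod 2))
      (x := Sum.elim 0 ![1, 0]) (y := Sum.elim 0 ![0, 1])
      (minusForm_nondegenerate m two_anisotropic)
      (by rw [finrank_fintype_fun_eq_card]; simp; omega) (plusForm_nondegenerate m)
      (by rw [finrank_fintype_fun_eq_card]; simp; omega)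
      (by rw [finrank_fintype_fun_eq_card, finrank_fintype_fun_eq_card]; simp)
      (plusInMinus m) (fun w => ?_) ?_ ?_ ?_ (fun w => ?_) (fun w => ?_) e he ha hb hab).trans
      (Orth.dIso_mset _ _ (plusForm_coe m)).symm
    · simp [plusForm_coe, minusForm_coe, Cfsg.quadFormPlus, Cfsg.quadFormMinus, plusInMinus]
    · simp [minusForm_coe, Cfsg.quadFormMinus]
    · simp [minusForm_coe, Cfsg.quadFormMinus]
    · simp [polar, minusForm_coe, Cfsg.quadFormMinus]
    · simp [polar, minusForm_coe, Cfsg.quadFormMinus, plusInMinus]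
    · simp [polar, minusForm_coe, Cfsg.quadFormMinus, plusInMinus]

end CfsgLib.FischerThm
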