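import Cfsg.Agent.FischerThm.Targets
import Cfsg.Agent.FischerThm.Basic
import Cfsg.Agent.FischerThm.Orth.Step
import Cfsg.Agent.FischerOrth.Assemble
import Cfsg.Agent.FischerOrth.Boundary
import Cfsg.Agent.FischerOrth.SmallDim

/-!
# Fischer's theorem: neighbourhood a reflection group over the field with three elements

The class receives as labels the points of the space of one dimension more.
-/

set_option autoImplicit false

universe u

namespace CfsgLib.FischerThm

open Cfsg CfsgLib.FischerTypes CfsgLib.FischerOrth

theorem reflStep : ReflStep.{u} := by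
  intro G _ _ D h d hd n s hn hs hT
  obtain ⟨S, hS, ⟨C⟩⟩ := exists_coord h hd hn hs hT
  have hdim : Module.finrank F3 (Fin n → ZMod 3) = n := Module.finrank_fin_fun _
  have X : Ctx D S := by
    refine ⟨by rw [hdim]; exact hn, h.group, fun x hx y hy => Transpositions.exists_conj_of_class h.cls hx hy,
      fun x hx C' => ?_, fun x hx y hy hxy => ?_⟩
    · rcases Nat.lt_or_ge n 7 with hn' | hn'
      · intro y hy hxy w hw hsub hclosed _
        exact common_full_small h hx (by omega) hs S hS C' hy hxy hw hsub hclosed
      · exact Atlas.fills_of_dim (by rw [hdim]; exact hn')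
    · obtain ⟨a, ha⟩ := Orth.exists_common h hx hy hxy
      exact ⟨a, ha.1, ha.2.2.2.symm⟩
  obtain ⟨c, hc, hdc⟩ := Orth.exists_not_commute h hd
  obtain ⟨Ψ, mem, surj, eq_iff, comm⟩ := exists_label X C hd hc hdc
  exact isReflT_of_map h hn hs S hS Ψ mem surj eq_iff comm

end CfsgLib.FischerThm
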