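import Cfsg.Agent.FischerThm.Targets
import Cfsg.Agent.Transpositions.TypeM22Structure
import Cfsg.Agent.Transpositions.TypeM23Structure
import Cfsg.Agent.Transpositions.TypeM24Sign
import Cfsg.Agent.Transpositions.WidthOne
import Cfsg.Prelude.Def_Sporadic

/-!
# The simple groups generated by a class of 3-transpositions

Read off from Fischer's theorem: a simple group has a commuting pair of members, and the symmetric groups, the
orthogonal groups over the field with two elements and the groups of type M(24) are not simple.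
-/

set_option autoImplicit false

universe u

namespace CfsgLib.FischerThm

open Cfsg CfsgLib.FischerTypes
open scoped commutatorElement

variable {G : Type u} [Group G] [Finite G]

theorem SimpleCase.center_eq_bot [IsSimpleGroup G] (hna : ∃ x y : G, x * y ≠ y * x) :
    Subgroup.center G = ⊥ := by
  refine (inferInstance : (Subgroup.center G).Normal).eq_bot_or_eq_top.resolve_right fun h => ?_
  obtain ⟨x, y, hxy⟩ := hna
  exact hxy ((Subgroup.mem_center_iff.1 (h ▸ Subgroup.mem_top x) y).symm)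

theorem SimpleCase.exists_pair [IsSimpleGroup G] (hna : ∃ x y : G, x * y ≠ y * x) {D : Set G}
    (hD : IsThreeTranspositionClass D) : ∃ d ∈ D, (perp D d).Nonempty := by
  by_contra hcon
  push Not at hcon
  have hG := Transpositions.isThreeTranspositionGroup_of_class hD
  have hw : ∀ x ∈ D, ∀ y ∈ D, Commute x y → x = y := fun x hx y hy hc => by
    by_contra hne
    exact (Set.ext_iff.1 (hcon x hx) y).1 ⟨hy, Ne.symm hne, hc⟩
  obtain ⟨d, hd, -⟩ := id hD.2.1
  have htop := Transpositions.sup_pCore_three_eq_top hG hw hd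
  rcases (inferInstance : (pCore 3 G).Normal).eq_bot_or_eq_top with h | h
  · rw [h, sup_bot_eq] at htop
    obtain ⟨x, y, hxy⟩ := hna
    obtain ⟨i, rfl⟩ := Subgroup.mem_zpowers_iff.1 (htop ▸ Subgroup.mem_top x : x ∈ Subgroup.zpowers d)
    obtain ⟨j, rfl⟩ := Subgroup.mem_zpowers_iff.1 (htop ▸ Subgroup.mem_top y : y ∈ Subgroup.zpowers d)
    exact hxy (zpow_mul_comm d i j)
  · haveI : Fact (Nat.Prime 3) := ⟨Nat.prime_three⟩
    have hP : IsPGroup 3 G := by
      have := PLocal.isPGroup_pCore 3 G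
      rw [h] at this
      exact this.of_equiv Subgroup.topEquiv
    haveI := hP.center_nontrivial
    exact Subgroup.nontrivial_iff_ne_bot _ |>.1 this (SimpleCase.center_eq_bot hna)

/-- **The simple 3-transposition groups**, from Fischer's theorem. -/
theorem simpleClassification (hC : Classification.{u}) (hS : SimpleRefl) (hN : NotSimpleModels)
    {G : Type u} [Group G] [Finite G] [IsSimpleGroup G] (hna : ∃ x y : G, x * y ≠ y * x) {D : Set G}
    (hD : Cfsg.IsThreeTranspositionClass D) :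
    (∃ n : ℕ, Nonempty (G ≃* Matrix.symplecticGroup (Fin n) (ZMod 2))) ∨
      (∃ (F : Type) (_ : Field F) (_ : Fintype F) (n : ℕ), Fintype.card F = 4 ∧ Nonempty (G ≃* Cfsg.PSU n F 2)) ∨
        (∃ m : ℕ, Nonempty (G ≃* Cfsg.POmega (ZMod 3) (Cfsg.quadFormOdd m (ZMod 3)))) ∨
          Cfsg.IsFi22 G ∨ Cfsg.IsFi23 G := by
  have hZ := SimpleCase.center_eq_bot hna
  have hcomm : commutator G = ⊤ :=
    (Subgroup.Normal.eq_bot_or_eq_top (inferInstance : (commutator G).Normal)).resolve_left fun h => by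
      obtain ⟨x, y, hxy⟩ := hna
      have h1 : ⁅x, y⁆ ∈ commutator G :=
        Subgroup.commutator_mem_commutator (Subgroup.mem_top x) (Subgroup.mem_top y)
      rw [h, Subgroup.mem_bot, commutatorElement_eq_one_iff_mul_comm] at h1
      exact hxy h1
  have hsim : IsSimpleGroup (commutator G) := by
    rw [hcomm]
    exact Subgroup.topEquiv.isSimpleGroup
  have hw := SimpleCase.exists_pair hna hD
  have hG := Transpositions.isThreeTranspositionGroup_of_class hD
  have hp : IsPrimitiveUnderConj D := by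
    obtain ⟨a, ha, b, hb⟩ := hw
    exact Transpositions.primitive_of_isSimpleGroup_commutator hD ⟨a, ha, b, hb.1, hb.2.1.symm, hb.2.2⟩ hZ hsim
  rcases hC G D hD hZ hsim hw with ⟨n, hn, e, -⟩ | ⟨m, -, e, -⟩ | ⟨n, -, F, _, _, hF, e, -⟩ | ⟨m, hm, e, -⟩ |
      ⟨m, hm, e, -⟩ | ⟨n, s, hn, hs, e, -⟩ | ⟨h22, -⟩ | ⟨h23, -⟩ | ⟨h24, -⟩
  · exact absurd e.symm.isSimpleGroup (hN.1 n hn)
  · exact Or.inl ⟨m, ⟨e⟩⟩
  · exact Or.inr (Or.inl ⟨F, inferInstance, inferInstance, n, hF, ⟨e⟩⟩)
  · exact absurd e.symm.isSimpleGroup (hN.2.1 m hm)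
  · exact absurd e.symm.isSimpleGroup (hN.2.2 m hm)
  · obtain ⟨k, ⟨f⟩⟩ := hS n s hn hs e.symm.isSimpleGroup
    exact Or.inr (Or.inr (Or.inl ⟨k, ⟨e.trans f⟩⟩))
  · exact Or.inr (Or.inr (Or.inr (Or.inl ⟨inferInstance, FischerTypes.card_group hG hp h22⟩)))
  · exact Or.inr (Or.inr (Or.inr (Or.inr ⟨inferInstance, Transpositions.TypeM23.card_group ⟨hG, hp, h23⟩⟩)))
  · exfalso
    obtain ⟨χ, hχ⟩ := Transpositions.TypeM24.exists_sign (⟨hG, hp, h24⟩ : FischerTypes.M24.Hyp G D)
    obtain ⟨d, hd, -⟩ := hw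
    rcases (inferInstance : χ.ker.Normal).eq_bot_or_eq_top with h | h
    · obtain ⟨x, y, hxy⟩ := hna
      exact hxy ((MonoidHom.ker_eq_bot_iff χ).1 h (by rw [map_mul, map_mul, mul_comm]))
    · have h1 := MonoidHom.mem_ker.1 (h ▸ Subgroup.mem_top d : d ∈ χ.ker)
      rw [hχ d hd] at h1
      exact absurd h1 (by decide)

end CfsgLib.FischerThm
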