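import Cfsg.Agent.FischerThm.Main
import Cfsg.Agent.CoxeterSym.Basic

/-!
# The printed forms
-/

set_option autoImplicit false
open scoped MatrixGroups

universe u

namespace CfsgLib.FischerThm

open Cfsg CfsgLib.FischerTypes
open scoped commutatorElement

/-- Without commuting members the group is `S₃`. -/
theorem isSymT_three {G : Type u} [Group G] [Finite G] {D : Set G} (hD : IsThreeTranspositionClass D)
    (hZ : Subgroup.center G = ⊥) (hs : IsSimpleGroup (commutator G)) (hno : ∀ d ∈ D, ¬ (perp D d).Nonempty) :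
    IsSymT D 3 := by
  classical
  have hG := Transpositions.isThreeTranspositionGroup_of_class hD
  have hncomm : ∀ x ∈ D, ∀ y ∈ D, x ≠ y → ¬ Commute x y := fun x hx y hy hne hc =>
    hno x hx ⟨y, hy, hne.symm, hc⟩
  obtain ⟨a, ha, hcl⟩ := hD.2.1
  obtain ⟨b, hb, hab⟩ : ∃ b ∈ D, b ≠ a := by
    by_contra hall
    push Not at hall
    have hc : a ∈ Subgroup.center G :=
      Transpositions.mem_center_of_commute_generators hG.2.2 fun x hx => by rw [hall x hx]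
    rw [hZ, Subgroup.mem_bot] at hc
    exact FischerTypes.ne_one hD.1 ha hc
  set P := commutator G with hP
  have hcoset : ∀ x ∈ D, a * x ∈ P := by
    intro x hx
    obtain ⟨g, rfl⟩ := Transpositions.exists_conj_of_class hD ha hx
    have : ⁅a, g⁆ ∈ P := Subgroup.commutator_mem_commutator (Subgroup.mem_top a) (Subgroup.mem_top g)
    have e : a * (g * a * g⁻¹) = ⁅a, g⁆ := by
      rw [commutatorElement_def, inv_eq hD.1 ha]; simp [mul_assoc]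
    rwa [e]
  have hcomm : ∀ x y : P, x * y = y * x := by
    by_contra hna
    push Not at hna
    obtain ⟨p, hp, q, hq, hne, hc⟩ := FischerRankThree.exists_commuting_pair hD hs hna
    exact hncomm p hp q hq hne hc
  have hprime : (Nat.card P).Prime := by
    haveI := hs
    letI : CommGroup P := CommGroup.mk hcomm
    exact IsSimpleGroup.prime_card
  have h3 : Nat.card P = 3 := by
    have ho : orderOf (⟨a * b, hcoset b hb⟩ : P) = 3 := by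
      rw [Subgroup.orderOf_mk]
      haveI : Fact (Nat.Prime 3) := ⟨Nat.prime_three⟩
      refine orderOf_eq_prime ?_ fun h1 => hab ((Transpositions.mul_eq_one_iff hD.1 hb).1 h1).symm
      refine (hD.1.2 a ha b hb).resolve_left fun h2 => hncomm a ha b hb hab.symm ?_
      rw [sq, mul_eq_one_iff_eq_inv, mul_inv_rev, inv_eq hD.1 ha, inv_eq hD.1 hb] at h2
      exact h2
    have := (Nat.dvd_prime hprime).1 (ho ▸ orderOf_dvd_natCard _)
    omega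
  have hDcard : D.ncard ≤ 3 := by
    rw [← h3]
    refine (Set.ncard_le_ncard_of_injOn (fun x => a * x) (t := (P : Set G))
      (fun x hx => hcoset x hx) (fun x _ y _ h => mul_left_cancel h) (Set.toFinite _)).trans ?_
    rw [← Nat.card_coe_set_eq]; rfl
  let t : ℕ → G := fun i => if i = 0 then a else b
  have hbr := FischerTypes.braid hD.1 ha hb (hncomm a ha b hb hab.symm)
  have ht : CoxeterSym.IsSymGens 2 t := by
    refine ⟨fun i hi => ?_, fun i hi => ?_, fun i j hij hj => ?_⟩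
    · interval_cases i <;> simp [t, mul_self hD.1 ha, mul_self hD.1 hb]
    · obtain rfl : i = 0 := by omega
      simpa [t] using hbr
    · omega
  obtain ⟨φ, hφ⟩ := CoxeterSym.exists_hom ht
  have e0 : φ (Equiv.swap 0 1) = a := by simpa [t] using hφ ⟨0, by norm_num⟩
  have e1 : φ (Equiv.swap 1 2) = b := by simpa [t] using hφ ⟨1, by norm_num⟩
  have hbab : φ (Equiv.swap 0 1 * Equiv.swap 1 2 * Equiv.swap 0 1) = a * b * a := by
    rw [map_mul, map_mul, e0, e1]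
  have hne3 : a * b * a ≠ a ∧ a * b * a ≠ b := by
    refine ⟨fun h => hab ?_, fun h => hncomm a ha b hb hab.symm ?_⟩
    · calc b = a * (a * b * a) * a := by
            simp [mul_assoc, mul_self hD.1 ha, mul_self_cancel hD.1 ha]
        _ = a := by rw [h, mul_self hD.1 ha, one_mul]
    · have := congrArg (· * a) h
      simp only [mul_assoc, mul_self hD.1 ha, mul_one] at this
      exact this
  have habaD : a * b * a ∈ D := by simpa [inv_eq hD.1 ha] using hG.2.1 a b hb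
  have hDeq : D = {a, b, a * b * a} := by
    refine (Set.eq_of_subset_of_ncard_le ?_ ?_ (Set.toFinite _)).symm
    · rintro _ (rfl | rfl | rfl)
      exacts [ha, hb, habaD]
    · rw [Set.ncard_eq_three.2 ⟨_, _, _, hab.symm, hne3.1.symm, hne3.2.symm, rfl⟩]
      exact hDcard
  have hinj : Function.Injective φ := by
    rw [injective_iff_map_eq_one]
    have hcases : ∀ σ : Equiv.Perm (Fin 3), σ = 1 ∨ σ = Equiv.swap 0 1 ∨ σ = Equiv.swap 1 2 ∨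
        σ = Equiv.swap 0 1 * Equiv.swap 1 2 * Equiv.swap 0 1 ∨ σ = Equiv.swap 0 1 * Equiv.swap 1 2 ∨
        σ = Equiv.swap 1 2 * Equiv.swap 0 1 := by decide
    intro σ hσ
    rcases hcases σ with h | h | h | h | h | h <;> subst h
    · rfl
    · exact absurd (e0.symm.trans hσ) (FischerTypes.ne_one hD.1 ha)
    · exact absurd (e1.symm.trans hσ) (FischerTypes.ne_one hD.1 hb)
    · exact absurd (hbab.symm.trans hσ) (FischerTypes.ne_one hD.1 habaD)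
    · rw [map_mul, e0, e1] at hσ
      exact absurd ((Transpositions.mul_eq_one_iff hD.1 hb).1 hσ) hab.symm
    · rw [map_mul, e0, e1] at hσ
      exact absurd ((Transpositions.mul_eq_one_iff hD.1 ha).1 hσ) hab
  have hsurj : Function.Surjective φ := by
    rw [← MonoidHom.range_eq_top, eq_top_iff, ← hG.2.2, Subgroup.closure_le, hDeq]
    rintro _ (rfl | rfl | rfl)
    exacts [⟨_, e0⟩, ⟨_, e1⟩, ⟨_, hbab⟩]
  have hswaps : ∀ σ : Equiv.Perm (Fin 3), σ.IsSwap → σ = Equiv.swap 0 1 ∨ σ = Equiv.swap 1 2 ∨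
      σ = Equiv.swap 0 1 * Equiv.swap 1 2 * Equiv.swap 0 1 := by
    rintro σ ⟨x, y, hxy, rfl⟩
    revert x y
    decide
  refine DIso.symm ⟨MulEquiv.ofBijective φ ⟨hinj, hsurj⟩, Set.Subset.antisymm ?_ ?_⟩
  · rintro _ ⟨σ, hσ, rfl⟩
    show φ σ ∈ D
    rcases hswaps σ hσ with rfl | rfl | rfl
    exacts [e0 ▸ ha, e1 ▸ hb, hbab ▸ habaD]
  · rw [hDeq]
    rintro _ (rfl | rfl | rfl)
    · exact ⟨Equiv.swap 0 1, ⟨0, 1, by decide, rfl⟩, e0⟩
    · exact ⟨Equiv.swap 1 2, ⟨1, 2, by decide, rfl⟩, e1⟩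
    · exact ⟨_, ⟨0, 2, by decide, by decide⟩, hbab⟩

/-- Fischer's theorem as printed. -/
theorem fischer_statement (P : Parts.{u}) {G : Type u} [Group G] [Finite G] {D : Set G} (hD : Cfsg.IsThreeTranspositionClass D) (hZ : Subgroup.center G = ⊥) (hsimple : IsSimpleGroup (commutator G)) : (∃ n : ℕ, ∃ e : G ≃* Equiv.Perm (Fin n), e '' D = {σ : Equiv.Perm (Fin n) | σ.IsSwap}) ∨ (∃ m : ℕ, ∃ e : G ≃* Matrix.symplecticGroup (Fin m) (ZMod 2), e '' D = {g : Matrix.symplecticGroup (Fin m) (ZMod 2) | ((g : Matrix (Fin m ⊕ Fin m) (Fin m ⊕ Fin m) (ZMod 2)) - 1).rank = 1}) ∨ (∃ (n : ℕ) (F : Type) (_ : Field F) (_ : Fintype F), Fintype.card F = 4 ∧ ∃ e : G ≃* Cfsg.PSU n F 2, e '' D = (QuotientGroup.mk : ↥(Cfsg.SU n F 2) → Cfsg.PSU n F 2) '' {g : ↥(Cfsg.SU n F 2) | (((g : Matrix.SpecialLinearGroup (Fin n) F) : Matrix (Fin n) (Fin n) F) - 1).rank = 1}) ∨ ((∃ m : ℕ, ∃ e : G ≃* ↥(Cfsg.isometryGroup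 (ZMod 2) (Cfsg.quadFormPlus m (ZMod 2))), e '' D = {g : ↥(Cfsg.isometryGroup (ZMod 2) (Cfsg.quadFormPlus m (ZMod 2))) | (((g : GL (Fin m ⊕ Fin m) (ZMod 2)) : Matrix (Fin m ⊕ Fin m) (Fin m ⊕ Fin m) (ZMod 2)) - 1).rank = 1}) ∨ (∃ m : ℕ, ∃ e : G ≃* ↥(Cfsg.isometryGroup (ZMod 2) (Cfsg.quadFormMinus m (ZMod 2) 1 1)), e '' D = {g : ↥(Cfsg.isometryGroup (ZMod 2) (Cfsg.quadFormMinus m (ZMod 2) 1 1)) | (((g : GL ((Fin m ⊕ Fin m) ⊕ Fin 2) (ZMod 2)) : Matrix ((Fin m ⊕ Fin m) ⊕ Fin 2) ((Fin m ⊕ Fin m) ⊕ Fin 2) (ZMod 2)) - 1).rank = 1})) ∨ (∃ n : ℕ, ∃ Q : QuadraticForm (ZMod 3) (Fin n → ZMod 3), (QuadraticMap.polarBilin Q).Nondegenerate ∧ ∃ c : ZMod 3, c ≠ 0 ∧ ∃ e : G ≃* ↥(Cfsg.reflectionSubgroup (⇑Q) c) ⧸ Subgroup.center ↥(Cfsg.reflectionSubgroup (⇑Q) c), e '' D = (QuotientGroup.mk : ↥(Cfsg.reflectionSubgroup (⇑Q) c) → _) '' {g : ↥(Cfsg.reflectionSubgroup (⇑Q) c) | (g : ↥(Cfsg.isometryGroup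 (ZMod 3) (⇑Q))) ∈ Cfsg.reflectionsOfNorm (⇑Q) c}) ∨ (Cfsg.IsOfTypeM22 G D ∨ Cfsg.IsOfTypeM23 G D ∨ Cfsg.IsOfTypeM24 G D) := by
  by_cases hw : ∃ d ∈ D, (perp D d).Nonempty
  · rcases classification P G D hD hZ hsimple hw with ⟨n, -, h⟩ | ⟨m, -, h⟩ | ⟨n, -, F, iF, iT, hF, h⟩ |
      ⟨m, -, h⟩ | ⟨m, -, h⟩ | ⟨n, s, -, hs, h⟩ | h | h | h
    · exact Or.inl ⟨n, h⟩
    · exact Or.inr (Or.inl ⟨m, h⟩)
    · exact Or.inr (Or.inr (Or.inl ⟨n, F, iF, iT, hF, h⟩))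
    · exact Or.inr (Or.inr (Or.inr (Or.inl (Or.inl ⟨m, h⟩))))
    · exact Or.inr (Or.inr (Or.inr (Or.inl (Or.inr ⟨m, h⟩))))
    · refine Or.inr (Or.inr (Or.inr (Or.inr (Or.inl
        ⟨n, stdQ n s, stdQ_nondegenerate n ?_, 1, one_ne_zero, h⟩))))
      rcases hs with rfl | rfl <;> decide
    · exact Or.inr (Or.inr (Or.inr (Or.inr (Or.inr (Or.inl h.1)))))
    · exact Or.inr (Or.inr (Or.inr (Or.inr (Or.inr (Or.inr (Or.inl h.1))))))
    · exact Or.inr (Or.inr (Or.inr (Or.inr (Or.inr (Or.inr (Or.inr h.1))))))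
  · exact Or.inl ⟨3, isSymT_three hD hZ hsimple fun d hd hne => hw ⟨d, hd, hne⟩⟩

/-- The generic case as printed. -/
theorem generic_statement (P : Parts.{u}) {G : Type u} [Group G] [Finite G] {D : Set G} (hD : Cfsg.IsThreeTranspositionGroup D) (hprim : Cfsg.IsPrimitiveUnderConj D) (hZ : Subgroup.center G = ⊥) (d : G) (hd : d ∈ D) (hw : ∃ b ∈ D, b ≠ d ∧ Commute d b) (h3 : Cfsg.pCore 3 ↥(Subgroup.closure {y : G | y ∈ D ∧ y ≠ d ∧ Commute d y}) ≤ Subgroup.center ↥(Subgroup.closure {y : G | y ∈ D ∧ y ≠ d ∧ Commute d y})) (h2 : Cfsg.pCore 2 ↥(Subgroup.closure {y : G | y ∈ D ∧ y ≠ d ∧ Commute d y}) ≤ Subgroup.center ↥(Subgroup.closure {y : G | y ∈ D ∧ y ≠ d ∧ Commute d y})) : (∃ n : ℕ, 7 ≤ n ∧ ∃ e : G ≃* Equiv.Perm (Fin n), e '' D = {σ : Equiv.Perm (Fin n) | σ.IsSwap}) ∨ ((∃ m : ℕ, 3 ≤ m ∧ ∃ e : G ≃* ↥(Cfsg.isometryGroup (ZMod 2) (Cfsg.quadFormPlus m (ZMod 2))), e '' D = {g : ↥(Cfsg.isometryGroup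 (ZMod 2) (Cfsg.quadFormPlus m (ZMod 2))) | (((g : GL (Fin m ⊕ Fin m) (ZMod 2)) : Matrix (Fin m ⊕ Fin m) (Fin m ⊕ Fin m) (ZMod 2)) - 1).rank = 1}) ∨ (∃ m : ℕ, 2 ≤ m ∧ ∃ e : G ≃* ↥(Cfsg.isometryGroup (ZMod 2) (Cfsg.quadFormMinus m (ZMod 2) 1 1)), e '' D = {g : ↥(Cfsg.isometryGroup (ZMod 2) (Cfsg.quadFormMinus m (ZMod 2) 1 1)) | (((g : GL ((Fin m ⊕ Fin m) ⊕ Fin 2) (ZMod 2)) : Matrix ((Fin m ⊕ Fin m) ⊕ Fin 2) ((Fin m ⊕ Fin m) ⊕ Fin 2) (ZMod 2)) - 1).rank = 1})) ∨ (∃ n : ℕ, 5 ≤ n ∧ ∃ Q : QuadraticForm (ZMod 3) (Fin n → ZMod 3), (QuadraticMap.polarBilin Q).Nondegenerate ∧ ∃ c : ZMod 3, c ≠ 0 ∧ ∃ e : G ≃* ↥(Cfsg.reflectionSubgroup (⇑Q) c) ⧸ Subgroup.center ↥(Cfsg.reflectionSubgroup (⇑Q) c), e '' D = (QuotientGroup.mk : ↥(Cfsg.reflectionSubgroup (⇑Q) c) → _) '' {g : ↥(Cfsg.reflectionSubgroup (⇑Q) c) | (g : ↥(Cfsg.isometryGroup (ZMod 3) (⇑Q))) ∈ Cfsg.reflectionsOfNorm (⇑Q) c}) ∨ (Cfsg.IsOfTypeM22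 G D ∨ Cfsg.IsOfTypeM23 G D ∨ Cfsg.IsOfTypeM24 G D) := by
  obtain ⟨b, hb, hbd, hdb⟩ := hw
  have hcls : IsThreeTranspositionClass D := by
    refine ⟨hD.1, ⟨d, hd, Set.Subset.antisymm (fun x hx => ?_) (fun x hx => ?_)⟩, hD.2.2⟩
    · exact isConj_iff.2 (hprim.1 d hd x hx)
    · obtain ⟨g, rfl⟩ := isConj_iff.1 hx
      exact hD.2.1 g d hd
  have hs := Transpositions.isSimpleGroup_commutator_of_primitive hD hprim ⟨d, hd, b, hb, hbd.symm, hdb⟩ hZ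
  have hcore : ∀ {p : ℕ}, pCore p ↥(Subgroup.closure (perp D d)) ≤ Subgroup.center _ → ∀ x ∈ D,
      pCore p ↥(Subgroup.closure (perp D x)) ≤ Subgroup.center _ := by
    intro p hp x hx y hy
    obtain ⟨g, rfl⟩ := hprim.1 d hd x hx
    have hmap : (Subgroup.closure (perp D (g * d * g⁻¹))).map (MulAut.conj g⁻¹).toMonoidHom =
        Subgroup.closure (perp D d) := by
      rw [MonoidHom.map_closure]
      congr 1
      have := image_perp_conj hD g⁻¹ (g * d * g⁻¹)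
      rw [show g⁻¹ * (g * d * g⁻¹) * g⁻¹⁻¹ = d by group] at this
      exact this
    let ψ : ↥(Subgroup.closure (perp D (g * d * g⁻¹))) ≃* ↥(Subgroup.closure (perp D d)) :=
      ((MulAut.conj g⁻¹).subgroupMap _).trans (MulEquiv.subgroupCongr hmap)
    have hn : ((pCore p ↥(Subgroup.closure (perp D (g * d * g⁻¹)))).map ψ.toMonoidHom).Normal :=
      Subgroup.Normal.map inferInstance _ ψ.surjective
    have h1 := hp (PLocal.le_pCore ((PLocal.isPGroup_pCore p _).map ψ.toMonoidHom) ⟨y, hy, rfl⟩)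
    rw [Subgroup.mem_center_iff] at h1 ⊢
    intro z
    apply ψ.injective
    rw [map_mul, map_mul]
    exact h1 (ψ z)
  have hg : Generic D := ⟨hcls, hZ, hs, ⟨d, hd, b, hb, hbd, hdb⟩, hcore h2, hcore h3⟩
  rcases generic_classification P hg with ⟨n, hn, h⟩ | ⟨m, hm, h⟩ | ⟨m, hm, h⟩ | ⟨n, s, hn, hs', h⟩ | h | h | h
  · exact Or.inl ⟨n, hn, h⟩
  · exact Or.inr (Or.inl (Or.inl ⟨m, hm, h⟩))
  · exact Or.inr (Or.inl (Or.inr ⟨m, hm, h⟩))
  · refine Or.inr (Or.inr (Or.inl ⟨n, by omega, stdQ n s, stdQ_nondegenerate n ?_, 1, one_ne_zero, h⟩))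
    rcases hs' with rfl | rfl <;> decide
  · exact Or.inr (Or.inr (Or.inr (Or.inl h.1)))
  · exact Or.inr (Or.inr (Or.inr (Or.inr (Or.inl h.1))))
  · exact Or.inr (Or.inr (Or.inr (Or.inr (Or.inr h.1))))

end CfsgLib.FischerThm
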