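import Cfsg.Agent.FischerThm.Assembly
import Cfsg.Agent.FischerThm.ReflStep
import Cfsg.Agent.FischerThm.Statements
import Cfsg.Agent.FischerThm.SimpleCase

/-!
# Fischer's theorem
-/

set_option autoImplicit false

universe u

namespace CfsgLib.FischerThm

/-- All the parts of the induction. -/
theorem parts : Parts.{u} := parts_of_steps reflStep

/-- **Fischer's theorem**, in the form used for the induction. -/
theorem fischer_classification : Classification.{u} := classification parts

end CfsgLib.FischerThm
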