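import Cfsg.Agent.FischerThm.Targets
import Cfsg.Agent.FischerThm.Uni.Transitive

/-!
# The unitary models are good
-/

set_option autoImplicit false

namespace CfsgLib.FischerThm

open Cfsg CfsgLib.RepBounds.Unit CfsgLib.U62 CfsgLib.FischerTypes

theorem Uni.pCore_eq_bot {G : Type} [Group G] [Finite G] [IsSimpleGroup G]
    (hZ : Subgroup.center G = ⊥) (p : ℕ) [Fact p.Prime] : pCore p G = ⊥ := by
  rw [eq_bot_iff, pCore]
  refine sSup_le fun N hN => ?_
  rcases hN.1.eq_bot_or_eq_top with h | h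
  · exact h.le
  subst h
  have hp : IsPGroup p G := hN.2.of_equiv Subgroup.topEquiv
  haveI := hp.center_nontrivial
  exact absurd hZ (Subgroup.nontrivial_iff_ne_bot _ |>.1 inferInstance)

theorem goodUni : GoodUni := by
  intro F _ _ hF n hn
  obtain ⟨C, hC⟩ := exists_conjField (F := F) 2 (by rw [hF]; norm_num)
  have hcard : Fintype.card (Fin 2 ⊕ (Fin 2 ⊕ Fin (n - 4))) = n := by simp; omega
  haveI : Nontrivial (Fin 2 ⊕ (Fin 2 ⊕ Fin (n - 4))) := ⟨⟨Sum.inl 0, Sum.inl 1, by simp⟩⟩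
  haveI hs : IsSimpleGroup (Cfsg.PSU n F 2) :=
    Forms4.isSimpleGroup_PSU (by rw [hF]; norm_num) n (by omega) (by omega)
  set e := vE C (Fin 2 ⊕ Fin (n - 4)) with he
  set e' := inW (vE C (Fin (n - 4))) with he'
  have hee : herm C e e = 0 := herm_vE_vE C
  have hee' : herm C e' e' = 0 := by rw [he', herm_inW, herm_vE_vE]
  have he0 : e ≠ 0 := Forms4.vE_ne_zero C
  have hZ : Subgroup.center (Cfsg.PSU n F 2) = ⊥ := by
    refine (IsSimpleGroup.eq_bot_or_eq_top_of_normal _ inferInstance).resolve_right fun h => ?_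
    have hc : Commute (Uni.pt C hC hcard e) (Uni.pt C hC hcard (vF C _)) :=
      Subgroup.mem_center_iff.1 (h ▸ Subgroup.mem_top _) _
    rw [Uni.commute_pt_iff C hC hcard hee (herm_vF_vF C), herm_vE_vF] at hc
    exact one_ne_zero hc
  haveI : Fact (Nat.Prime 2) := ⟨Nat.prime_two⟩
  haveI : Fact (Nat.Prime 3) := ⟨Nat.prime_three⟩
  refine ⟨?_, hZ, Uni.pCore_eq_bot hZ 2, Uni.pCore_eq_bot hZ 3,
    Uni.pt C hC hcard e, (Uni.mem_uniD_iff C hC hcard _).2 ⟨e, hee, he0, rfl⟩,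
    Uni.pt C hC hcard e', (Uni.mem_perp_iff C hC hcard hee _).2
      ⟨e', hee', ?_, herm_vE_inW C _, ?_, rfl⟩⟩
  · obtain ⟨⟨hord, h3⟩, ⟨d, hd, hcl⟩, hgen⟩ := FormTranspositions.unitary_three_transposition_class C
      (ι := Fin 2 ⊕ (Fin 2 ⊕ Fin (n - 4))) hC (by rw [hcard]; exact hn)
    have himg : uniD n F = Uni.pr C hC hcard ''
        {g | ((g.1 : Matrix (Fin 2 ⊕ (Fin 2 ⊕ Fin (n - 4))) (Fin 2 ⊕ (Fin 2 ⊕ Fin (n - 4))) F) - 1).rank = 1} := by
      ext x
      rw [Uni.mem_uniD_iff C hC hcard]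
      constructor
      · rintro ⟨v, hv, hv0, rfl⟩
        exact ⟨tv C v, FormTranspositions.rank_one_of_isTransv C hv0 (isTransv_tv C hC hv), rfl⟩
      · rintro ⟨g, hg, rfl⟩
        obtain ⟨v, hv0, hv, hT⟩ := FormTranspositions.exists_isTransv_of_rank_one C hC g hg
        exact ⟨v, hv, hv0, by rw [Uni.pt, hT.unique C (isTransv_tv C hC hv)]⟩
    rw [himg]
    refine ⟨⟨?_, ?_⟩, ⟨_, ⟨d, hd, rfl⟩, ?_⟩, ?_⟩
    · rintro _ ⟨g, hg, rfl⟩
      refine orderOf_eq_prime ?_ fun h1 => ?_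
      · have h2 := pow_orderOf_eq_one g
        rw [hord g hg] at h2
        rw [← map_pow, h2, map_one]
      obtain ⟨v, hv0, hv, hT⟩ := FormTranspositions.exists_isTransv_of_rank_one C hC g hg
      obtain ⟨y, hy, hvy⟩ := Forms4.exists_partner C hv hv0
      rw [hT.unique C (isTransv_tv C hC hv)] at h1
      refine hvy ((Uni.commute_pt_iff C hC hcard hv hy).1 ?_)
      rw [Uni.pt, h1]
      exact Commute.one_left _
    · rintro _ ⟨g, hg, rfl⟩ _ ⟨g', hg', rfl⟩
      rcases h3 g hg g' hg' with h | h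
      · exact Or.inl (by rw [← map_mul, ← map_pow, h, map_one])
      · exact Or.inr (by rw [← map_mul, ← map_pow, h, map_one])
    · rw [hcl]
      ext x
      simp only [conjugatesOf, Set.mem_image, Set.mem_setOf_eq]
      constructor
      · rintro ⟨g, hg, rfl⟩
        exact (Uni.pr C hC hcard).map_isConj hg
      · intro hx
        obtain ⟨q, rfl⟩ := isConj_iff.1 hx
        obtain ⟨g, rfl⟩ := Uni.pr_surjective C hC hcard q
        exact ⟨g * d * g⁻¹, isConj_iff.2 ⟨g, rfl⟩, by rw [map_mul, map_mul, map_inv]⟩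
    · rw [← MonoidHom.map_closure, hgen, Subgroup.map_top_of_surjective _ (Uni.pr_surjective C hC hcard)]
  · intro h
    exact Forms4.vE_ne_zero C (funext fun j => by simpa [he', inW] using congrFun h (Sum.inr j))
  · intro a ha
    have h1 := congrArg (fun z => herm C z (vF C _)) ha
    simp [he, he', herm_inW_vF, herm_smul_left, herm_vE_vF] at h1
    refine Forms4.vE_ne_zero C (κ := Fin (n - 4)) (funext fun j => ?_)
    rw [← h1, zero_smul] at ha
    simpa [he', inW] using congrFun ha (Sum.inr j)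

end CfsgLib.FischerThm
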