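import Cfsg.Agent.FischerThm.Targets
import Cfsg.Agent.FischerThm.Uni.Transitive

/-!
# Common neighbours in the unitary models
-/

set_option autoImplicit false

namespace CfsgLib.FischerThm

open Cfsg CfsgLib.RepBounds.Unit CfsgLib.U62 CfsgLib.FischerTypes

theorem localUni : LocalUni := by
  intro F _ _ hF n hn a ha b hb hab
  obtain ⟨C, hC⟩ := exists_conjField (F := F) 2 (by rw [hF]; norm_num)
  have hsmall : Fintype.card (Fin 2 ⊕ Fin (n - 2)) = n := by simp; omega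
  have hbig : Fintype.card (Fin 2 ⊕ (Fin 2 ⊕ Fin (n - 2))) = n + 2 := by simp; omega
  haveI : Nontrivial (Fin (n - 2)) := Fin.nontrivial_iff_two_le.mpr (by omega)
  haveI : Nontrivial (Fin 2 ⊕ Fin (n - 2)) := ⟨⟨Sum.inl 0, Sum.inl 1, by simp⟩⟩
  haveI : Nontrivial (Fin 2 ⊕ (Fin 2 ⊕ Fin (n - 2))) := ⟨⟨Sum.inl 0, Sum.inl 1, by simp⟩⟩
  obtain ⟨u, hu, hu0, rfl⟩ := (Uni.mem_uniD_iff C hC hbig a).1 ha
  obtain ⟨v, hv, hv0, rfl⟩ := (Uni.mem_uniD_iff C hC hbig b).1 hb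
  obtain ⟨g, s, hs, hgu, hgv⟩ := Uni.exists_map_hyp C hC hu hv
    (fun h => hab ((Uni.commute_pt_iff C hC hbig hu hv).2 h))
  have hmoved : MulAut.conj (Uni.pr C hC hbig g) ''
      (perp (uniD (n + 2) F) (Uni.pt C hC hbig u) ∩ perp (uniD (n + 2) F) (Uni.pt C hC hbig v)) =
        ((Uni.pr C hC hbig).comp (blockHom C (Fin 2 ⊕ Fin (n - 2)))) ''
          {x | ∃ w, herm C w w = 0 ∧ w ≠ 0 ∧ x = tv C w} := by
    rw [Set.image_inter (MulAut.conj _).injective, Uni.image_perp, Uni.image_perp,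
      Uni.image_conj_uniD, MulAut.conj_apply, MulAut.conj_apply, Uni.conj_pt C hC hbig g hu,
      Uni.conj_pt C hC hbig g hv, hgu, hgv, Uni.pt_smul C hC hbig hs (herm_vF_vF C), Uni.common_eq]
    rfl
  have h1 := Uni.diso_sImg_image (MulAut.conj (Uni.pr C hC hbig g))
    (perp (uniD (n + 2) F) (Uni.pt C hC hbig u) ∩ perp (uniD (n + 2) F) (Uni.pt C hC hbig v))
  rw [hmoved] at h1
  refine h1.trans ?_
  have h2 := Uni.diso_sImg_of_injective _ (Uni.pr_blockHom_injective C hC hbig) (Uni.closure_tv C hC)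
    (Uni.pr C hC hsmall) (Uni.pr_surjective C hC hsmall) (Uni.ker_pr C hC hsmall)
  rwa [show Uni.pr C hC hsmall '' {x | ∃ w, herm C w w = 0 ∧ w ≠ 0 ∧ x = tv C w} = uniD n F from
    Set.ext fun x => ⟨fun ⟨_, ⟨w, hw, hw0, e⟩, e'⟩ =>
        (Uni.mem_uniD_iff C hC hsmall x).2 ⟨w, hw, hw0, by rw [← e', e]; rfl⟩,
      fun hx => by
        obtain ⟨w, hw, hw0, rfl⟩ := (Uni.mem_uniD_iff C hC hsmall x).1 hx
        exact ⟨_, ⟨w, hw, hw0, rfl⟩, rfl⟩⟩] at h2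

end CfsgLib.FischerThm
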