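import Cfsg.Agent.FischerThm.Defs

/-!
# Generated subgroups modulo their centres: transport lemmas
-/

set_option autoImplicit false

universe u v

namespace CfsgLib.FischerThm

open Cfsg CfsgLib.FischerTypes

variable {G : Type u} [Group G] {K : Type v} [Group K]

/-- The image of a member of `S`. -/
abbrev sMk (S : Set G) {x : G} (hx : x ∈ S) : SQuot S :=
  QuotientGroup.mk (⟨x, Subgroup.subset_closure hx⟩ : ↥(Subgroup.closure S))

theorem sMk_mem_sImg {S : Set G} {x : G} (hx : x ∈ S) : sMk S hx ∈ sImg S :=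
  ⟨⟨x, Subgroup.subset_closure hx⟩, hx, rfl⟩

theorem exists_sMk {S : Set G} {q : SQuot S} (hq : q ∈ sImg S) : ∃ x, ∃ hx : x ∈ S, sMk S hx = q := by
  obtain ⟨⟨x, hxc⟩, hx, rfl⟩ := hq
  exact ⟨x, hx, rfl⟩

/-- A homomorphism reflecting commutation with the generators identifies the two quotients. -/
theorem dIso_sImg_of_hom (f : G →* K) (S : Set G)
    (hf : ∀ x ∈ Subgroup.closure S, ∀ s ∈ S, Commute (f x) (f s) → Commute x s) :
    DIso (sImg S) (sImg (f '' S)) := by
  have hmap : (Subgroup.closure S).map f = Subgroup.closure (f '' S) := MonoidHom.map_closure f S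
  let f₀ : ↥(Subgroup.closure S) →* ↥(Subgroup.closure (f '' S)) :=
    (f.comp (Subgroup.closure S).subtype).codRestrict _ fun x => hmap ▸ Subgroup.mem_map_of_mem f x.2
  have hf₀ : Function.Surjective f₀ := by
    rintro ⟨y, hy⟩
    rw [← hmap] at hy
    obtain ⟨x, hx, rfl⟩ := hy
    exact ⟨⟨x, hx⟩, rfl⟩
  let φ : ↥(Subgroup.closure S) →* SQuot (f '' S) := (QuotientGroup.mk' _).comp f₀
  have hφ : Function.Surjective φ := (QuotientGroup.mk'_surjective _).comp hf₀
  have hker : φ.ker = Subgroup.center ↥(Subgroup.closure S) := by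
    ext x
    rw [MonoidHom.mem_ker, MonoidHom.comp_apply, QuotientGroup.mk'_apply, QuotientGroup.eq_one_iff]
    constructor
    · intro hx
      rw [Subgroup.mem_center_iff]
      intro g
      have hgen : Subgroup.closure S ≤ Subgroup.centralizer ({(x : G)} : Set G) := by
        rw [Subgroup.closure_le]
        intro s hs
        rw [SetLike.mem_coe, Subgroup.mem_centralizer_singleton_iff]
        refine (hf x x.2 s hs ?_).eq.symm
        have h1 := Subgroup.mem_center_iff.1 hx ⟨f s, Subgroup.subset_closure ⟨s, hs, rfl⟩⟩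
        exact (congrArg Subtype.val h1).symm
      exact Subtype.ext (Subgroup.mem_centralizer_singleton_iff.1 (hgen g.2))
    · intro hx
      rw [Subgroup.mem_center_iff]
      intro g
      obtain ⟨g, rfl⟩ := hf₀ g
      rw [← map_mul, ← map_mul, Subgroup.mem_center_iff.1 hx g]
  let e : SQuot S ≃* SQuot (f '' S) :=
    (QuotientGroup.quotientMulEquivOfEq hker.symm).trans (QuotientGroup.quotientKerEquivOfSurjective φ hφ)
  have he : ∀ x : ↥(Subgroup.closure S), e (QuotientGroup.mk x) = φ x := fun x => rfl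
  refine ⟨e, Set.Subset.antisymm ?_ ?_⟩
  · rintro _ ⟨_, ⟨x, hx, rfl⟩, rfl⟩
    rw [he]
    exact ⟨f₀ x, ⟨x, hx, rfl⟩, rfl⟩
  · rintro _ ⟨⟨y, hy'⟩, ⟨s, hs, hsy⟩, rfl⟩
    refine ⟨sMk S hs, sMk_mem_sImg hs, ?_⟩
    rw [he]
    exact congrArg QuotientGroup.mk (Subtype.ext hsy)

/-- An injective homomorphism identifies the quotient of a set and of its image. -/
theorem dIso_sImg_of_injective (f : G →* K) (hf : Function.Injective f) (S : Set G) :
    DIso (sImg S) (sImg (f '' S)) :=
  dIso_sImg_of_hom f S fun x _ s _ h => hf (by rw [map_mul, map_mul]; exact h.eq)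

/-- Conjugate sets have isomorphic quotients. -/
theorem dIso_sImg_conj (g : G) (S : Set G) : DIso (sImg S) (sImg ((fun x => g * x * g⁻¹) '' S)) :=
  dIso_sImg_of_injective (MulAut.conj g).toMonoidHom (MulAut.conj g).injective S

/-- A set inside a subgroup. -/
theorem dIso_sImg_subgroup {H : Subgroup G} (S : Set ↥H) : DIso (sImg S) (sImg (H.subtype '' S)) :=
  dIso_sImg_of_injective H.subtype Subtype.val_injective S

/-- An isomorphism carries the common partners to the common partners. -/
theorem image_perp {D : Set G} (e : G ≃* K) (a : G) : e '' perp D a = perp (e '' D) (e a) := by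
  ext y
  constructor
  · rintro ⟨x, hx, rfl⟩
    exact ⟨⟨x, hx.1, rfl⟩, fun h => hx.2.1 (e.injective h), hx.2.2.map e.toMonoidHom⟩
  · rintro ⟨⟨x, hx, rfl⟩, hne, hc⟩
    exact ⟨x, ⟨hx, fun h => hne (h ▸ rfl), by simpa using hc.map e.symm.toMonoidHom⟩, rfl⟩

theorem perp_symm' {D : Set G} {a b : G} (ha : a ∈ D) (hb : b ∈ perp D a) : a ∈ perp D b :=
  ⟨ha, fun h => hb.2.1 h.symm, hb.2.2.symm⟩

/-- No member of `S` commutes with all of `S`. -/
def SNoCentral (S : Set G) : Prop := ∀ x ∈ S, ∃ y ∈ S, ¬ Commute x y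

theorem sMk_ne_one {S : Set G} (hS : SNoCentral S) {x : G} (hx : x ∈ S) : sMk S hx ≠ 1 := by
  intro h
  obtain ⟨y, hy, hxy⟩ := hS x hx
  have h1 := Subgroup.mem_center_iff.1 ((QuotientGroup.eq_one_iff _).1 h) ⟨y, Subgroup.subset_closure hy⟩
  exact hxy (congrArg Subtype.val h1).symm

section Set
variable {D S : Set G} (hD : IsThreeTranspositionSet D) (hSD : S ⊆ D)
include hD hSD

theorem commute_sMk_iff {x y : G} (hx : x ∈ S) (hy : y ∈ S) :
    Commute (sMk S hx) (sMk S hy) ↔ Commute x y := by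
  refine ⟨fun hc => ?_, fun hc => ?_⟩
  · set a : ↥(Subgroup.closure S) := ⟨x, Subgroup.subset_closure hx⟩ with ha
    set b : ↥(Subgroup.closure S) := ⟨y, Subgroup.subset_closure hy⟩ with hb
    rcases hD.2 x (hSD hx) y (hSD hy) with h2 | h3
    · rw [sq, mul_eq_one_iff_eq_inv, mul_inv_rev, inv_eq hD (hSD hx), inv_eq hD (hSD hy)] at h2
      exact h2
    · have h2 : (a * b) ^ 2 ∈ Subgroup.center ↥(Subgroup.closure S) := by
        rw [← QuotientGroup.eq_one_iff, QuotientGroup.mk_pow, QuotientGroup.mk_mul, hc.mul_pow,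
          sq, sq, ← QuotientGroup.mk_mul, ← QuotientGroup.mk_mul,
          show a * a = 1 from Subtype.ext (mul_self hD (hSD hx)),
          show b * b = 1 from Subtype.ext (mul_self hD (hSD hy)), QuotientGroup.mk_one, mul_one]
      have h1 : a * b ∈ Subgroup.center ↥(Subgroup.closure S) := by
        have h3' : (a * b) ^ 3 = 1 := Subtype.ext (by simpa using h3)
        have : a * b = ((a * b) ^ 2) ^ 2 := by rw [← pow_mul, pow_succ, h3', one_mul]
        rw [this]; exact pow_mem h2 2
      have h4 : x * (x * y) = x * y * x := congrArg Subtype.val (Subgroup.mem_center_iff.1 h1 a)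
      rw [mul_assoc x y x] at h4
      exact mul_left_cancel h4
  · show _ * _ = _ * _
    rw [← QuotientGroup.mk_mul, ← QuotientGroup.mk_mul]
    exact congrArg QuotientGroup.mk (Subtype.ext hc.eq)

theorem sMk_inj (hS : SNoCentral S) {x y : G} (hx : x ∈ S) (hy : y ∈ S)
    (he : sMk S hx = sMk S hy) : x = y := by
  have hc : Commute x y := (commute_sMk_iff hD hSD hx hy).1 (he ▸ Commute.refl _)
  by_contra hxy
  obtain ⟨z, hz, hxz⟩ := hS x hx
  have h1 := Subgroup.mem_center_iff.1 (QuotientGroup.eq.1 he) ⟨z, Subgroup.subset_closure hz⟩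
  have h2 : z * (x⁻¹ * y) = x⁻¹ * y * z := congrArg Subtype.val h1
  rw [inv_eq hD (hSD hx)] at h2
  exact hxz (commute_of_commute_mul hD (hSD hx) (hSD hy) (hSD hz) hc hxy h2).1.symm

theorem ncard_sImg (hS : SNoCentral S) : (sImg S).ncard = S.ncard := by
  symm
  refine Set.ncard_congr (fun x hx => sMk S hx) (fun x hx => sMk_mem_sImg hx)
    (fun x y hx hy he => sMk_inj hD hSD hS hx hy he) fun q hq => ?_
  obtain ⟨x, hx, rfl⟩ := exists_sMk hq
  exact ⟨x, hx, rfl⟩

/-- The image of a closed set is a generating conjugation-invariant set of 3-transpositions. -/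
theorem isThreeTranspositionGroup_sImg (hS : SNoCentral S) (hcl : ∀ a ∈ S, ∀ b ∈ S, a * b * a ∈ S) :
    IsThreeTranspositionGroup (sImg S) := by
  refine ⟨⟨?_, ?_⟩, ?_, ?_⟩
  · intro q hq
    obtain ⟨x, hx, rfl⟩ := exists_sMk hq
    refine orderOf_eq_prime ?_ (sMk_ne_one hS hx)
    rw [sq, ← QuotientGroup.mk_mul, show (⟨x, Subgroup.subset_closure hx⟩ : ↥(Subgroup.closure S)) *
      ⟨x, Subgroup.subset_closure hx⟩ = 1 from Subtype.ext (mul_self hD (hSD hx)), QuotientGroup.mk_one]
  · intro p hp q hq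
    obtain ⟨x, hx, rfl⟩ := exists_sMk hp
    obtain ⟨y, hy, rfl⟩ := exists_sMk hq
    rw [← QuotientGroup.mk_mul, ← QuotientGroup.mk_pow, ← QuotientGroup.mk_pow]
    refine (hD.2 x (hSD hx) y (hSD hy)).imp (fun he => ?_) (fun he => ?_)
    · rw [show ((⟨x, Subgroup.subset_closure hx⟩ : ↥(Subgroup.closure S)) * ⟨y, Subgroup.subset_closure hy⟩) ^ 2 = 1
        from Subtype.ext (by simpa using he), QuotientGroup.mk_one]
    · rw [show ((⟨x, Subgroup.subset_closure hx⟩ : ↥(Subgroup.closure S)) * ⟨y, Subgroup.subset_closure hy⟩) ^ 3 = 1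
        from Subtype.ext (by simpa using he), QuotientGroup.mk_one]
  · intro q
    induction q using QuotientGroup.induction_on with
    | H g =>
      obtain ⟨g, hg⟩ := g
      intro p hp
      obtain ⟨x, hx, rfl⟩ := exists_sMk hp
      have key : ∀ z ∈ S, g * z * g⁻¹ ∈ S := by
        induction hg using Subgroup.closure_induction'' with
        | one => intro z hz; simpa using hz
        | mem s hs => intro z hz; rw [inv_eq hD (hSD hs)]; exact hcl s hs z hz
        | inv_mem s hs => intro z hz; rw [inv_inv, inv_eq hD (hSD hs)]; exact hcl s hs z hz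
        | mul a b _ _ iha ihb =>
          intro z hz
          rw [show a * b * z * (a * b)⁻¹ = a * (b * z * b⁻¹) * a⁻¹ by group]
          exact iha _ (ihb z hz)
      exact ⟨_, key x hx, rfl⟩
  · rw [eq_top_iff]
    intro q hq
    clear hq
    induction q using QuotientGroup.induction_on with
    | H g =>
      obtain ⟨g, hg⟩ := g
      induction hg using Subgroup.closure_induction with
      | mem x hx => exact Subgroup.subset_closure (sMk_mem_sImg hx)
      | one => exact one_mem _
      | mul x y hx hy ihx ihy => exact mul_mem ihx ihy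
      | inv x hx ihx => exact inv_mem ihx

end Set

/-- Passing to the image in the quotient of a larger set. -/
theorem dIso_sImg_image {D A S : Set G} (hD : IsThreeTranspositionSet D) (hAD : A ⊆ D)
    (hA : SNoCentral A) (hcl : ∀ a ∈ A, ∀ b ∈ A, a * b * a ∈ A) (hSA : S ⊆ A) :
    DIso (sImg S)
      (sImg ((QuotientGroup.mk : ↥(Subgroup.closure A) → SQuot A) '' {x | (x : G) ∈ S})) := by
  have h1 : DIso (sImg S) (sImg ({x : ↥(Subgroup.closure A) | (x : G) ∈ S})) := by
    refine (DIso.symm ?_)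
    have h := dIso_sImg_subgroup (H := Subgroup.closure A) {x | (x : G) ∈ S}
    rwa [show (Subgroup.closure A).subtype '' {x | (x : G) ∈ S} = S from
      Set.Subset.antisymm (by rintro _ ⟨x, hx, rfl⟩; exact hx)
        fun s hs => ⟨⟨s, Subgroup.subset_closure (hSA hs)⟩, hs, rfl⟩] at h
  refine h1.trans (dIso_sImg_of_hom (QuotientGroup.mk' (Subgroup.center _)) _ fun x hx s hs hc => ?_)
  have hsA : (s : G) ∈ A := hSA hs
  have hconj : (x : G) * s * (x : G)⁻¹ ∈ A := by
    obtain ⟨x, hxA⟩ := x
    clear hc hx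
    show x * (s : G) * x⁻¹ ∈ A
    suffices h : ∀ t ∈ A, x * t * x⁻¹ ∈ A from h _ hsA
    induction hxA using Subgroup.closure_induction'' with
    | one => intro t ht; simpa using ht
    | mem a ha => intro t ht; rw [inv_eq hD (hAD ha)]; exact hcl a ha t ht
    | inv_mem a ha => intro t ht; rw [inv_inv, inv_eq hD (hAD ha)]; exact hcl a ha t ht
    | mul a b _ _ iha ihb =>
      intro t ht
      rw [show a * b * t * (a * b)⁻¹ = a * (b * t * b⁻¹) * a⁻¹ by group]
      exact iha _ (ihb _ ht)
  have he : sMk A hconj = sMk A hsA := by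
    show (QuotientGroup.mk (x * s * x⁻¹) : SQuot A) = QuotientGroup.mk s
    rw [QuotientGroup.mk_mul, QuotientGroup.mk_mul, QuotientGroup.mk_inv, mul_inv_eq_iff_eq_mul]
    exact hc
  exact Subtype.ext (mul_inv_eq_iff_eq_mul.1 (sMk_inj hD hAD hA hconj hsA he))

end CfsgLib.FischerThm
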